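import Cfsg.Agent.Lib.JThreeType.Table

/-!
# An elementary group of order sixteen normalised by `3 × A₅`

Letters `0, …, 5` are `a, b, b⁻¹, k, k⁻¹, e`; the coordinates of the elementary group refer to the basis
`e, e^k, e^a, e^{ak}`.

* `Frame.conj_letter`: the action of the five letters in coordinates
* `Frame.val_eq`: the value of a word
-/

set_option autoImplicit false
set_option linter.style.haveILetI false

namespace Cfsg.Agent.JThreeType

open Table.Cert (val val_cons val_append val_nil)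

namespace Action

/-- A linear map of bit vectors given by the images of the basis. -/
def ap (im : List ℕ) (m : ℕ) : ℕ :=
  (bif m.testBit 0 then im.getD 0 0 else 0) ^^^ (bif m.testBit 1 then im.getD 1 0 else 0) ^^^
    (bif m.testBit 2 then im.getD 2 0 else 0) ^^^ (bif m.testBit 3 then im.getD 3 0 else 0)

/-- The images of the basis under the five letters. -/
def imgs : List (List ℕ) := [[4, 8, 1, 2], [3, 1, 10, 15], [2, 3, 14, 7], [2, 3, 8, 12], [3, 1, 12, 4]]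

/-- The action of a letter. -/
def act (l m : ℕ) : ℕ := ap (imgs.getD l []) m

/-- The vector part of a word. -/
def fold : ℕ → List ℕ → ℕ
  | v, [] => v
  | v, l :: r => fold (if l = 5 then v ^^^ 1 else act l v) r

/-- The images of the basis under `b`, when `b` sends `e^a` to the vector `x`. -/
def candB (x : ℕ) : List ℕ := [3, 1, x, ap [2, 3, 8, 12] x]

/-- The action of a word in `a, b, b⁻¹` for a candidate. -/
def candAct (x : ℕ) : List ℕ → ℕ → ℕ
  | [], v => v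
  | 0 :: r, v => candAct x r (ap [4, 8, 1, 2] v)
  | 1 :: r, v => candAct x r (ap (candB x) v)
  | _ :: r, v => candAct x r (ap (candB x) (ap (candB x) v))

theorem cand_unique : ∀ x < 16, (∀ v < 16, candAct x [0, 1, 0, 1, 0, 1, 0, 1, 0, 1] v = v) →
    candAct x [1, 0, 1, 0, 2, 0, 2] 1 = 1 → x = 10 := by decide +kernel

theorem xor_lt {m n : ℕ} (hm : m < 16) (hn : n < 16) : m ^^^ n < 16 := Nat.xor_lt_two_pow (n := 4) hm hn

theorem ap_lt {im : List ℕ} (h : ∀ i, im.getD i 0 < 16) (m : ℕ) : ap im m < 16 := by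
  have hc : ∀ (b : Bool) (i : ℕ), (bif b then im.getD i 0 else 0) < 16 := fun b i => by
    cases b <;> simp only [cond_true, cond_false]
    exacts [by norm_num, h i]
  exact xor_lt (xor_lt (xor_lt (hc _ _) (hc _ _)) (hc _ _)) (hc _ _)

theorem ap_mod (im : List ℕ) (v : ℕ) : ap im v = ap im (v % 16) := by
  have h : ∀ i < 4, (v % 16).testBit i = v.testBit i := fun i hi => by
    rw [show (16 : ℕ) = 2 ^ 4 from rfl, Nat.testBit_mod_two_pow]; simp [hi]
  rw [ap, ap, h 0 (by norm_num), h 1 (by norm_num), h 2 (by norm_num), h 3 (by norm_num)]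

theorem comp_b (m : ℕ) : ap [3, 1, 10, 15] (ap [3, 1, 10, 15] m) = act 2 m := by
  have key : ∀ v < 16, ap [3, 1, 10, 15] (ap [3, 1, 10, 15] v) = ap [2, 3, 14, 7] v := by decide +kernel
  show _ = ap [2, 3, 14, 7] m
  rw [ap_mod _ m, ap_mod [2, 3, 14, 7] m]
  exact key _ (Nat.mod_lt _ (by norm_num))

theorem comp_k (m : ℕ) : ap [2, 3, 8, 12] (ap [2, 3, 8, 12] m) = act 4 m := by
  have key : ∀ v < 16, ap [2, 3, 8, 12] (ap [2, 3, 8, 12] v) = ap [3, 1, 12, 4] v := by decide +kernel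
  show _ = ap [3, 1, 12, 4] m
  rw [ap_mod _ m, ap_mod [3, 1, 12, 4] m]
  exact key _ (Nat.mod_lt _ (by norm_num))

end Action

open Cfsg.Agent.JThreeType.Action

variable {G : Type*} [Group G]

/-- `e` lies in an elementary group of order sixteen normalised by the five letters. -/
structure Frame (g : ℕ → G) where
  E : Subgroup G
  card : Nat.card E = 16
  sq : ∀ v ∈ E, v * v = 1
  eE : g 5 ∈ E
  norm : ∀ l < 5, ∀ v ∈ E, (g l)⁻¹ * v * g l ∈ E
  inv1 : g 2 * g 1 = 1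
  inv3 : g 4 * g 3 = 1
  aa : g 0 * g 0 = 1
  b3 : g 1 * g 1 * g 1 = 1
  k3 : g 3 * g 3 * g 3 = 1
  ak : g 0 * g 3 = g 3 * g 0
  bk : g 1 * g 3 = g 3 * g 1
  ksum : ∀ v ∈ E, (g 3)⁻¹ * ((g 3)⁻¹ * v * g 3) * g 3 = v * ((g 3)⁻¹ * v * g 3)
  eb : (g 1)⁻¹ * g 5 * g 1 = g 5 * ((g 3)⁻¹ * g 5 * g 3)
  move : (g 0)⁻¹ * g 5 * g 0 ≠ 1 ∧ (g 0)⁻¹ * g 5 * g 0 ≠ g 5 ∧
    (g 0)⁻¹ * g 5 * g 0 ≠ (g 3)⁻¹ * g 5 * g 3 ∧ (g 0)⁻¹ * g 5 * g 0 ≠ g 5 * ((g 3)⁻¹ * g 5 * g 3)
  e_ne : g 5 ≠ 1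
  five : val g [0, 1, 0, 1, 0, 1, 0, 1, 0, 1] = 1
  we : val g [1, 0, 1, 0, 2, 0, 2] * g 5 = g 5 * val g [1, 0, 1, 0, 2, 0, 2]

namespace Frame

variable {g : ℕ → G} (F : Frame g)

/-- A bit times an element. -/
def pick (b : Bool) (u : G) : G := bif b then u else 1

/-- The element with given coordinates. -/
def phi (_F : Frame g) (m : ℕ) : G :=
  pick (m.testBit 0) (g 5) * pick (m.testBit 1) ((g 3)⁻¹ * g 5 * g 3) * pick (m.testBit 2) ((g 0)⁻¹ * g 5 * g 0) *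
    pick (m.testBit 3) ((g 3)⁻¹ * ((g 0)⁻¹ * g 5 * g 0) * g 3)

include F in
theorem comm {u v : G} (hu : u ∈ F.E) (hv : v ∈ F.E) : u * v = v * u := by
  have h := F.sq _ (mul_mem hu hv)
  rw [eq_inv_of_mul_eq_one_left h, mul_inv_rev, inv_eq_of_mul_eq_one_right (F.sq u hu),
    inv_eq_of_mul_eq_one_right (F.sq v hv)]

theorem e1_mem : (g 3)⁻¹ * g 5 * g 3 ∈ F.E := F.norm 3 (by norm_num) _ F.eE
theorem e2_mem : (g 0)⁻¹ * g 5 * g 0 ∈ F.E := F.norm 0 (by norm_num) _ F.eE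
theorem e3_mem : (g 3)⁻¹ * ((g 0)⁻¹ * g 5 * g 0) * g 3 ∈ F.E := F.norm 3 (by norm_num) _ F.e2_mem

theorem pick_mem {u : G} (hu : u ∈ F.E) (b : Bool) : pick b u ∈ F.E := by
  cases b
  exacts [one_mem _, hu]

theorem phi_mem (m : ℕ) : F.phi m ∈ F.E :=
  mul_mem (mul_mem (mul_mem (F.pick_mem F.eE _) (F.pick_mem F.e1_mem _)) (F.pick_mem F.e2_mem _))
    (F.pick_mem F.e3_mem _)

theorem pick_xor {u : G} (hu : u ∈ F.E) (b c : Bool) : pick b u * pick c u = pick (Bool.xor b c) u := by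
  cases b <;> cases c <;> simp [pick, F.sq u hu]

theorem phi_xor (m n : ℕ) : F.phi (m ^^^ n) = F.phi m * F.phi n := by
  simp only [phi, Nat.testBit_xor]
  set e1 := (g 3)⁻¹ * g 5 * g 3 with h1
  set e2 := (g 0)⁻¹ * g 5 * g 0 with h2
  set e3 := (g 3)⁻¹ * e2 * g 3 with h3
  have hm := fun (b : Bool) => F.pick_mem (u := g 5) F.eE b
  have hm1 := fun (b : Bool) => F.pick_mem (u := e1) (h1 ▸ F.e1_mem) b
  have hm2 := fun (b : Bool) => F.pick_mem (u := e2) (h2 ▸ F.e2_mem) b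
  have hm3 := fun (b : Bool) => F.pick_mem (u := e3) F.e3_mem b
  rw [← F.pick_xor F.eE, ← F.pick_xor F.e1_mem, ← F.pick_xor F.e2_mem, ← F.pick_xor F.e3_mem]
  have key : ∀ p q : G, p ∈ F.E → q ∈ F.E → ∀ p' q', p' ∈ F.E → q' ∈ F.E →
      (p * q) * (p' * q') = (p * p') * (q * q') := fun p q _ hq p' q' hp' _ => by
    rw [mul_assoc, ← mul_assoc q, F.comm hq hp', mul_assoc p', ← mul_assoc]
  symm
  rw [key _ _ (mul_mem (mul_mem (hm _) (hm1 _)) (hm2 _)) (hm3 _) _ _ (mul_mem (mul_mem (hm _) (hm1 _)) (hm2 _))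
    (hm3 _), key _ _ (mul_mem (hm _) (hm1 _)) (hm2 _) _ _ (mul_mem (hm _) (hm1 _)) (hm2 _),
    key _ _ (hm _) (hm1 _) _ _ (hm _) (hm1 _)]

theorem phi_zero : F.phi 0 = 1 := by simp [phi, pick]

theorem phi_one : F.phi 1 = g 5 := by simp [phi, pick, Nat.testBit, Nat.shiftRight_eq_div_pow]

/-- The four basis vectors. -/
theorem phi_basis : F.phi 2 = (g 3)⁻¹ * g 5 * g 3 ∧ F.phi 4 = (g 0)⁻¹ * g 5 * g 0 ∧
    F.phi 8 = (g 3)⁻¹ * ((g 0)⁻¹ * g 5 * g 0) * g 3 ∧ F.phi 3 = g 5 * ((g 3)⁻¹ * g 5 * g 3) := by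
  refine ⟨?_, ?_, ?_, ?_⟩ <;> simp [phi, pick, Nat.testBit, Nat.shiftRight_eq_div_pow]

/-- A conjugation given on the basis is given by the linear map. -/
theorem conj_of_basis (u : G) (im : List ℕ) (h0 : u⁻¹ * g 5 * u = F.phi (im.getD 0 0))
    (h1 : u⁻¹ * F.phi 2 * u = F.phi (im.getD 1 0)) (h2 : u⁻¹ * F.phi 4 * u = F.phi (im.getD 2 0))
    (h3 : u⁻¹ * F.phi 8 * u = F.phi (im.getD 3 0)) (m : ℕ) : u⁻¹ * F.phi m * u = F.phi (ap im m) := by
  obtain ⟨b2, b4, b8, -⟩ := F.phi_basis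
  rw [b2] at h1
  rw [b4] at h2
  rw [b8] at h3
  have hp : ∀ (b : Bool) (v : G) (i : ℕ), u⁻¹ * v * u = F.phi (im.getD i 0) →
      u⁻¹ * pick b v * u = F.phi (bif b then im.getD i 0 else 0) := by
    intro b v i h
    cases b
    · simp [pick, F.phi_zero]
    · simpa [pick] using h
  rw [ap, F.phi_xor, F.phi_xor, F.phi_xor, ← hp _ _ _ h0, ← hp _ _ _ h1, ← hp _ _ _ h2, ← hp _ _ _ h3, phi]
  group

theorem conj_phi_comp {u v : G} {im jm : List ℕ} (hu : ∀ m, u⁻¹ * F.phi m * u = F.phi (ap im m))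
    (hv : ∀ m, v⁻¹ * F.phi m * v = F.phi (ap jm m)) (m : ℕ) :
    (u * v)⁻¹ * F.phi m * (u * v) = F.phi (ap jm (ap im m)) := by
  rw [← hv, ← hu]; group

theorem conj_a (m : ℕ) : (g 0)⁻¹ * F.phi m * g 0 = F.phi (ap [4, 8, 1, 2] m) := by
  obtain ⟨b2, b4, b8, -⟩ := F.phi_basis
  have hi : (g 0)⁻¹ = g 0 := inv_eq_of_mul_eq_one_right F.aa
  refine F.conj_of_basis _ _ ?_ ?_ ?_ ?_ m <;>
    simp only [List.getD_cons_zero, List.getD_cons_succ, F.phi_one, b2, b4, b8]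
  · calc (g 0)⁻¹ * ((g 3)⁻¹ * g 5 * g 3) * g 0 = (g 3 * g 0)⁻¹ * g 5 * (g 3 * g 0) := by group
      _ = _ := by rw [← F.ak]; group
  · rw [hi]; calc g 0 * (g 0 * g 5 * g 0) * g 0 = (g 0 * g 0) * g 5 * (g 0 * g 0) := by group
      _ = _ := by rw [F.aa, one_mul, mul_one]
  · calc (g 0)⁻¹ * ((g 3)⁻¹ * ((g 0)⁻¹ * g 5 * g 0) * g 3) * g 0
          = (g 3 * g 0)⁻¹ * ((g 0)⁻¹ * g 5 * g 0) * (g 3 * g 0) := by group
      _ = (g 0 * g 0 * g 3)⁻¹ * g 5 * (g 0 * g 0 * g 3) := by rw [← F.ak]; group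
      _ = _ := by rw [F.aa, one_mul]

theorem conj_k (m : ℕ) : (g 3)⁻¹ * F.phi m * g 3 = F.phi (ap [2, 3, 8, 12] m) := by
  obtain ⟨b2, b4, b8, b3⟩ := F.phi_basis
  refine F.conj_of_basis _ _ ?_ ?_ ?_ ?_ m <;>
    simp only [List.getD_cons_zero, List.getD_cons_succ, F.phi_one, b2, b4, b8, b3]
  · exact F.ksum _ F.eE
  · rw [F.ksum _ F.e2_mem, show (12 : ℕ) = 4 ^^^ 8 from rfl, F.phi_xor, b4, b8]

theorem phi_ne_zero : ∀ m < 16, m ≠ 0 → F.phi m ≠ 1 := by
  obtain ⟨b2, b4, b8, b3⟩ := F.phi_basis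
  obtain ⟨n0, n1, n2, n3⟩ := F.move
  have W : ∀ m < 4, m ≠ 0 → F.phi m ≠ 1 := by
    intro m hm h0
    have hk1 : (g 3)⁻¹ * g 5 * g 3 ≠ 1 := fun h => F.e_ne (by
      have : g 5 = g 3 * ((g 3)⁻¹ * g 5 * g 3) * (g 3)⁻¹ := by group
      rw [this, h, mul_one, mul_inv_cancel])
    interval_cases m
    · exact absurd rfl h0
    · rw [F.phi_one]; exact F.e_ne
    · rw [b2]; exact hk1
    · rw [b3]
      intro h
      have := F.ksum _ F.eE
      rw [h] at this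
      refine hk1 ?_
      calc (g 3)⁻¹ * g 5 * g 3 = g 3 * ((g 3)⁻¹ * ((g 3)⁻¹ * g 5 * g 3) * g 3) * (g 3)⁻¹ := by group
        _ = 1 := by rw [this, mul_one, mul_inv_cancel]
  have hW4 : ∀ m < 4, F.phi 4 ≠ F.phi m := by
    intro m hm
    interval_cases m
    · rw [F.phi_zero, b4]; exact n0
    · rw [F.phi_one, b4]; exact n1
    · rw [b4, b2]; exact n2
    · rw [b4, b3]; exact n3
  have hsplit : ∀ p q, F.phi (p ^^^ q) = 1 → F.phi p = F.phi q := by
    intro p q h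
    rw [F.phi_xor] at h
    rw [eq_inv_of_mul_eq_one_left h, inv_eq_of_mul_eq_one_right (F.sq _ (F.phi_mem q))]
  have hk : ∀ m, F.phi m = 1 → F.phi (ap [2, 3, 8, 12] m) = 1 := fun m h => by rw [← F.conj_k, h]; group
  intro m hm h0 h
  have h' := hk m h
  have h'' := hk _ h'
  -- some multiple of the vector has top part `4`, or the top part vanishes
  obtain ⟨p, hp, hpp⟩ : ∃ p, F.phi p = 1 ∧ ((p < 4 ∧ p ≠ 0) ∨ ∃ q < 4, p = 4 ^^^ q) := by
    have key : ∀ m < 16, m ≠ 0 → ∃ p ∈ [m, ap [2, 3, 8, 12] m, ap [2, 3, 8, 12] (ap [2, 3, 8, 12] m)],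
        (p < 4 ∧ p ≠ 0) ∨ ∃ q < 4, p = 4 ^^^ q := by decide +kernel
    obtain ⟨p, hp, hpp⟩ := key m hm h0
    refine ⟨p, ?_, hpp⟩
    simp only [List.mem_cons, List.not_mem_nil, or_false] at hp
    rcases hp with rfl | rfl | rfl <;> assumption
  rcases hpp with ⟨h4, hp0⟩ | ⟨q, hq, rfl⟩
  · exact W p h4 hp0 hp
  · exact hW4 q hq (hsplit 4 q hp)

theorem phi_inj {m n : ℕ} (hm : m < 16) (hn : n < 16) (h : F.phi m = F.phi n) : m = n := by
  by_contra hne
  refine F.phi_ne_zero _ (xor_lt hm hn) (fun e => hne (Nat.xor_eq_zero_iff.1 e)) ?_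
  rw [F.phi_xor, h, F.sq _ (F.phi_mem n)]

theorem phi_surj {v : G} (hv : v ∈ F.E) : ∃ m < 16, v = F.phi m := by
  haveI : Finite F.E := Nat.finite_of_card_ne_zero (by rw [F.card]; norm_num)
  let f : Fin 16 → F.E := fun m => ⟨F.phi m, F.phi_mem m⟩
  have hf : Function.Injective f := fun m n e => Fin.ext (F.phi_inj m.2 n.2 (congrArg Subtype.val e))
  obtain ⟨m, hm⟩ := ((Nat.bijective_iff_injective_and_card f).2 ⟨hf, by rw [Nat.card_fin, F.card]⟩).2 ⟨v, hv⟩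
  exact ⟨m, m.2, (congrArg Subtype.val hm).symm⟩

theorem conj_b : ∀ m, (g 1)⁻¹ * F.phi m * g 1 = F.phi (ap [3, 1, 10, 15] m) := by
  obtain ⟨b2, b4, b8, b3⟩ := F.phi_basis
  obtain ⟨x, hx, hxe⟩ := F.phi_surj (F.norm 1 (by norm_num) _ F.e2_mem)
  have h : ∀ m, (g 1)⁻¹ * F.phi m * g 1 = F.phi (ap (candB x) m) := by
    refine F.conj_of_basis _ _ ?_ ?_ ?_ ?_ <;>
      simp only [candB, List.getD_cons_zero, List.getD_cons_succ, F.phi_one, b2, b4, b8, b3]
    · exact F.eb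
    · calc (g 1)⁻¹ * ((g 3)⁻¹ * g 5 * g 3) * g 1 = (g 3 * g 1)⁻¹ * g 5 * (g 3 * g 1) := by group
        _ = (g 3)⁻¹ * ((g 1)⁻¹ * g 5 * g 1) * g 3 := by rw [← F.bk]; group
        _ = (g 3)⁻¹ * g 5 * g 3 * ((g 3)⁻¹ * ((g 3)⁻¹ * g 5 * g 3) * g 3) := by rw [F.eb]; group
        _ = g 5 := by
          rw [F.ksum _ F.eE, F.comm F.eE F.e1_mem, ← mul_assoc, F.sq _ F.e1_mem, one_mul]
    · exact hxe
    · calc (g 1)⁻¹ * ((g 3)⁻¹ * ((g 0)⁻¹ * g 5 * g 0) * g 3) * g 1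
            = (g 3 * g 1)⁻¹ * ((g 0)⁻¹ * g 5 * g 0) * (g 3 * g 1) := by group
        _ = (g 3)⁻¹ * ((g 1)⁻¹ * ((g 0)⁻¹ * g 5 * g 0) * g 1) * g 3 := by rw [← F.bk]; group
        _ = _ := by rw [hxe, F.conj_k]
  have hB : g 2 = g 1 * g 1 := by
    rw [eq_inv_of_mul_eq_one_left F.inv1, inv_eq_of_mul_eq_one_right (by rw [← mul_assoc]; exact F.b3)]
  have hact : ∀ w : List ℕ, (∀ l ∈ w, l < 3) → ∀ m,
      (val g w)⁻¹ * F.phi m * val g w = F.phi (candAct x w m) := by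
    intro w
    induction w with
    | nil => intro _ m; simp [candAct, val_nil]
    | cons l w ih =>
      intro hw m
      have hl := hw l List.mem_cons_self
      have ih' := ih (fun y hy => hw y (List.mem_cons_of_mem _ hy))
      rw [val_cons, show (g l * val g w)⁻¹ * F.phi m * (g l * val g w) =
        (val g w)⁻¹ * ((g l)⁻¹ * F.phi m * g l) * val g w by group]
      interval_cases l
      · rw [F.conj_a, ih', candAct]
      · rw [h, ih', candAct]
      · rw [hB, F.conj_phi_comp h h, ih', candAct] <;> simp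
  have hx10 : x = 10 := by
    refine Action.cand_unique x hx (fun v hv => ?_) ?_
    · have := hact [0, 1, 0, 1, 0, 1, 0, 1, 0, 1] (by decide) v
      rw [F.five] at this
      have hlt : candAct x [0, 1, 0, 1, 0, 1, 0, 1, 0, 1] v < 16 := by
        have := (show ∀ x < 16, ∀ v < 16, candAct x [0, 1, 0, 1, 0, 1, 0, 1, 0, 1] v < 16 by decide +kernel)
        exact this x hx v hv
      exact (F.phi_inj hv hlt (by simpa using this)).symm
    · have := hact [1, 0, 1, 0, 2, 0, 2] (by decide) 1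
      rw [F.phi_one, mul_assoc, ← F.we, inv_mul_cancel_left, ← F.phi_one] at this
      have hlt := (show ∀ x < 16, candAct x [1, 0, 1, 0, 2, 0, 2] 1 < 16 by decide +kernel) x hx
      exact (F.phi_inj (by norm_num) hlt this).symm
  intro m
  rw [h, hx10]
  rfl

theorem conj_letter {l : ℕ} (hl : l < 5) (m : ℕ) : (g l)⁻¹ * F.phi m * g l = F.phi (act l m) := by
  have h2 : g 2 = g 1 * g 1 := by
    rw [eq_inv_of_mul_eq_one_left F.inv1, inv_eq_of_mul_eq_one_right (by rw [← mul_assoc]; exact F.b3)]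
  have h4 : g 4 = g 3 * g 3 := by
    rw [eq_inv_of_mul_eq_one_left F.inv3, inv_eq_of_mul_eq_one_right (by rw [← mul_assoc]; exact F.k3)]
  interval_cases l
  · exact F.conj_a m
  · exact F.conj_b m
  · rw [h2, F.conj_phi_comp F.conj_b F.conj_b]
    exact congrArg F.phi (Action.comp_b m)
  · exact F.conj_k m
  · rw [h4, F.conj_phi_comp F.conj_k F.conj_k]
    exact congrArg F.phi (Action.comp_k m)

/-- A word in the six letters is the word without `e` times an element of `E`. -/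
theorem val_eq (r : List ℕ) (h : ∀ l ∈ r, l < 6) : ∀ v,
    F.phi v * val g r = val g (r.filter (· != 5)) * F.phi (fold v r) := by
  induction r with
  | nil => intro v; simp [fold, val_nil]
  | cons l r ih =>
    intro v
    have ih' := ih (fun y hy => h y (List.mem_cons_of_mem _ hy))
    rw [val_cons, fold]
    by_cases h5 : l = 5
    · subst h5
      rw [if_pos rfl, List.filter_cons_of_neg (by simp), ← ih', F.phi_xor, F.phi_one, mul_assoc]
    · have hl : l < 5 := by have := h l List.mem_cons_self; omega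
      rw [if_neg h5, List.filter_cons_of_pos (by simpa using h5), val_cons, mul_assoc, ← ih', ← mul_assoc,
        ← mul_assoc, ← F.conj_letter hl]
      group

include F in
theorem val_one {r : List ℕ} (hr : ∀ l ∈ r, l < 6) (hf : fold 0 r = 0) (he : val g (r.filter (· != 5)) = 1) :
    val g r = 1 := by
  have h := F.val_eq r hr 0
  rwa [F.phi_zero, one_mul, hf, F.phi_zero, mul_one, he] at h

end Frame

end Cfsg.Agent.JThreeType
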