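import Cfsg.Agent.Lib.JThreeType.Table

/-!
# Facts on the alternating group of degree six
-/

set_option autoImplicit false
namespace Cfsg.Agent.JThreeType
open Table.Cert (val)
namespace AltSix
/-- standard involution -/
def a6 : Equiv.Perm (Fin 6) := Equiv.swap 0 1 * Equiv.swap 2 3
/-- standard element of order three -/
def b6 : Equiv.Perm (Fin 6) := Equiv.swap 1 4 * Equiv.swap 4 2
/-- the other involution -/
def y6 : Equiv.Perm (Fin 6) := Equiv.swap 1 3 * Equiv.swap 4 5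
/-- product of order five -/
def x6 : Equiv.Perm (Fin 6) := a6 * b6
/-- the image of `b6` under the outer automorphism -/
def Y6 : Equiv.Perm (Fin 6) := y6 * x6
/-- letters -/
def lett (a b : Equiv.Perm (Fin 6)) (l : ℕ) : Equiv.Perm (Fin 6) := [a, b, b⁻¹].getD l 1

theorem basic : Equiv.Perm.sign a6 = 1 ∧ Equiv.Perm.sign b6 = 1 ∧ a6 5 = 5 ∧ b6 5 = 5 ∧ a6 ≠ 1 ∧ b6 ≠ 1 ∧ x6 ≠ 1 ∧
    a6 * a6 = 1 ∧ b6 * b6 * b6 = 1 ∧ x6 ^ 5 = 1 := by decide +kernel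
theorem w_ok : let w := val (lett a6 b6) [1, 0, 1, 0, 2, 0, 2]
    w * w = 1 ∧ w ≠ 1 ∧ w * x6 * w = x6⁻¹ := by decide +kernel
theorem f_ok : let w := val (lett a6 b6) [1, 0, 1, 0, 2, 0, 2]
    let f := val (lett a6 b6) [0, 1, 0, 2, 0]
    f * f = 1 ∧ f ≠ 1 ∧ f ≠ w ∧ f * w = w * f := by decide +kernel
theorem inv_x : ∀ c : Equiv.Perm (Fin 6), Equiv.Perm.sign c = 1 → c * x6 * c⁻¹ = x6⁻¹ → c * c = 1 := by decide +kernel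
theorem cent_x : ∀ c : Equiv.Perm (Fin 6), Equiv.Perm.sign c = 1 → c * x6 = x6 * c → ∃ i : Fin 5, c = x6 ^ (i : ℕ) := by
  decide +kernel
theorem image_cases : ∀ y : Equiv.Perm (Fin 6), Equiv.Perm.sign y = 1 → y * y = 1 → (y * x6) ^ 3 = 1 →
    val (lett y (y * x6)) [1, 0, 1, 0, 2, 0, 2] = val (lett a6 b6) [1, 0, 1, 0, 2, 0, 2] → y = a6 ∨ y = y6 := by
  decide +kernel
theorem three_class : ∀ τ : Equiv.Perm (Fin 6), Equiv.Perm.sign τ = 1 → τ * τ * τ = 1 → τ ≠ 1 →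
    ∃ σ : Equiv.Perm (Fin 6), Equiv.Perm.sign σ = 1 ∧ (σ * τ * σ⁻¹ = b6 ∨ σ * τ * σ⁻¹ = b6⁻¹ ∨ σ * τ * σ⁻¹ = Y6 ∨
      σ * τ * σ⁻¹ = Y6⁻¹) := by decide +kernel
theorem inverter_b : ∃ σ : Equiv.Perm (Fin 6), Equiv.Perm.sign σ = 1 ∧ σ 5 = 5 ∧ σ * b6 * σ⁻¹ = b6⁻¹ := by
  decide +kernel
theorem class_ne : ∀ σ : Equiv.Perm (Fin 6), σ * Y6 * σ⁻¹ ≠ b6 ∧ σ * Y6 * σ⁻¹ ≠ b6⁻¹ := by decide +kernel
theorem pair_ok : let v := val (lett y6 Y6) [1, 0, 1, 0, 2]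
    b6 * v = v * b6 ∧ v * v * v = 1 ∧ ∀ i j : Fin 3, b6 ^ (i : ℕ) * v ^ (j : ℕ) = 1 → i = 0 ∧ j = 0 := by decide +kernel
theorem pair_inj : let v := val (lett y6 Y6) [1, 0, 1, 0, 2]
    ∀ i j i' j' : Fin 3, b6 ^ (i : ℕ) * v ^ (j : ℕ) = b6 ^ (i' : ℕ) * v ^ (j' : ℕ) → i = i' ∧ j = j' := by
  decide +kernel
theorem rel_ok : a6 * b6 * a6 * (val (lett y6 Y6) [1, 0, 2]) * b6 * Y6 * b6⁻¹ * b6⁻¹ = 1 := by decide +kernel
end AltSix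
end Cfsg.Agent.JThreeType
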