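import Cfsg.Agent.Lib.JThreeType.BigRels
import Cfsg.Agent.Lib.JThreeType.BigDataUp
import Cfsg.Agent.Lib.JThreeType.BigData0
import Cfsg.Agent.Lib.JThreeType.BigData1
import Cfsg.Agent.Lib.JThreeType.BigData2
import Cfsg.Agent.Lib.JThreeType.BigData3
import Cfsg.Agent.Lib.JThreeType.BigData4
import Cfsg.Agent.Lib.JThreeType.BigData5
import Cfsg.Agent.Lib.JThreeType.BigData6

/-!
# Certificates: the table of 18468 cosets
-/

set_option autoImplicit false
set_option maxRecDepth 100000
set_option maxHeartbeats 2000000

namespace Cfsg.Agent.JThreeType.Table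

/-- The table. -/
def bigCert : Cert where
  n := 18468
  inv := [0, 2, 1, 4, 3, 5, 6]
  subs := bigSubs
  rels := bigRels
  ws := bigLoops
  tab := [bigTab0, bigTab1, bigTab2, bigTab3, bigTab4, bigTab5, bigTab6]
  up := bigUp

theorem bigCert_head : bigCert.headOK = true := by decide +kernel

end Cfsg.Agent.JThreeType.Table
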