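import Cfsg.Agent.Lib.JThreeType.Big

/-!
# Certificates: check of the blocks 32 to 47 of the table of 18468 cosets
-/

set_option autoImplicit false
set_option maxRecDepth 100000
set_option maxHeartbeats 2000000
set_option Elab.async false

namespace Cfsg.Agent.JThreeType.Table

theorem bigCert_range32 : bigCert.rangeOK 32 4 = true := by decide +kernel

theorem bigCert_range36 : bigCert.rangeOK 36 4 = true := by decide +kernel

theorem bigCert_range40 : bigCert.rangeOK 40 4 = true := by decide +kernel

theorem bigCert_range44 : bigCert.rangeOK 44 4 = true := by decide +kernel

end Cfsg.Agent.JThreeType.Table
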