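import Cfsg.Agent.Lib.JThreeType.BigCheck0
import Cfsg.Agent.Lib.JThreeType.BigCheck1
import Cfsg.Agent.Lib.JThreeType.BigCheck2
import Cfsg.Agent.Lib.JThreeType.BigCheck3
import Cfsg.Agent.Lib.JThreeType.BigCheck4
import Cfsg.Agent.Lib.JThreeType.BigCheck5
import Cfsg.Agent.Lib.JThreeType.BigCheck6
import Cfsg.Agent.Lib.JThreeType.BigCheck7
import Cfsg.Agent.Lib.JThreeType.BigCheck8
import Cfsg.Agent.Lib.JThreeType.BigCheck9

/-!
# Certificates: the table of 18468 cosets is valid

* `bigCert_facts`
-/

set_option autoImplicit false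

namespace Cfsg.Agent.JThreeType.Table

theorem bigCert_facts : bigCert.Facts := by
  refine Cert.facts bigCert_head (hi := 145) ?_ (by show 18468 ≤ 128 * 145; norm_num)
  have h0 := Cert.blocks_of_ranges (hi := 4) bigCert_range0 (fun q hq => absurd hq (by omega)) rfl
  have h1 := Cert.blocks_of_ranges (hi := 8) bigCert_range4 h0 rfl
  have h2 := Cert.blocks_of_ranges (hi := 12) bigCert_range8 h1 rfl
  have h3 := Cert.blocks_of_ranges (hi := 16) bigCert_range12 h2 rfl
  have h4 := Cert.blocks_of_ranges (hi := 20) bigCert_range16 h3 rfl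
  have h5 := Cert.blocks_of_ranges (hi := 24) bigCert_range20 h4 rfl
  have h6 := Cert.blocks_of_ranges (hi := 28) bigCert_range24 h5 rfl
  have h7 := Cert.blocks_of_ranges (hi := 32) bigCert_range28 h6 rfl
  have h8 := Cert.blocks_of_ranges (hi := 36) bigCert_range32 h7 rfl
  have h9 := Cert.blocks_of_ranges (hi := 40) bigCert_range36 h8 rfl
  have h10 := Cert.blocks_of_ranges (hi := 44) bigCert_range40 h9 rfl
  have h11 := Cert.blocks_of_ranges (hi := 48) bigCert_range44 h10 rfl
  have h12 := Cert.blocks_of_ranges (hi := 52) bigCert_range48 h11 rfl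
  have h13 := Cert.blocks_of_ranges (hi := 56) bigCert_range52 h12 rfl
  have h14 := Cert.blocks_of_ranges (hi := 60) bigCert_range56 h13 rfl
  have h15 := Cert.blocks_of_ranges (hi := 64) bigCert_range60 h14 rfl
  have h16 := Cert.blocks_of_ranges (hi := 68) bigCert_range64 h15 rfl
  have h17 := Cert.blocks_of_ranges (hi := 72) bigCert_range68 h16 rfl
  have h18 := Cert.blocks_of_ranges (hi := 76) bigCert_range72 h17 rfl
  have h19 := Cert.blocks_of_ranges (hi := 80) bigCert_range76 h18 rfl
  have h20 := Cert.blocks_of_ranges (hi := 84) bigCert_range80 h19 rfl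
  have h21 := Cert.blocks_of_ranges (hi := 88) bigCert_range84 h20 rfl
  have h22 := Cert.blocks_of_ranges (hi := 92) bigCert_range88 h21 rfl
  have h23 := Cert.blocks_of_ranges (hi := 96) bigCert_range92 h22 rfl
  have h24 := Cert.blocks_of_ranges (hi := 100) bigCert_range96 h23 rfl
  have h25 := Cert.blocks_of_ranges (hi := 104) bigCert_range100 h24 rfl
  have h26 := Cert.blocks_of_ranges (hi := 108) bigCert_range104 h25 rfl
  have h27 := Cert.blocks_of_ranges (hi := 112) bigCert_range108 h26 rfl
  have h28 := Cert.blocks_of_ranges (hi := 116) bigCert_range112 h27 rfl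
  have h29 := Cert.blocks_of_ranges (hi := 120) bigCert_range116 h28 rfl
  have h30 := Cert.blocks_of_ranges (hi := 124) bigCert_range120 h29 rfl
  have h31 := Cert.blocks_of_ranges (hi := 128) bigCert_range124 h30 rfl
  have h32 := Cert.blocks_of_ranges (hi := 132) bigCert_range128 h31 rfl
  have h33 := Cert.blocks_of_ranges (hi := 136) bigCert_range132 h32 rfl
  have h34 := Cert.blocks_of_ranges (hi := 140) bigCert_range136 h33 rfl
  have h35 := Cert.blocks_of_ranges (hi := 144) bigCert_range140 h34 rfl
  have h36 := Cert.blocks_of_ranges (hi := 145) bigCert_range144 h35 rfl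
  exact h36

end Cfsg.Agent.JThreeType.Table
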