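import Cfsg.Agent.Lib.JThreeType.Table

/-!
# Certificates: relators for the table of 18468 cosets
-/

set_option autoImplicit false
set_option maxRecDepth 100000
set_option maxHeartbeats 2000000

namespace Cfsg.Agent.JThreeType.Table

/-- The relators. -/
def bigRels : List (List ℕ) :=
  [[0, 0],
    [1, 1, 1],
    [0, 1, 0, 1, 0, 1, 0, 1, 0, 1],
    [3, 3, 3],
    [0, 4, 0, 3],
    [2, 4, 1, 3],
    [6, 6],
    [3, 6, 3, 6],
    [2, 0, 6, 0, 1, 6],
    [1, 0, 1, 0, 2, 0, 2, 6, 1, 0, 1, 0, 2, 0, 2, 6],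
    [2, 6, 1, 0, 2, 0, 2, 6, 1, 6, 1, 0, 1, 0, 2, 6],
    [5, 5],
    [1, 0, 1, 0, 2, 0, 2, 5, 1, 0, 1, 0, 2, 0, 2, 5],
    [0, 1, 0, 2, 0, 5, 0, 1, 0, 2, 0, 5],
    [5, 3, 5, 3, 5, 3],
    [5, 2, 5, 1, 5, 2, 5, 1],
    [5, 4, 2, 5, 1, 3, 5, 4, 2, 5, 1, 3],
    [2, 2, 5, 1, 1, 4, 4, 2, 5, 1, 3, 3],
    [2, 2, 5, 1, 1, 5, 2, 5, 1],
    [2, 2, 5, 1, 1, 4, 5, 3],
    [2, 2, 5, 1, 1, 4, 4, 5, 3, 3, 4, 2, 5, 1, 3],
    [5, 6, 5, 6, 5, 6, 1, 0, 1, 0, 2, 0, 2],
    [0, 1, 0, 6, 1, 0, 2, 6, 1, 6, 1, 6, 2, 2],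
    [0, 1, 0, 1, 0, 4, 1, 0, 1, 0, 5, 1, 3, 5],
    [0, 1, 0, 1, 3, 3, 2, 5, 0, 5, 2, 0, 3, 5],
    [0, 1, 0, 2, 0, 3, 5, 0, 1, 0, 2, 0, 5, 4],
    [0, 1, 0, 2, 3, 5, 3, 1, 0, 5, 2, 0, 3, 5]]

/-- The generators of the subgroup and their inverses. -/
def bigSubs : List (List ℕ) :=
  [[5], [3], [0, 1], [1, 0, 1, 0, 2, 0, 2], [6], [4], [2, 0]]

/-- The justifying loops. -/
def bigLoops : WTr :=
  (.node 154
   (.node 77
    (.node 38
     (.node 19
      (.node 9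
       (.node 4
        (.node 2
         (.node 1
          (.leaf true [] [0])
          (.leaf true [] []))
         (.node 1
          (.leaf true [] [])
          (.leaf true [] [])))
        (.node 2
         (.node 1
          (.leaf true [] [])
          (.leaf true [0] []))
         (.node 1
          (.leaf false [] [2, 2])
          (.node 1
           (.leaf false [] [1, 4, 2])
           (.leaf false [] [1, 3, 2])))))
       (.node 5
        (.node 2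
         (.node 1
          (.leaf false [] [1, 3, 5, 0, 1, 0, 1, 0, 4, 1, 0, 1, 0])
          (.leaf false [] [1, 1]))
         (.node 1
          (.leaf false [] [2, 4, 1])
          (.node 1
           (.leaf false [] [2, 3, 1])
           (.leaf false [] [1, 3, 3, 2, 2, 5, 1, 1, 4, 4, 2]))))
        (.node 2
         (.node 1
          (.leaf false [] [0, 4, 0])
          (.leaf false [] [0, 3, 0]))
         (.node 1
          (.leaf false [] [0, 1, 0, 1, 3, 3, 2, 5, 0, 5, 2, 0, 3])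
          (.node 1
           (.leaf true [1, 0, 1] [2, 0, 2])
           (.leaf false [] [2, 0, 3, 5, 0, 1, 0, 2, 3, 5, 3, 1, 0]))))))
      (.node 9
       (.node 4
        (.node 2
         (.node 1
          (.leaf false [] [6, 3, 6])
          (.leaf false [] [6, 4, 6]))
         (.node 1
          (.leaf false [] [1, 0, 2, 0, 2, 6, 2, 6, 1, 0, 1, 0, 2, 6, 1])
          (.leaf false [] [2, 0, 2, 0, 2, 0, 2, 0, 2])))
        (.node 2
         (.node 1
          (.leaf false [] [1, 0, 1, 0, 2, 0, 2, 6, 1, 0, 1, 0, 2, 0, 2])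
          (.leaf false [] [1, 0, 1, 0, 1, 0, 1, 0, 1]))
         (.node 1
          (.leaf false [] [0, 1, 0, 2, 6, 2, 6, 1, 0, 2, 0, 2, 6, 1, 6])
          (.node 1
           (.leaf false [] [6, 1, 0, 2, 6, 0, 2, 0, 1, 1, 6, 2, 6])
           (.leaf false [] [6, 0, 1, 6, 2])))))
       (.node 5
        (.node 2
         (.node 1
          (.leaf false [] [6, 1, 6, 2, 2, 0, 1, 0, 6, 1, 0, 2, 6])
          (.leaf false [] [0, 1, 0, 6, 1, 0, 2, 6, 1, 6, 1, 6, 2]))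
         (.node 1
          (.leaf false [] [6, 2, 0, 6, 0])
          (.node 1
           (.leaf false [] [0, 6, 0, 1, 6])
           (.leaf false [] [1, 0, 1, 0, 2, 0, 2, 5, 1, 0, 1, 0, 2, 0, 2]))))
        (.node 2
         (.node 1
          (.leaf false [] [1, 6, 2, 0, 6])
          (.leaf false [] [0, 2, 0, 2, 0, 2, 0, 2, 0]))
         (.node 1
          (.leaf false [] [6, 5, 6, 1, 0, 1, 0, 2, 0, 2, 5, 6])
          (.node 1
           (.leaf false [] [1, 6, 2, 2, 0, 1, 0, 6, 1, 0, 2, 6, 1])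
           (.leaf false [] [2, 0, 2, 6, 1, 0, 1, 0, 2, 0, 2, 6, 1, 0, 1])))))))
     (.node 19
      (.node 9
       (.node 4
        (.node 2
         (.node 1
          (.leaf false [] [2, 0, 6, 0, 1])
          (.leaf false [] [0, 1, 6, 2, 0]))
         (.node 1
          (.leaf false [] [6, 5, 1, 0, 1, 0, 2, 0, 2, 6, 5, 6])
          (.leaf false [] [1, 6, 1, 0, 1, 0, 2, 6, 2, 6, 1, 0, 2, 0, 2])))
        (.node 2
         (.node 1
          (.leaf false [] [6, 1, 6, 1, 0, 2, 0, 2, 6, 2, 6, 1, 0, 1, 0])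
          (.leaf false [] [5, 6, 1, 0, 1, 0, 2, 0, 2, 5, 6, 5]))
         (.node 1
          (.leaf false [] [5, 6, 5, 1, 0, 1, 0, 2, 0, 2, 6, 5])
          (.node 1
           (.leaf false [] [1, 6, 2, 6, 2, 6, 1, 0, 2, 6, 0, 2, 0])
           (.leaf false [] [6, 2, 6, 1, 0, 1, 0, 2, 6, 1, 6, 1, 0, 2, 0])))))
       (.node 5
        (.node 2
         (.node 1
          (.leaf false [] [0, 2, 0, 2, 6, 1, 6, 1, 0, 1, 0, 2, 6, 2, 6])
          (.leaf false [] [0, 1, 0, 1, 0, 1, 0, 1, 0]))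
         (.node 1
          (.leaf false [] [2, 6, 1, 0, 2, 6, 0, 2, 0, 1, 1, 6, 2])
          (.node 1
           (.leaf false [] [5, 0, 1, 0, 1, 0, 4, 1, 0, 1, 0, 5, 1])
           (.leaf false [] [1, 5, 2, 2, 5, 1, 1, 2]))))
        (.node 2
         (.node 1
          (.leaf false [] [0, 2, 0, 2, 5, 1, 0, 1, 0, 2, 0, 2, 5, 1, 0])
          (.leaf false [] [0, 2, 5, 1, 0, 1, 0, 2, 0, 2, 5, 1, 0, 1, 0]))
         (.node 1
          (.leaf false [] [0, 5, 1, 4, 4, 2, 0, 2, 0, 5, 4, 0, 1])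
          (.node 1
           (.leaf false [] [4, 4])
           (.leaf false [] [4, 5, 4, 5, 4]))))))
      (.node 10
       (.node 5
        (.node 2
         (.node 1
          (.leaf false [] [4, 1, 3])
          (.leaf false [] [2, 5, 0, 2, 0, 2, 3, 0, 2, 0, 2, 0, 5]))
         (.node 1
          (.leaf false [] [0, 2, 0, 5, 0, 1, 0, 2, 0, 5, 0])
          (.node 1
           (.leaf false [] [5, 3, 5, 3, 5])
           (.leaf false [] [2, 0, 3, 5, 0, 1, 0, 1, 3, 3, 2, 5, 0]))))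
        (.node 2
         (.node 1
          (.leaf false [] [0, 5, 0, 1, 0, 2, 0, 5, 0, 1, 0])
          (.leaf false [] [3, 3]))
         (.node 1
          (.leaf false [] [4, 0, 3])
          (.node 1
           (.leaf false [] [4, 2, 3])
           (.leaf false [] [2, 5, 1, 1, 4, 4, 2, 5, 1, 3, 3])))))
       (.node 5
        (.node 2
         (.node 1
          (.leaf false [] [3, 5, 3, 5, 3])
          (.leaf false [] [3, 0, 4]))
         (.node 1
          (.leaf false [] [3, 1, 4])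
          (.node 1
           (.leaf false [] [3, 4, 2, 5, 1, 3, 2, 2, 5, 1, 1, 4, 4, 5])
           (.leaf false [] [5, 3, 2, 2, 5, 1, 1]))))
        (.node 2
         (.node 1
          (.leaf false [] [1, 2, 2, 5, 1, 1, 5, 2])
          (.leaf false [] [4, 4, 2, 5, 1, 3, 3, 2, 2, 5, 1]))
         (.node 1
          (.leaf false [] [3, 2, 2, 5, 1, 1, 4, 4, 2, 5, 1])
          (.node 1
           (.leaf false [] [5, 3, 3, 2, 2, 5, 1, 1, 4, 2, 5, 1, 3, 4])
           (.leaf false [] [3, 2, 4]))))))))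
    (.node 38
     (.node 19
      (.node 9
       (.node 4
        (.node 2
         (.node 1
          (.leaf false [] [2, 2, 5, 1, 1, 4, 5])
          (.leaf false [] [2, 5, 1, 3, 3, 2, 2, 5, 1, 1, 4]))
         (.node 1
          (.leaf false [] [5, 6, 5, 6, 1, 0, 1, 0, 2, 0, 2, 5])
          (.leaf false [] [1, 0, 2, 0, 2, 5, 1, 0, 1, 0, 2, 0, 2, 5, 1])))
        (.node 2
         (.node 1
          (.leaf false [] [2, 5, 1, 0, 1, 0, 2, 0, 2, 5, 1, 0, 1, 0, 2])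
          (.leaf false [] [0, 1, 5, 0, 2, 4, 5, 4, 1, 0, 2, 0, 5]))
         (.node 1
          (.leaf false [] [5, 1, 0, 1, 0, 2, 0, 2, 6, 5, 6, 5])
          (.node 1
           (.leaf false [] [4, 0, 1, 5, 0, 5, 1, 4, 4, 2, 0, 2, 0])
           (.leaf false [] [5, 4, 1, 0, 2, 0, 5, 4, 0, 1, 5, 0, 2])))))
       (.node 5
        (.node 2
         (.node 1
          (.leaf false [] [5, 0, 2, 0, 2, 3, 0, 2, 0, 2, 0, 5, 4])
          (.leaf false [] [2, 2, 5, 1, 1, 2, 5, 1]))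
         (.node 1
          (.leaf false [] [1, 5, 0, 5, 1, 4, 4, 2, 0, 2, 0, 5, 4])
          (.node 1
           (.leaf false [] [3, 5, 0, 1, 0, 1, 0, 4, 1, 0, 1, 0, 5])
           (.leaf false [] [5, 0, 5, 1, 4, 4, 2, 0, 2, 0, 5, 4, 0]))))
        (.node 2
         (.node 1
          (.leaf false [] [2, 0, 3, 5, 0, 1, 0, 2, 0, 5, 4, 0, 1])
          (.leaf false [] [0, 3, 5, 0, 1, 0, 1, 3, 3, 2, 5, 0, 5]))
         (.node 1
          (.leaf false [] [5, 2, 2, 5, 1, 1, 2, 5])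
          (.node 1
           (.leaf false [] [3, 5, 0, 1, 0, 1, 3, 3, 2, 5, 0, 5, 2])
           (.leaf false [] [2, 5, 1, 5, 2, 5, 1]))))))
      (.node 9
       (.node 4
        (.node 2
         (.node 1
          (.leaf false [] [3, 6, 3])
          (.leaf false [] [4, 6, 4]))
         (.node 1
          (.leaf false [] [5, 1, 4, 4, 2, 0, 2, 0, 5, 4, 0, 1, 5])
          (.leaf false [] [5, 2, 0, 3, 5, 0, 1, 0, 1, 3, 3, 2, 5])))
        (.node 2
         (.node 1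
          (.leaf false [] [5, 4, 5, 4, 5])
          (.leaf false [] [0, 2, 4, 5, 4, 1, 0, 2, 0, 5, 4, 0, 1]))
         (.node 1
          (.leaf false [] [5, 3, 1, 0, 5, 2, 0, 3, 5, 0, 1, 0, 2])
          (.node 1
           (.leaf false [] [5, 1, 5, 2, 5, 1, 5])
           (.leaf false [] [5, 1, 3, 3, 2, 2, 5, 1, 1, 4, 4])))))
       (.node 5
        (.node 2
         (.node 1
          (.leaf false [] [5, 1, 1, 4, 4, 2, 5, 1, 3, 3, 2])
          (.leaf false [] [5, 2, 5, 1, 5, 2, 5]))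
         (.node 1
          (.leaf false [] [1, 5, 2, 5, 1, 5, 2])
          (.node 1
           (.leaf false [] [2, 0, 2, 5, 1, 0, 1, 0, 2, 0, 2, 5, 1, 0, 1])
           (.leaf false [] [0, 5, 2, 0, 3, 5, 0, 1, 0, 1, 3, 3, 2]))))
        (.node 2
         (.node 1
          (.leaf false [] [0, 2, 0, 3, 5, 0, 1, 0, 2, 0, 5, 4, 0])
          (.leaf false [] [5, 1, 1, 5, 2, 5, 1, 2]))
         (.node 1
          (.leaf false [] [5, 2, 5, 1, 2, 2, 5, 1])
          (.node 1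
           (.leaf false [] [0, 3, 5, 0, 1, 0, 2, 0, 5, 4, 0, 1, 0])
           (.leaf false [] [1, 0, 2, 0, 5, 0, 1, 0, 2, 0, 5])))))))
     (.node 19
      (.node 9
       (.node 4
        (.node 2
         (.node 1
          (.leaf false [] [2, 5, 1, 1, 2, 5, 1, 5])
          (.leaf false [] [5, 0, 1, 0, 2, 0, 5, 0, 1, 0, 2]))
         (.node 1
          (.leaf false [] [1, 4, 4, 2, 0, 2, 0, 5, 4, 0, 1, 5, 0])
          (.leaf false [] [2, 0, 5, 0, 1, 0, 2, 0, 5, 0, 1])))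
        (.node 2
         (.node 1
          (.leaf false [] [0, 1, 0, 2, 0, 5, 0, 1, 0, 2, 0])
          (.leaf false [] [5, 1, 3, 5, 0, 1, 0, 1, 0, 4, 1, 0, 1]))
         (.node 1
          (.leaf false [] [2, 5, 1, 2, 2, 5, 1, 1])
          (.node 1
           (.leaf false [] [2, 0, 2, 3, 0, 2, 0, 2, 0, 5, 4, 2, 5])
           (.leaf false [] [0, 2, 0, 2, 6, 1, 0, 1, 0, 2, 0, 2, 6, 1, 0])))))
       (.node 5
        (.node 2
         (.node 1
          (.leaf false [] [6, 1, 0, 1, 0, 2, 6, 2, 6, 1, 0, 2, 0, 2, 6])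
          (.leaf false [] [6, 1, 0, 1, 0, 2, 6, 1, 6, 1, 0, 2, 0, 2, 6]))
         (.node 1
          (.leaf false [] [6, 5, 6, 5, 1, 0, 1, 0, 2, 0, 2, 6])
          (.node 1
           (.leaf false [] [0, 1, 0, 2, 0, 2, 5, 1, 0, 1, 0, 2, 0, 2, 5])
           (.leaf false [] [5, 1, 0, 1, 0, 2, 0, 2, 5, 1, 0, 1, 0, 2, 0]))))
        (.node 2
         (.node 1
          (.leaf false [] [0, 2, 0, 2, 3, 0, 2, 0, 2, 0, 5, 4, 2])
          (.leaf false [] [4, 1, 0, 2, 0, 5, 4, 0, 1, 5, 0, 2, 4]))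
         (.node 1
          (.leaf false [] [5, 1, 1, 4, 2, 5, 1, 3, 4, 4, 5, 3, 3, 2])
          (.node 1
           (.leaf false [] [0, 2, 0, 2, 0, 5, 4, 2, 5, 0, 2, 0, 2])
           (.leaf false [] [1, 0, 1, 0, 4, 1, 0, 1, 0, 5, 1, 3, 5]))))))
      (.node 10
       (.node 5
        (.node 2
         (.node 1
          (.leaf false [] [1, 2, 5, 1, 5, 2, 2, 5])
          (.leaf false [] [5, 4, 2, 5, 0, 2, 0, 2, 3, 0, 2, 0, 2]))
         (.node 1
          (.leaf false [] [1, 0, 1, 3, 3, 2, 5, 0, 5, 2, 0, 3, 5])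
          (.node 1
           (.leaf false [] [5, 4, 0, 1, 5, 0, 5, 1, 4, 4, 2, 0, 2])
           (.leaf false [] [1, 0, 2, 0, 2, 6, 1, 6, 1, 0, 1, 0, 2, 6, 2]))))
        (.node 2
         (.node 1
          (.leaf false [] [1, 1, 4, 5, 3, 2, 2])
          (.leaf false [] [5, 1, 2, 2, 5, 1, 1, 5]))
         (.node 1
          (.leaf false [] [3, 1, 0, 5, 2, 0, 3, 5, 0, 1, 0, 2, 3])
          (.node 1
           (.leaf false [] [3, 2, 2, 5, 1, 1, 4])
           (.leaf false [] [6, 1, 0, 2, 0, 2, 6, 2, 6, 1, 0, 1, 0, 2, 6])))))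
       (.node 5
        (.node 2
         (.node 1
          (.leaf false [] [2, 0, 1, 1, 6, 2, 6, 2, 6, 1, 0, 2, 6])
          (.leaf false [] [6, 1, 0, 2, 0, 2, 6, 1, 6, 1, 0, 1, 0, 2, 6]))
         (.node 1
          (.leaf false [] [6, 1, 0, 2, 6, 1, 6, 1, 6, 2, 2, 0, 1])
          (.node 1
           (.leaf false [] [4, 2, 5, 0, 2, 0, 2, 3, 0, 2, 0, 2, 0])
           (.leaf false [] [2, 0, 2, 5, 6, 5, 6, 5, 6, 1, 0, 1]))))
        (.node 2
         (.node 1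
          (.leaf false [] [0, 1, 0, 2, 0, 2, 6, 1, 0, 1, 0, 2, 0, 2, 6])
          (.leaf false [] [6, 5, 6, 5, 6, 1, 0, 1, 0, 2, 0, 2]))
         (.node 1
          (.leaf false [] [2, 6, 1, 0, 1, 0, 2, 6, 1, 6, 1, 0, 2, 0, 2])
          (.node 1
           (.leaf false [] [1, 1, 4, 4, 2, 5, 1, 3, 3, 2, 2])
           (.leaf false [] [5, 0, 1, 0, 2, 3, 5, 3, 1, 0, 5, 2, 0])))))))))
   (.node 77
    (.node 38
     (.node 19
      (.node 9
       (.node 4
        (.node 2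
         (.node 1
          (.leaf false [] [0, 1, 0, 2, 6, 1, 6, 1, 0, 2, 0, 2, 6, 2, 6])
          (.leaf false [] [6, 1, 0, 1, 0, 2, 0, 2, 6, 1, 0, 1, 0, 2, 0]))
         (.node 1
          (.leaf false [] [0, 2, 0, 2, 6, 2, 6, 1, 0, 1, 0, 2, 6, 1, 6])
          (.leaf false [] [2, 0, 1, 0, 6, 1, 0, 2, 6, 1, 6, 1, 6])))
        (.node 2
         (.node 1
          (.leaf false [] [6, 2, 6, 2, 6, 1, 0, 2, 6, 0, 2, 0, 1])
          (.leaf false [] [1, 0, 2, 6, 2, 6, 1, 0, 2, 0, 2, 6, 1, 6, 1]))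
         (.node 1
          (.leaf false [] [2, 6, 2, 6, 1, 0, 1, 0, 2, 6, 1, 6, 1, 0, 2])
          (.node 1
           (.leaf false [] [6, 1, 6, 1, 0, 1, 0, 2, 6, 2, 6, 1, 0, 2, 0])
           (.leaf false [] [0, 1, 5, 0, 5, 1, 4, 4, 2, 0, 2, 0, 5])))))
       (.node 5
        (.node 2
         (.node 1
          (.leaf false [] [1, 0, 1, 0, 5, 1, 3, 5, 0, 1, 0, 1, 0])
          (.leaf false [] [5, 0, 1, 0, 1, 3, 3, 2, 5, 0, 5, 2, 0]))
         (.node 1
          (.leaf false [] [2, 3, 0, 2, 0, 2, 0, 5, 4, 2, 5, 0, 2])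
          (.node 1
           (.leaf false [] [1, 0, 1, 0, 2, 6, 1, 6, 1, 0, 2, 0, 2, 6, 2])
           (.leaf false [] [1, 0, 5, 2, 0, 3, 5, 0, 1, 0, 2, 3, 5]))))
        (.node 2
         (.node 1
          (.leaf false [] [6, 2, 6, 1, 0, 2, 0, 2, 6, 1, 6, 1, 0, 1, 0])
          (.leaf false [] [0, 2, 0, 1, 1, 6, 2, 6, 2, 6, 1, 0, 2]))
         (.node 1
          (.leaf false [] [0, 2, 6, 1, 0, 1, 0, 2, 0, 2, 6, 1, 0, 1, 0])
          (.node 1
           (.leaf false [] [3, 3, 2, 2, 5, 1, 1, 4, 4, 2, 5])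
           (.leaf false [] [1, 0, 2, 0, 5, 4, 0, 1, 5, 0, 2, 4, 5]))))))
      (.node 9
       (.node 4
        (.node 2
         (.node 1
          (.leaf false [] [1, 0, 1, 0, 2, 6, 2, 6, 1, 0, 2, 0, 2, 6, 1])
          (.leaf false [] [2, 6, 1, 0, 2, 0, 2, 6, 1, 6, 1, 0, 1, 0, 2]))
         (.node 1
          (.leaf false [] [1, 0, 1, 0, 2, 0, 2, 6, 5, 6, 5, 6])
          (.leaf false [] [2, 6, 1, 6, 1, 0, 1, 0, 2, 6, 2, 6, 1, 0, 2])))
        (.node 2
         (.node 1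
          (.leaf false [] [1, 4, 5, 3, 2, 2, 5])
          (.leaf false [] [1, 0, 2, 6, 1, 6, 1, 0, 2, 0, 2, 6, 2, 6, 1]))
         (.node 1
          (.leaf false [] [1, 0, 2, 6, 0, 2, 0, 1, 1, 6, 2, 6, 2])
          (.node 1
           (.leaf false [] [3, 3, 4, 2, 5, 1, 3, 2, 2, 5, 1, 1, 4, 4])
           (.leaf false [] [0, 2, 6, 1, 6, 1, 0, 1, 0, 2, 6, 2, 6, 1, 0])))))
       (.node 5
        (.node 2
         (.node 1
          (.leaf false [] [0, 2, 6, 1, 6, 1, 0, 2, 0, 2, 6, 2, 6, 1, 0])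
          (.leaf false [] [0, 2, 6, 1, 6, 1, 6, 2, 2, 0, 1, 0, 6]))
         (.node 1
          (.leaf false [] [6, 0, 2, 0, 1, 1, 6, 2, 6, 2, 6, 1, 0])
          (.node 1
           (.leaf false [] [1, 1, 4, 2, 5, 1, 3, 4, 4, 5, 3, 3, 2, 2])
           (.leaf false [] [0, 1, 1, 6, 2, 6, 2, 6, 1, 0, 2, 6, 0]))))
        (.node 2
         (.node 1
          (.leaf false [] [0, 6, 1, 0, 2, 6, 1, 6, 1, 6, 2, 2, 0])
          (.leaf false [] [1, 4, 4, 2, 5, 1, 3, 3, 2, 2, 5]))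
         (.node 1
          (.leaf false [] [5, 1, 3, 2, 2, 5, 1, 1, 4, 4, 5, 3, 3, 4])
          (.node 1
           (.leaf false [] [1, 6, 1, 6, 2, 2, 0, 1, 0, 6, 1, 0, 2])
           (.leaf false [] [6, 1, 0, 1, 0, 2, 0, 2, 5, 6, 5, 6])))))))
     (.node 19
      (.node 9
       (.node 4
        (.node 2
         (.node 1
          (.leaf false [] [3, 4, 4, 5, 3, 3, 2, 2, 5, 1, 1, 4, 2, 5])
          (.leaf false [] [1, 0, 2, 6, 1, 6, 1, 6, 2, 2, 0, 1, 0]))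
         (.node 1
          (.leaf false [] [1, 0, 5, 1, 3, 5, 0, 1, 0, 1, 0, 4, 1])
          (.leaf false [] [0, 1, 3, 3, 2, 5, 0, 5, 2, 0, 3, 5, 0])))
        (.node 2
         (.node 1
          (.leaf false [] [0, 5, 4, 0, 1, 5, 0, 5, 1, 4, 4, 2, 0])
          (.leaf false [] [0, 2, 6, 0, 2, 0, 1, 1, 6, 2, 6, 2, 6]))
         (.node 1
          (.leaf false [] [1, 6, 1, 0, 2, 0, 2, 6, 2, 6, 1, 0, 1, 0, 2])
          (.node 1
           (.leaf false [] [2, 6, 0, 2, 0, 1, 1, 6, 2, 6, 2, 6, 1])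
           (.leaf false [] [2, 6, 1, 6, 1, 6, 2, 2, 0, 1, 0, 6, 1])))))
       (.node 5
        (.node 2
         (.node 1
          (.leaf false [] [1, 0, 2, 3, 5, 3, 1, 0, 5, 2, 0, 3, 5])
          (.leaf false [] [2, 2, 5, 1, 1, 4, 4, 2, 5, 1, 3]))
         (.node 1
          (.leaf false [] [5, 6, 5, 6, 5, 1, 0, 1, 0, 2, 0, 2])
          (.node 1
           (.leaf false [] [1, 0, 1, 0, 2, 0, 2, 5, 6, 5, 6, 5])
           (.leaf false [] [6, 1, 6, 1, 6, 2, 2, 0, 1, 0, 6, 1, 0]))))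
        (.node 2
         (.node 1
          (.leaf false [] [2, 0, 2, 6, 1, 6, 1, 0, 1, 0, 2, 6, 2, 6, 1])
          (.leaf false [] [2, 6, 1, 6, 1, 0, 2, 0, 2, 6, 2, 6, 1, 0, 1]))
         (.node 1
          (.leaf false [] [4, 2, 5, 1, 3, 3, 2, 2, 5, 1, 1])
          (.node 1
           (.leaf false [] [2, 6, 2, 6, 1, 0, 2, 6, 0, 2, 0, 1, 1])
           (.leaf false [] [4, 0, 1, 0, 2, 0, 3, 5, 0, 1, 0, 2, 0]))))))
      (.node 10
       (.node 5
        (.node 2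
         (.node 1
          (.leaf false [] [5, 1, 1, 4, 5, 3, 2])
          (.leaf false [] [0, 2, 6, 5, 6, 5, 6, 5, 1, 0, 1, 0]))
         (.node 1
          (.leaf false [] [0, 2, 0, 2, 5, 6, 5, 6, 5, 6, 1, 0])
          (.node 1
           (.leaf false [] [1, 0, 2, 0, 2, 6, 1, 0, 1, 0, 2, 0, 2, 6, 1])
           (.leaf false [] [2, 6, 1, 0, 1, 0, 2, 0, 2, 6, 1, 0, 1, 0, 2]))))
        (.node 2
         (.node 1
          (.leaf false [] [6, 2, 6, 1, 0, 2, 6, 0, 2, 0, 1, 1, 6])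
          (.leaf false [] [2, 2, 5, 1, 1, 4, 2, 5, 1, 3, 4, 4, 5, 3]))
         (.node 1
          (.leaf false [] [1, 1, 6, 2, 6, 2, 6, 1, 0, 2, 6, 0, 2])
          (.node 1
           (.leaf false [] [2, 6, 2, 6, 1, 0, 2, 0, 2, 6, 1, 6, 1, 0, 1])
           (.leaf false [] [2, 0, 2, 6, 2, 6, 1, 0, 1, 0, 2, 6, 1, 6, 1])))))
       (.node 5
        (.node 2
         (.node 1
          (.leaf false [] [2, 2, 0, 1, 0, 6, 1, 0, 2, 6, 1, 6, 1])
          (.leaf false [] [1, 1, 2, 5, 1, 5, 2, 2]))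
         (.node 1
          (.leaf false [] [5, 1, 3, 4, 4, 5, 3, 3, 2, 2, 5, 1, 1, 4])
          (.node 1
           (.leaf false [] [5, 0, 1, 0, 2, 0, 5, 4, 0, 1, 0, 2, 0])
           (.leaf false [] [1, 1, 5, 2, 5, 1, 2, 2]))))
        (.node 2
         (.node 1
          (.leaf false [] [0, 1, 0, 2, 0, 3, 5, 0, 1, 0, 2, 0, 5])
          (.leaf false [] [5, 4, 0, 1, 5, 0, 2, 4, 5, 4, 1, 0, 2]))
         (.node 1
          (.leaf false [] [3, 2, 2, 5, 1, 1, 4, 4, 5, 3, 3, 4, 2, 5])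
          (.node 1
           (.leaf false [] [1, 1, 4, 4, 5, 3, 3, 4, 2, 5, 1, 3, 2, 2])
           (.leaf false [] [2, 0, 2, 0, 5, 4, 0, 1, 5, 0, 5, 1, 4]))))))))
    (.node 39
     (.node 19
      (.node 9
       (.node 4
        (.node 2
         (.node 1
          (.leaf false [] [4, 5, 4, 1, 0, 2, 0, 5, 4, 0, 1, 5, 0])
          (.leaf false [] [5, 4, 0, 1, 0, 2, 0, 3, 5, 0, 1, 0, 2]))
         (.node 1
          (.leaf false [] [1, 0, 2, 0, 5, 4, 0, 1, 0, 2, 0, 3, 5])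
          (.leaf false [] [2, 2, 5, 1, 1, 4, 4, 5, 3, 3, 4, 2, 5, 1])))
        (.node 2
         (.node 1
          (.leaf false [] [4, 4, 5, 3, 3, 4, 2, 5, 1, 3, 2, 2, 5, 1])
          (.leaf false [] [2, 5, 1, 3, 4, 4, 5, 3, 3, 2, 2, 5, 1, 1]))
         (.node 1
          (.leaf false [] [5, 0, 5, 2, 0, 3, 5, 0, 1, 0, 1, 3, 3])
          (.node 1
           (.leaf false [] [5, 6, 5, 6, 5, 6, 1, 0, 1, 0, 2, 0])
           (.leaf false [] [0, 2, 0, 5, 4, 0, 1, 0, 2, 0, 3, 5, 0])))))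
       (.node 5
        (.node 2
         (.node 1
          (.leaf false [] [4, 4, 2, 0, 2, 0, 5, 4, 0, 1, 5, 0, 5])
          (.leaf false [] [1, 4, 4, 5, 3, 3, 4, 2, 5, 1, 3, 2, 2, 5]))
         (.node 1
          (.leaf false [] [0, 1, 0, 2, 0, 2, 6, 5, 6, 5, 6, 5])
          (.node 1
           (.leaf false [] [1, 0, 6, 1, 0, 2, 6, 1, 6, 1, 6, 2, 2])
           (.leaf false [] [0, 1, 0, 1, 0, 4, 1, 0, 1, 0, 5, 1, 3]))))
        (.node 2
         (.node 1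
          (.leaf false [] [3, 2, 5, 0, 5, 2, 0, 3, 5, 0, 1, 0, 1])
          (.leaf false [] [0, 5, 1, 3, 5, 0, 1, 0, 1, 0, 4, 1, 0]))
         (.node 1
          (.leaf false [] [0, 2, 0, 5, 4, 2, 5, 0, 2, 0, 2, 3, 0])
          (.node 1
           (.leaf false [] [0, 4, 1, 0, 1, 0, 5, 1, 3, 5, 0, 1, 0])
           (.leaf false [] [2, 0, 2, 0, 5, 4, 2, 5, 0, 2, 0, 2, 3]))))))
      (.node 10
       (.node 5
        (.node 2
         (.node 1
          (.leaf false [] [0, 2, 3, 0, 2, 0, 2, 0, 5, 4, 2, 5, 0])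
          (.leaf false [] [3, 0, 2, 0, 2, 0, 5, 4, 2, 5, 0, 2, 0]))
         (.node 1
          (.leaf false [] [0, 1, 0, 2, 0, 5, 4, 0, 1, 0, 2, 0, 3])
          (.node 1
           (.leaf false [] [1, 0, 2, 0, 2, 5, 6, 5, 6, 5, 6, 1])
           (.leaf false [] [2, 6, 5, 6, 5, 6, 5, 1, 0, 1, 0, 2]))))
        (.node 2
         (.node 1
          (.leaf false [] [6, 2, 2, 0, 1, 0, 6, 1, 0, 2, 6, 1, 6])
          (.leaf false [] [2, 5, 0, 5, 2, 0, 3, 5, 0, 1, 0, 1, 3]))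
         (.node 1
          (.leaf false [] [1, 5, 2, 5, 1, 2, 2, 5])
          (.node 1
           (.leaf false [] [5, 1, 1, 2, 5, 1, 5, 2])
           (.leaf false [] [0, 5, 4, 0, 1, 0, 2, 0, 3, 5, 0, 1, 0])))))
       (.node 5
        (.node 2
         (.node 1
          (.leaf false [] [4, 2, 0, 2, 0, 5, 4, 0, 1, 5, 0, 5, 1])
          (.leaf false [] [1, 3, 2, 2, 5, 1, 1, 4, 4, 5, 3, 3, 4, 2]))
         (.node 1
          (.leaf false [] [4, 1, 0, 1, 0, 5, 1, 3, 5, 0, 1, 0, 1])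
          (.node 1
           (.leaf false [] [0, 1, 0, 5, 1, 3, 5, 0, 1, 0, 1, 0, 4])
           (.leaf false [] [3, 5, 0, 1, 0, 2, 0, 5, 4, 0, 1, 0, 2]))))
        (.node 2
         (.node 1
          (.leaf false [] [1, 0, 2, 0, 3, 5, 0, 1, 0, 2, 0, 5, 4])
          (.leaf false [] [1, 0, 2, 0, 2, 6, 5, 6, 5, 6, 5, 1]))
         (.node 1
          (.leaf false [] [2, 5, 6, 5, 6, 5, 6, 1, 0, 1, 0, 2])
          (.node 1
           (.leaf false [] [0, 5, 2, 0, 3, 5, 0, 1, 0, 2, 3, 5, 3])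
           (.leaf false [] [2, 0, 5, 4, 0, 1, 5, 0, 5, 1, 4, 4, 2])))))))
     (.node 19
      (.node 9
       (.node 4
        (.node 2
         (.node 1
          (.leaf false [] [1, 3, 3, 2, 5, 0, 5, 2, 0, 3, 5, 0, 1])
          (.leaf false [] [3, 5, 3, 1, 0, 5, 2, 0, 3, 5, 0, 1, 0]))
         (.node 1
          (.leaf false [] [3, 2, 2, 5, 1, 1, 4, 2, 5, 1, 3, 4, 4, 5])
          (.leaf false [] [0, 3, 5, 0, 1, 0, 2, 3, 5, 3, 1, 0, 5])))
        (.node 2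
         (.node 1
          (.leaf false [] [2, 5, 1, 1, 4, 5, 3])
          (.leaf false [] [2, 3, 5, 3, 1, 0, 5, 2, 0, 3, 5, 0, 1]))
         (.node 1
          (.leaf false [] [2, 0, 5, 4, 0, 1, 5, 0, 2, 4, 5, 4, 1])
          (.node 1
           (.leaf false [] [6, 5, 6, 5, 6, 5, 1, 0, 1, 0, 2, 0])
           (.leaf false [] [2, 0, 2, 6, 5, 6, 5, 6, 5, 1, 0, 1])))))
       (.node 5
        (.node 2
         (.node 1
          (.leaf false [] [0, 1, 0, 2, 0, 2, 5, 6, 5, 6, 5, 6])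
          (.leaf false [] [0, 5, 4, 2, 5, 0, 2, 0, 2, 3, 0, 2, 0]))
         (.node 1
          (.leaf false [] [2, 5, 1, 1, 4, 4, 5, 3, 3, 4, 2, 5, 1, 3])
          (.node 1
           (.leaf false [] [4, 5, 3, 3, 4, 2, 5, 1, 3, 2, 2, 5, 1, 1])
           (.leaf false [] [4, 5, 3, 2, 2, 5, 1]))))
        (.node 2
         (.node 1
          (.leaf false [] [5, 2, 0, 3, 5, 0, 1, 0, 2, 3, 5, 3, 1])
          (.leaf false [] [2, 4, 5, 4, 1, 0, 2, 0, 5, 4, 0, 1, 5]))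
         (.node 1
          (.leaf false [] [0, 2, 6, 2, 6, 1, 0, 1, 0, 2, 6, 1, 6, 1, 0])
          (.node 1
           (.leaf false [] [4, 2, 5, 1, 3, 4, 4, 5, 3, 3, 2, 2, 5, 1])
           (.leaf false [] [0, 1, 0, 2, 3, 5, 3, 1, 0, 5, 2, 0, 3]))))))
      (.node 10
       (.node 5
        (.node 2
         (.node 1
          (.leaf false [] [3, 3, 2, 2, 5, 1, 1, 4, 2, 5, 1, 3, 4, 4])
          (.leaf false [] [2, 5, 1, 1, 4, 2, 5, 1, 3, 4, 4, 5, 3, 3]))
         (.node 1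
          (.leaf false [] [0, 2, 6, 2, 6, 1, 0, 2, 0, 2, 6, 1, 6, 1, 0])
          (.node 1
           (.leaf false [] [4, 0, 1, 5, 0, 2, 4, 5, 4, 1, 0, 2, 0])
           (.leaf false [] [2, 0, 5, 4, 2, 5, 0, 2, 0, 2, 3, 0, 2]))))
        (.node 2
         (.node 1
          (.leaf false [] [1, 0, 4, 1, 0, 1, 0, 5, 1, 3, 5, 0, 1])
          (.leaf false [] [0, 5, 4, 0, 1, 5, 0, 2, 4, 5, 4, 1, 0]))
         (.node 1
          (.leaf false [] [0, 2, 0, 5, 4, 0, 1, 5, 0, 2, 4, 5, 4])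
          (.node 1
           (.leaf false [] [5, 0, 2, 4, 5, 4, 1, 0, 2, 0, 5, 4, 0])
           (.leaf false [] [3, 3, 2, 5, 0, 5, 2, 0, 3, 5, 0, 1, 0])))))
       (.node 5
        (.node 2
         (.node 1
          (.leaf false [] [0, 2, 0, 5, 4, 0, 1, 5, 0, 5, 1, 4, 4])
          (.leaf false [] [0, 2, 3, 5, 3, 1, 0, 5, 2, 0, 3, 5, 0]))
         (.node 1
          (.leaf false [] [3, 5, 0, 1, 0, 2, 3, 5, 3, 1, 0, 5, 2])
          (.node 1
           (.leaf false [] [1, 3, 4, 4, 5, 3, 3, 2, 2, 5, 1, 1, 4, 2])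
           (.leaf false [] [0, 1, 0, 4, 1, 0, 1, 0, 5, 1, 3, 5, 0]))))
        (.node 2
         (.node 1
          (.leaf false [] [5, 3, 3, 4, 2, 5, 1, 3, 2, 2, 5, 1, 1, 4])
          (.leaf false [] [1, 5, 0, 2, 4, 5, 4, 1, 0, 2, 0, 5, 4]))
         (.node 1
          (.leaf false [] [0, 2, 5, 6, 5, 6, 5, 6, 1, 0, 1, 0])
          (.node 1
           (.leaf false [] [2, 0, 5, 4, 0, 1, 0, 2, 0, 3, 5, 0, 1])
           (.leaf false [] [0, 2, 0, 2, 6, 5, 6, 5, 6, 5, 1, 0]))))))))))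

end Cfsg.Agent.JThreeType.Table
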