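import Cfsg.Agent.Lib.JThreeType.Sys
import Cfsg.Agent.Lib.JThreeType.BigFacts
import Cfsg.Agent.Lib.JThreeType.SmallTable

/-!
# The order bounds from the relations

* `Sys.card_le`: the seven elements generate at most 150698880 elements
* `Sys.card_sub_le`: `⟨e, k, x, w, d⟩` has at most 8160 elements
-/

set_option autoImplicit false
set_option linter.style.haveILetI false

namespace Cfsg.Agent.JThreeType

open Subgroup
open Table.Cert (val val_cons val_append val_nil)

/-- The seven letters of the small table. -/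
def smallSub : List (List ℕ) := [[5], [3], [4], [6], [0, 1], [2, 0], [1, 0, 1, 0, 2, 0, 2]]

theorem small_expand :
    (Table.smallCert.rels.map fun r => r.flatMap fun l => smallSub.getD l []) = smallRels := by decide +kernel

theorem iv_eq : ∀ l < 7, Table.bigCert.iv l = ivOf l := by decide +kernel

theorem ivOf_lt : ∀ l < 5, ivOf l < 5 ∧ ivOf (ivOf l) = l := by decide +kernel

theorem act_lt {l : ℕ} (hl : l < 5) (m : ℕ) : Action.act l m < 16 := by
  refine Action.ap_lt (fun i => ?_) m
  have key : ∀ l < 5, ∀ i < 4, (Action.imgs.getD l []).getD i 0 < 16 := by decide +kernel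
  have hlen : ∀ l < 5, (Action.imgs.getD l []).length = 4 := by decide +kernel
  by_cases hi : i < 4
  · exact key l hl i hi
  · rw [List.getD_eq_default _ _ (by rw [hlen l hl]; omega)]; norm_num

variable {Γ : Type*} [Group Γ] {g : ℕ → Γ}

/-- The group of `e, k, x, w`. -/
def borel (g : ℕ → Γ) : Subgroup Γ :=
  closure {g 5, g 3, g 0 * g 1, val g [1, 0, 1, 0, 2, 0, 2]}

/-- The group of `e, k, x, w, d`. -/
def subH (g : ℕ → Γ) : Subgroup Γ :=
  closure {g 5, g 3, g 0 * g 1, val g [1, 0, 1, 0, 2, 0, 2], g 6}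

/-- The group of the seven letters. -/
def genAll (g : ℕ → Γ) : Subgroup Γ := closure (g '' {l | l < 7})

namespace Sys

variable (S : Sys g) [Finite Γ]
include S

/-- The Borel subgroup has at most 480 elements. -/
theorem card_borel_le : Nat.card (borel g) ≤ 480 := by
  classical
  obtain ⟨φ, hxor, h1, hconj⟩ := S.coords
  set k := g 3
  set x := g 0 * g 1 with hx
  set w := val g [1, 0, 1, 0, 2, 0, 2] with hw
  have hsm := S.small
  have hee : g 5 * g 5 = 1 := by simpa [val] using hsm [5, 5] (by decide +kernel)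
  have hk3 : k * (k * k) = 1 := by simpa [val] using hsm [3, 3, 3] (by decide +kernel)
  have hx5 : x ^ 5 = 1 := by
    rw [← hsm [0, 1, 0, 1, 0, 1, 0, 1, 0, 1] (by decide +kernel)]
    simp [val, hx, pow_succ, mul_assoc]
  have hw2 : w * w = 1 := by
    rw [hw, ← val_append]; exact hsm _ (by decide +kernel)
  have hwxwx : w * x * w * x = 1 := by
    rw [← hsm [1, 0, 1, 0, 2, 0, 2, 0, 1, 1, 0, 1, 0, 2, 0, 2, 0, 1] (by decide +kernel)]
    simp [val, hw, hx, mul_assoc]
  have hXx : g 2 * g 0 = x⁻¹ := by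
    refine eq_inv_of_mul_eq_one_left ?_
    have h0 : g 0 * g 0 = 1 := S.inv 0 (by norm_num)
    have h21 : g 2 * g 1 = 1 := S.inv 1 (by norm_num)
    calc g 2 * g 0 * x = g 2 * (g 0 * g 0) * g 1 := by rw [hx]; group
      _ = 1 := by rw [h0, mul_one, h21]
  have hg4 : g 4 = k⁻¹ := eq_inv_of_mul_eq_one_left (S.inv 3 (by norm_num))
  have hkx : Commute k x := by
    have h : g 4 * (g 2 * g 0) * g 3 * (g 0 * g 1) = 1 := by
      rw [← hsm [4, 2, 0, 3, 0, 1] (by decide +kernel)]; simp [val, mul_assoc]
    rw [hXx, hg4, ← hx] at h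
    calc k * x = x * k * (k⁻¹ * x⁻¹ * k * x) := by group
      _ = x * k := by rw [h, mul_one]
  have hkw : Commute k w := by
    have h : g 4 * w * g 3 * w = 1 := by
      rw [← hsm [4, 1, 0, 1, 0, 2, 0, 2, 3, 1, 0, 1, 0, 2, 0, 2] (by decide +kernel)]; simp [val, hw, mul_assoc]
    rw [hg4] at h
    calc k * w = k * w * (k⁻¹ * w * k * w)⁻¹ := by rw [h, inv_one, mul_one]
      _ = k * (w * w⁻¹) * k⁻¹ * w⁻¹ * k := by group
      _ = w * k := by rw [inv_eq_of_mul_eq_one_right hw2]; simp [hw2]
  -- conjugation of the coordinates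
  have hP : ∀ l < 5, ∀ m, g l * φ m = φ (Action.act (ivOf l) m) * g l := by
    intro l hl m
    have hl' := ivOf_lt l hl
    rw [← hconj _ hl'.1 m, eq_inv_of_mul_eq_one_left (S.inv l (by omega)), inv_inv, inv_mul_cancel_right]
  have hmove : ∀ t : List ℕ, (∀ l ∈ t, l < 5) → ∀ m < 16, ∃ m' < 16, val g t * φ m = φ m' * val g t := by
    intro t
    induction t with
    | nil => intro _ m hm; exact ⟨m, hm, by simp [val_nil]⟩
    | cons l t ih =>
      intro ht m hm
      obtain ⟨m', hm', e⟩ := ih (fun y hy => ht y (List.mem_cons_of_mem _ hy)) m hm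
      have hl := ht l List.mem_cons_self
      refine ⟨Action.act (ivOf l) m', act_lt (ivOf_lt l hl).1 _, ?_⟩
      rw [val_cons, mul_assoc, e, ← mul_assoc, hP l hl, mul_assoc]
  let T : ℕ → ℕ → ℕ → Γ := fun i j l => k ^ i * x ^ j * w ^ l
  have hTmove : ∀ i j l, ∀ m < 16, ∃ m' < 16, T i j l * φ m = φ m' * T i j l := by
    have hpow : ∀ t : List ℕ, (∀ y ∈ t, y < 5) → ∀ n : ℕ, ∀ m < 16, ∃ m' < 16, val g t ^ n * φ m = φ m' * val g t ^ n := by
      intro t ht n
      induction n with
      | zero => intro m hm; exact ⟨m, hm, by simp⟩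
      | succ n ih =>
        intro m hm
        obtain ⟨m1, hm1, e1⟩ := hmove t ht m hm
        obtain ⟨m2, hm2, e2⟩ := ih m1 hm1
        exact ⟨m2, hm2, by rw [pow_succ, mul_assoc, e1, ← mul_assoc, e2, mul_assoc]⟩
    intro i j l m hm
    have ek : val g [3] = k := by simp [val, k]
    have ex : val g [0, 1] = x := by simp [val, hx]
    obtain ⟨m1, hm1, e1⟩ := hpow [1, 0, 1, 0, 2, 0, 2] (by decide) l m hm
    obtain ⟨m2, hm2, e2⟩ := hpow [0, 1] (by decide) j m1 hm1
    obtain ⟨m3, hm3, e3⟩ := hpow [3] (by decide) i m2 hm2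
    rw [← hw] at e1
    rw [ex] at e2
    rw [ek] at e3
    refine ⟨m3, hm3, ?_⟩
    show k ^ i * x ^ j * w ^ l * φ m = φ m3 * (k ^ i * x ^ j * w ^ l)
    rw [mul_assoc, e1, ← mul_assoc, mul_assoc (k ^ i), e2, ← mul_assoc, e3]
    simp only [mul_assoc]
  have hk' : k ^ 3 = 1 := by rw [← hk3]; simp only [pow_succ, pow_zero, one_mul, mul_assoc]
  have hw' : w ^ 2 = 1 := by rw [pow_two, hw2]
  have hwxw : w * x * w = x⁻¹ := eq_inv_of_mul_eq_one_left hwxwx
  -- right multiplication
  have stepe : ∀ i j l, ∀ m < 16, ∃ m' < 16, φ m * T i j l * g 5 = φ m' * T i j l := by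
    intro i j l m hm
    obtain ⟨m', hm', e⟩ := hTmove i j l 1 (by norm_num)
    exact ⟨m ^^^ m', Action.xor_lt hm hm', by rw [← h1, mul_assoc, e, ← mul_assoc, hxor]⟩
  have stepw : ∀ i j l, T i j l * w = T i j (l + 1) := fun i j l => by simp only [T, pow_succ, mul_assoc]
  have stepk : ∀ i j l, T i j l * k = T (i + 1) j l := fun i j l => by
    simp only [T, pow_succ]
    rw [mul_assoc (k ^ i * x ^ j), (hkw.symm.pow_left l).eq, ← mul_assoc, mul_assoc (k ^ i) (x ^ j) k,
      (hkx.symm.pow_left j).eq, ← mul_assoc]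
  have stepx : ∀ i j l, ∃ j', T i j l * x = T i j' l := by
    intro i j l
    rcases Nat.even_or_odd l with ⟨r, rfl⟩ | ⟨r, rfl⟩
    · refine ⟨j + 1, ?_⟩
      have e : w ^ (r + r) = 1 := by rw [← two_mul, pow_mul, hw', one_pow]
      simp only [T, e, pow_succ, mul_one, mul_assoc]
    · refine ⟨j + 4, ?_⟩
      have e : w ^ (2 * r + 1) = w := by rw [pow_succ, pow_mul, hw', one_pow, one_mul]
      have e4 : x ^ 4 = x⁻¹ := eq_inv_of_mul_eq_one_left (by rw [← pow_succ, hx5])
      simp only [T, e, pow_add, e4]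
      rw [← hwxw]
      simp [mul_assoc, hw2]
  let P : Γ → Prop := fun y => ∃ m < 16, ∃ i j l, y = φ m * T i j l
  have pe : ∀ y, P y → P (y * g 5) := by
    rintro y ⟨m, hm, i, j, l, rfl⟩
    obtain ⟨m', hm', e⟩ := stepe i j l m hm
    exact ⟨m', hm', i, j, l, e⟩
  have pk : ∀ y, P y → P (y * k) := by
    rintro y ⟨m, hm, i, j, l, rfl⟩
    exact ⟨m, hm, i + 1, j, l, by rw [mul_assoc, stepk]⟩
  have pw : ∀ y, P y → P (y * w) := by
    rintro y ⟨m, hm, i, j, l, rfl⟩
    exact ⟨m, hm, i, j, l + 1, by rw [mul_assoc, stepw]⟩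
  have px : ∀ y, P y → P (y * x) := by
    rintro y ⟨m, hm, i, j, l, rfl⟩
    obtain ⟨j', e⟩ := stepx i j l
    exact ⟨m, hm, i, j', l, by rw [mul_assoc, e]⟩
  have hall : ∀ y ∈ borel g, P y := by
    intro y hy
    induction hy using Subgroup.closure_induction_right with
    | one =>
      refine ⟨0, by norm_num, 0, 0, 0, ?_⟩
      have h0 : φ 0 = 1 := mul_eq_left.1 (hxor 0 0).symm
      simp [T, h0]
    | mul_right y _ s hs ih =>
      simp only [Set.mem_insert_iff, Set.mem_singleton_iff] at hs
      rcases hs with rfl | rfl | rfl | rfl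
      exacts [pe _ ih, pk _ ih, px _ ih, pw _ ih]
    | mul_inv_cancel y _ s hs ih =>
      simp only [Set.mem_insert_iff, Set.mem_singleton_iff] at hs
      rcases hs with rfl | rfl | rfl | rfl
      · rw [inv_eq_of_mul_eq_one_right hee]; exact pe _ ih
      · rw [inv_eq_of_mul_eq_one_right hk3, ← mul_assoc]; exact pk _ (pk _ ih)
      · have e4 : x⁻¹ = x * x * x * x := inv_eq_of_mul_eq_one_right (by
          rw [← hx5]; simp only [pow_succ, pow_zero, one_mul, mul_assoc])
        rw [show (g 0 * g 1)⁻¹ = x * x * x * x from e4]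
        simp only [← mul_assoc]
        exact px _ (px _ (px _ (px _ ih)))
      · rw [inv_eq_of_mul_eq_one_right (show val g [1, 0, 1, 0, 2, 0, 2] * _ = 1 from hw2)]; exact pw _ ih
  choose mm hm16 ii jj ll heq using hall
  let F : borel g → Fin 16 × Fin 3 × Fin 5 × Fin 2 := fun y =>
    (⟨mm y y.2, hm16 y y.2⟩, ⟨ii y y.2 % 3, Nat.mod_lt _ (by norm_num)⟩,
      ⟨jj y y.2 % 5, Nat.mod_lt _ (by norm_num)⟩, ⟨ll y y.2 % 2, Nat.mod_lt _ (by norm_num)⟩)
  have hF : Function.Injective F := by
    intro y y' e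
    simp only [F, Prod.mk.injEq, Fin.mk.injEq] at e
    obtain ⟨e1, e2, e3, e4⟩ := e
    refine Subtype.ext ?_
    rw [heq y y.2, heq y' y'.2, e1]
    simp only [T]
    rw [pow_eq_pow_mod _ hk', pow_eq_pow_mod (jj _ _) hx5, pow_eq_pow_mod (ll _ _) hw', e2, e3, e4,
      ← pow_eq_pow_mod _ hk', ← pow_eq_pow_mod _ hx5, ← pow_eq_pow_mod _ hw']
  have := Nat.card_le_card_of_injective F hF
  simpa [Nat.card_prod] using this

/-- The letters of the small table satisfy its hypotheses. -/
theorem small_facts (h : ℕ → Γ) (hh : h = fun l => val g (smallSub.getD l [])) :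
    (∀ a < Table.smallCert.k, h (Table.smallCert.iv a) * h a = 1) ∧ (∀ r ∈ Table.smallCert.rels, val h r = 1) ∧
      (∀ s ∈ Table.smallCert.subs, val h s ∈ borel g) ∧ subH g ≤ closure (h '' {a | a < Table.smallCert.k}) := by
  subst hh
  set h : ℕ → Γ := fun l => val g (smallSub.getD l []) with hh
  have hval : ∀ r : List ℕ, val h r = val g (r.flatMap fun l => smallSub.getD l []) := by
    intro r
    induction r with
    | nil => rfl
    | cons l r ih => rw [val_cons, List.flatMap_cons, val_append, ih]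
  have hrel : ∀ r ∈ Table.smallCert.rels, val h r = 1 := fun r hr => by
    rw [hval]
    exact S.small _ (small_expand ▸ List.mem_map_of_mem hr)
  have h0 : g 0 * g 0 = 1 := S.inv 0 (by norm_num)
  have h21 : g 2 * g 1 = 1 := S.inv 1 (by norm_num)
  have h12 : g 1 * g 2 = 1 := mul_eq_one_comm.1 h21
  have hk : Table.smallCert.k = 7 := rfl
  have hinv : ∀ a < Table.smallCert.k, h (Table.smallCert.iv a) * h a = 1 := by
    intro a ha
    rw [hk] at ha
    interval_cases a
    · show val g [5] * val g [5] = 1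
      rw [← val_append]; exact S.small _ (by decide +kernel)
    · show val g [4] * val g [3] = 1
      rw [← val_append]; simpa [val] using (show g 4 * g 3 = 1 from S.inv 3 (by norm_num))
    · show val g [3] * val g [4] = 1
      rw [← val_append]; simpa [val] using (show g 3 * g 4 = 1 from S.inv 4 (by norm_num))
    · show val g [6] * val g [6] = 1
      rw [← val_append]; simpa [val] using (show g 6 * g 6 = 1 from S.inv 6 (by norm_num))
    · show val g [2, 0] * val g [0, 1] = 1
      simp [val, mul_assoc, ← mul_assoc (g 0) (g 0), h0, h21]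
    · show val g [0, 1] * val g [2, 0] = 1
      simp [val, mul_assoc, ← mul_assoc (g 1) (g 2), h0, h12]
    · show val g [1, 0, 1, 0, 2, 0, 2] * val g [1, 0, 1, 0, 2, 0, 2] = 1
      rw [← val_append]; exact S.small _ (by decide +kernel)
  have e4 : h 4 = g 0 * g 1 := by simp [hh, smallSub, val]
  have hsub : ∀ s ∈ Table.smallCert.subs, val h s ∈ borel g := by
    intro s hs
    have hx : g 0 * g 1 ∈ borel g := subset_closure (by simp)
    have hX : val g [2, 0] ∈ borel g := by
      have e : val g [2, 0] * (g 0 * g 1) = 1 := by simp [val, mul_assoc, ← mul_assoc (g 0) (g 0), h0, h21]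
      rw [eq_inv_of_mul_eq_one_left e]; exact inv_mem hx
    have hk4 : val g [4] ∈ borel g := by
      have e : val g [4] * g 3 = 1 := by simpa [val] using (show g 4 * g 3 = 1 from S.inv 3 (by norm_num))
      rw [eq_inv_of_mul_eq_one_left e]
      exact inv_mem (subset_closure (by simp))
    simp only [Table.smallCert, List.mem_cons, List.not_mem_nil, or_false] at hs
    rcases hs with rfl | rfl | rfl | rfl | rfl | rfl
    · have m : g 5 ∈ borel g := subset_closure (by simp)
      simpa [hh, smallSub, val] using m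
    · have m : g 3 ∈ borel g := subset_closure (by simp)
      simpa [hh, smallSub, val] using m
    · simpa [hh, smallSub, val] using hx
    · rw [show val h [6] = val g [1, 0, 1, 0, 2, 0, 2] by rw [hval]; rfl]
      exact subset_closure (by simp)
    · rw [show val h [2] = val g [4] by rw [hval]; rfl]; exact hk4
    · rw [show val h [5] = val g [2, 0] by rw [hval]; rfl]; exact hX
  have hle : subH g ≤ closure (h '' {a | a < Table.smallCert.k}) := by
    refine (closure_le _).2 ?_
    rintro y (rfl | rfl | rfl | rfl | rfl)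
    · exact subset_closure ⟨0, by simp [hk], by simp [hh, smallSub, val]⟩
    · exact subset_closure ⟨1, by simp [hk], by simp [hh, smallSub, val]⟩
    · exact subset_closure ⟨4, by simp [hk], e4⟩
    · exact subset_closure ⟨6, by simp [hk], rfl⟩
    · exact subset_closure ⟨3, by simp [hk], by simp [hh, smallSub, val]⟩
  exact ⟨hinv, hrel, hsub, hle⟩

/-- `⟨e, k, x, w, d⟩` has at most 8160 elements. -/
theorem card_sub_le : Nat.card (subH g) ≤ 8160 := by
  obtain ⟨hinv, hrel, hsub, hle⟩ := S.small_facts _ rfl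
  refine (card_le_of_le hle).trans ((Table.Cert.card_le (borel g) Table.smallCert_facts hinv hrel hsub).trans ?_)
  exact le_trans (Nat.mul_le_mul_left _ S.card_borel_le) (by norm_num [show Table.smallCert.n = 17 from rfl])

/-- The seven elements generate at most 150698880 elements. -/
theorem card_le : Nat.card (genAll g) ≤ 150698880 := by
  have hk : Table.bigCert.k = 7 := rfl
  have hinv : ∀ a < Table.bigCert.k, g (Table.bigCert.iv a) * g a = 1 := fun a ha => by
    rw [hk] at ha
    rw [iv_eq a ha]; exact S.inv a ha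
  have hsub : ∀ s ∈ Table.bigCert.subs, val g s ∈ subH g := by
    intro s hs
    have hx : g 0 * g 1 ∈ subH g := subset_closure (by simp)
    have h0 : g 0 * g 0 = 1 := S.inv 0 (by norm_num)
    have h21 : g 2 * g 1 = 1 := S.inv 1 (by norm_num)
    simp only [Table.bigCert, Table.bigSubs, List.mem_cons, List.not_mem_nil, or_false] at hs
    rcases hs with rfl | rfl | rfl | rfl | rfl | rfl | rfl
    · have m : g 5 ∈ subH g := subset_closure (by simp)
      simpa [val] using m
    · have m : g 3 ∈ subH g := subset_closure (by simp)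
      simpa [val] using m
    · simpa [val] using hx
    · exact subset_closure (by simp)
    · have m : g 6 ∈ subH g := subset_closure (by simp)
      simpa [val] using m
    · have e : val g [4] * g 3 = 1 := by simpa [val] using (show g 4 * g 3 = 1 from S.inv 3 (by norm_num))
      rw [eq_inv_of_mul_eq_one_left e]
      exact inv_mem (subset_closure (by simp))
    · have e : val g [2, 0] * (g 0 * g 1) = 1 := by simp [val, mul_assoc, ← mul_assoc (g 0) (g 0), h0, h21]
      rw [eq_inv_of_mul_eq_one_left e]; exact inv_mem hx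
  have h := Table.Cert.card_le (subH g) Table.bigCert_facts hinv S.rels hsub
  rw [hk] at h
  refine h.trans (le_trans (Nat.mul_le_mul_left _ S.card_sub_le) ?_)
  norm_num [show Table.bigCert.n = 18468 from rfl]

end Sys

end Cfsg.Agent.JThreeType
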