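import Cfsg.Agent.EqLemmas

/-!
# A collapsing presentation

If `d` inverts `k`, centralises `x` and satisfies the braid relation with `e`, and `e, k, x` satisfy relations of
the normaliser of an elementary group of order 16, then `d` lies in the subgroup of `e, k, x`.
(The steps are a machine-found coset enumeration.)

* `mem_of_braid`
-/

set_option autoImplicit false
set_option maxHeartbeats 1000000
set_option linter.unusedSimpArgs false

namespace Cfsg.Agent.JThreeType

variable {G : Type*} [Group G]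

theorem mem_of_braid (H : Subgroup G) {e k x d : G} (he' : e ∈ H) (hk' : k ∈ H) (hx' : x ∈ H)
    (he : e * e = 1) (hd : d * d = 1)
    (r0 : (k * d * k * d) = 1)
    (r1 : (d * x⁻¹ * d * x) = 1)
    (r2 : (e * d * e * d * e * d) = 1)
    (r3 : (e * k * e * k * e * k) = 1)
    (r4 : (e * x⁻¹ * e * x * e * x⁻¹ * e * x) = 1)
    (r5 : (x⁻¹ * x⁻¹ * e * x * x * e * x⁻¹ * k⁻¹ * e * k * x) = 1) : d ∈ H := by
  have ei : e⁻¹ = e := inv_eq_of_mul_eq_one_right he
  have di : d⁻¹ = d := inv_eq_of_mul_eq_one_right hd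
  have ee : ∀ y, e * (e * y) = y := fun y => by rw [← mul_assoc, he, one_mul]
  have dd : ∀ y, d * (d * y) = y := fun y => by rw [← mul_assoc, hd, one_mul]
  have h0 : (e) ∈ H := by
    exact he'
  have h1 : (k) ∈ H := by
    exact hk'
  have h2 : (x) ∈ H := by
    exact hx'
  have h4 : (d * x⁻¹ * d) ∈ H := by
    have hw : (d * x⁻¹ * d * x) = 1 := by
      have := congrArg (fun y : G => (1 : G) * y * (1 : G)) r1
      simpa only [mul_inv_rev, inv_inv, inv_one, one_mul, mul_one, mul_assoc, mul_inv_cancel, inv_mul_cancel,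
      mul_inv_cancel_left, inv_mul_cancel_left, ei, di, he, hd, ee, dd] using this
    have hp := (inv_mem h2)
    have hv : (d * x⁻¹ * d) = (d) * ((d) * (d * x⁻¹ * d * x) * (x⁻¹ * d)) * (d) := by simp only [mul_inv_rev, inv_inv, inv_one, one_mul, mul_one, mul_assoc, mul_inv_cancel, inv_mul_cancel,
      mul_inv_cancel_left, inv_mul_cancel_left, ei, di, he, hd, ee, dd]
    rw [hv, hw]
    simpa only [mul_inv_rev, inv_inv, inv_one, one_mul, mul_one, mul_assoc, mul_inv_cancel, inv_mul_cancel,
      mul_inv_cancel_left, inv_mul_cancel_left, ei, di, he, hd, ee, dd] using hp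
  have h5 : (d * k * d) ∈ H := by
    have hw : (k * d * k * d) = 1 := by
      have := congrArg (fun y : G => (1 : G) * y * (1 : G)) r0
      simpa only [mul_inv_rev, inv_inv, inv_one, one_mul, mul_one, mul_assoc, mul_inv_cancel, inv_mul_cancel,
      mul_inv_cancel_left, inv_mul_cancel_left, ei, di, he, hd, ee, dd] using this
    have hp := (inv_mem h1)
    have hv : (d * k * d) = (d) * ((d * k⁻¹) * (k * d * k * d) * (d)) * (d) := by simp only [mul_inv_rev, inv_inv, inv_one, one_mul, mul_one, mul_assoc, mul_inv_cancel, inv_mul_cancel,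
      mul_inv_cancel_left, inv_mul_cancel_left, ei, di, he, hd, ee, dd]
    rw [hv, hw]
    simpa only [mul_inv_rev, inv_inv, inv_one, one_mul, mul_one, mul_assoc, mul_inv_cancel, inv_mul_cancel,
      mul_inv_cancel_left, inv_mul_cancel_left, ei, di, he, hd, ee, dd] using hp
  have h7 : (d * e * d * e * d) ∈ H := by
    have hw : (e * d * e * d * e * d) = 1 := by
      have := congrArg (fun y : G => (1 : G) * y * (1 : G)) r2
      simpa only [mul_inv_rev, inv_inv, inv_one, one_mul, mul_one, mul_assoc, mul_inv_cancel, inv_mul_cancel,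
      mul_inv_cancel_left, inv_mul_cancel_left, ei, di, he, hd, ee, dd] using this
    have hp := h0
    have hv : (d * e * d * e * d) = (d * e) * ((e * d * e) * (e * d * e * d * e * d) * (d * e)) * (e * d) := by simp only [mul_inv_rev, inv_inv, inv_one, one_mul, mul_one, mul_assoc, mul_inv_cancel, inv_mul_cancel,
      mul_inv_cancel_left, inv_mul_cancel_left, ei, di, he, hd, ee, dd]
    rw [hv, hw]
    simpa only [mul_inv_rev, inv_inv, inv_one, one_mul, mul_one, mul_assoc, mul_inv_cancel, inv_mul_cancel,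
      mul_inv_cancel_left, inv_mul_cancel_left, ei, di, he, hd, ee, dd] using hp
  have h10 : (d * e * k * e * k * e * d) ∈ H := by
    have hw : (e * k * e * k * e * k) = 1 := by
      have := congrArg (fun y : G => (1 : G) * y * (1 : G)) r3
      simpa only [mul_inv_rev, inv_inv, inv_one, one_mul, mul_one, mul_assoc, mul_inv_cancel, inv_mul_cancel,
      mul_inv_cancel_left, inv_mul_cancel_left, ei, di, he, hd, ee, dd] using this
    have hp := (inv_mem h5)
    have hv : (d * e * k * e * k * e * d) = (d * e * k) * ((k⁻¹ * e) * (e * k * e * k * e * k) * (k⁻¹ * e * k⁻¹)) * (k * e * d) := by simp only [mul_inv_rev, inv_inv, inv_one, one_mul, mul_one, mul_assoc, mul_inv_cancel, inv_mul_cancel,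
      mul_inv_cancel_left, inv_mul_cancel_left, ei, di, he, hd, ee, dd]
    rw [hv, hw]
    simpa only [mul_inv_rev, inv_inv, inv_one, one_mul, mul_one, mul_assoc, mul_inv_cancel, inv_mul_cancel,
      mul_inv_cancel_left, inv_mul_cancel_left, ei, di, he, hd, ee, dd] using hp
  have h11 : (d * e * k * d * k * e * d) ∈ H := by
    have hw : (k * d * k * d) = 1 := by
      have := congrArg (fun y : G => (1 : G) * y * (1 : G)) r0
      simpa only [mul_inv_rev, inv_inv, inv_one, one_mul, mul_one, mul_assoc, mul_inv_cancel, inv_mul_cancel,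
      mul_inv_cancel_left, inv_mul_cancel_left, ei, di, he, hd, ee, dd] using this
    have hp := h7
    have hv : (d * e * k * d * k * e * d) = (d * e * k) * ((k⁻¹) * (k * d * k * d) * (d * k⁻¹)) * (k * e * d) := by simp only [mul_inv_rev, inv_inv, inv_one, one_mul, mul_one, mul_assoc, mul_inv_cancel, inv_mul_cancel,
      mul_inv_cancel_left, inv_mul_cancel_left, ei, di, he, hd, ee, dd]
    rw [hv, hw]
    simpa only [mul_inv_rev, inv_inv, inv_one, one_mul, mul_one, mul_assoc, mul_inv_cancel, inv_mul_cancel,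
      mul_inv_cancel_left, inv_mul_cancel_left, ei, di, he, hd, ee, dd] using hp
  have h13 : (d * e * x * d * x⁻¹ * e * d) ∈ H := by
    have hw : (x * d * x⁻¹ * d) = 1 := by
      have := congrArg (fun y : G => (d * x * d) * y * (d * x⁻¹ * d)) r1
      simpa only [mul_inv_rev, inv_inv, inv_one, one_mul, mul_one, mul_assoc, mul_inv_cancel, inv_mul_cancel,
      mul_inv_cancel_left, inv_mul_cancel_left, ei, di, he, hd, ee, dd] using this
    have hp := h7
    have hv : (d * e * x * d * x⁻¹ * e * d) = (d * e * x) * ((x⁻¹) * (x * d * x⁻¹ * d) * (d * x)) * (x⁻¹ * e * d) := by simp only [mul_inv_rev, inv_inv, inv_one, one_mul, mul_one, mul_assoc, mul_inv_cancel, inv_mul_cancel,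
      mul_inv_cancel_left, inv_mul_cancel_left, ei, di, he, hd, ee, dd]
    rw [hv, hw]
    simpa only [mul_inv_rev, inv_inv, inv_one, one_mul, mul_one, mul_assoc, mul_inv_cancel, inv_mul_cancel,
      mul_inv_cancel_left, inv_mul_cancel_left, ei, di, he, hd, ee, dd] using hp
  have h15 : (d * e * x⁻¹ * d * x * e * d) ∈ H := by
    have hw : (d * x⁻¹ * d * x) = 1 := by
      have := congrArg (fun y : G => (1 : G) * y * (1 : G)) r1
      simpa only [mul_inv_rev, inv_inv, inv_one, one_mul, mul_one, mul_assoc, mul_inv_cancel, inv_mul_cancel,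
      mul_inv_cancel_left, inv_mul_cancel_left, ei, di, he, hd, ee, dd] using this
    have hp := (inv_mem h7)
    have hv : (d * e * x⁻¹ * d * x * e * d) = (d * e * x⁻¹) * ((x * d) * (d * x⁻¹ * d * x) * (x⁻¹)) * (x * e * d) := by simp only [mul_inv_rev, inv_inv, inv_one, one_mul, mul_one, mul_assoc, mul_inv_cancel, inv_mul_cancel,
      mul_inv_cancel_left, inv_mul_cancel_left, ei, di, he, hd, ee, dd]
    rw [hv, hw]
    simpa only [mul_inv_rev, inv_inv, inv_one, one_mul, mul_one, mul_assoc, mul_inv_cancel, inv_mul_cancel,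
      mul_inv_cancel_left, inv_mul_cancel_left, ei, di, he, hd, ee, dd] using hp
  have h22 : (d * e * k * x * d * x⁻¹ * k * e * d) ∈ H := by
    have hw : (x * d * x⁻¹ * d) = 1 := by
      have := congrArg (fun y : G => (d * x * d) * y * (d * x⁻¹ * d)) r1
      simpa only [mul_inv_rev, inv_inv, inv_one, one_mul, mul_one, mul_assoc, mul_inv_cancel, inv_mul_cancel,
      mul_inv_cancel_left, inv_mul_cancel_left, ei, di, he, hd, ee, dd] using this
    have hp := h11
    have hv : (d * e * k * x * d * x⁻¹ * k * e * d) = (d * e * k * x) * ((x⁻¹) * (x * d * x⁻¹ * d) * (d * x)) * (x⁻¹ * k * e * d) := by simp only [mul_inv_rev, inv_inv, inv_one, one_mul, mul_one, mul_assoc, mul_inv_cancel, inv_mul_cancel,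
      mul_inv_cancel_left, inv_mul_cancel_left, ei, di, he, hd, ee, dd]
    rw [hv, hw]
    simpa only [mul_inv_rev, inv_inv, inv_one, one_mul, mul_one, mul_assoc, mul_inv_cancel, inv_mul_cancel,
      mul_inv_cancel_left, inv_mul_cancel_left, ei, di, he, hd, ee, dd] using hp
  have h26 : (d * e * x * x * e * x⁻¹ * k⁻¹ * e * d) ∈ H := by
    have hw : (x⁻¹ * x⁻¹ * e * x * x * e * x⁻¹ * k⁻¹ * e * k * x) = 1 := by
      have := congrArg (fun y : G => (1 : G) * y * (1 : G)) r5
      simpa only [mul_inv_rev, inv_inv, inv_one, one_mul, mul_one, mul_assoc, mul_inv_cancel, inv_mul_cancel,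
      mul_inv_cancel_left, inv_mul_cancel_left, ei, di, he, hd, ee, dd] using this
    have hp := (mul_mem (mul_mem (mul_mem (inv_mem h4) (inv_mem h4)) h4) (inv_mem h5))
    have hv : (d * e * x * x * e * x⁻¹ * k⁻¹ * e * d) = (d * e * x * x) * ((x⁻¹ * x⁻¹ * e * x * x) * (x⁻¹ * x⁻¹ * e * x * x * e * x⁻¹ * k⁻¹ * e * k * x) * (x⁻¹ * k⁻¹ * e * k * x)) * (x⁻¹ * k⁻¹ * e * d) := by simp only [mul_inv_rev, inv_inv, inv_one, one_mul, mul_one, mul_assoc, mul_inv_cancel, inv_mul_cancel,
      mul_inv_cancel_left, inv_mul_cancel_left, ei, di, he, hd, ee, dd]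
    rw [hv, hw]
    simpa only [mul_inv_rev, inv_inv, inv_one, one_mul, mul_one, mul_assoc, mul_inv_cancel, inv_mul_cancel,
      mul_inv_cancel_left, inv_mul_cancel_left, ei, di, he, hd, ee, dd] using hp
  have h27 : (d * e * x * x * d * x⁻¹ * x⁻¹ * e * d) ∈ H := by
    have hw : (x * d * x⁻¹ * d) = 1 := by
      have := congrArg (fun y : G => (d * x * d) * y * (d * x⁻¹ * d)) r1
      simpa only [mul_inv_rev, inv_inv, inv_one, one_mul, mul_one, mul_assoc, mul_inv_cancel, inv_mul_cancel,
      mul_inv_cancel_left, inv_mul_cancel_left, ei, di, he, hd, ee, dd] using this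
    have hp := h13
    have hv : (d * e * x * x * d * x⁻¹ * x⁻¹ * e * d) = (d * e * x * x) * ((x⁻¹) * (x * d * x⁻¹ * d) * (d * x)) * (x⁻¹ * x⁻¹ * e * d) := by simp only [mul_inv_rev, inv_inv, inv_one, one_mul, mul_one, mul_assoc, mul_inv_cancel, inv_mul_cancel,
      mul_inv_cancel_left, inv_mul_cancel_left, ei, di, he, hd, ee, dd]
    rw [hv, hw]
    simpa only [mul_inv_rev, inv_inv, inv_one, one_mul, mul_one, mul_assoc, mul_inv_cancel, inv_mul_cancel,
      mul_inv_cancel_left, inv_mul_cancel_left, ei, di, he, hd, ee, dd] using hp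
  have h28 : (d * e * k⁻¹ * x * e * x⁻¹ * k * e * d) ∈ H := by
    have hw : (e * d * e * d * e * d) = 1 := by
      have := congrArg (fun y : G => (1 : G) * y * (1 : G)) r2
      simpa only [mul_inv_rev, inv_inv, inv_one, one_mul, mul_one, mul_assoc, mul_inv_cancel, inv_mul_cancel,
      mul_inv_cancel_left, inv_mul_cancel_left, ei, di, he, hd, ee, dd] using this
    have hp := (mul_mem (mul_mem (mul_mem (mul_mem (inv_mem h22) (inv_mem h26)) (inv_mem h27)) h26) h22)
    have hv : (d * e * k⁻¹ * x * e * x⁻¹ * k * e * d) = (d * e * k⁻¹ * x) * ((d * e * d * e) * (e * d * e * d * e * d) * (d)) * (x⁻¹ * k * e * d) := by simp only [mul_inv_rev, inv_inv, inv_one, one_mul, mul_one, mul_assoc, mul_inv_cancel, inv_mul_cancel,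
      mul_inv_cancel_left, inv_mul_cancel_left, ei, di, he, hd, ee, dd]
    rw [hv, hw]
    simpa only [mul_inv_rev, inv_inv, inv_one, one_mul, mul_one, mul_assoc, mul_inv_cancel, inv_mul_cancel,
      mul_inv_cancel_left, inv_mul_cancel_left, ei, di, he, hd, ee, dd] using hp
  have h29 : (d * e * x * k⁻¹ * e * d) ∈ H := by
    have hw : (e * x⁻¹ * e * x * e * x⁻¹ * e * x) = 1 := by
      have := congrArg (fun y : G => (1 : G) * y * (1 : G)) r4
      simpa only [mul_inv_rev, inv_inv, inv_one, one_mul, mul_one, mul_assoc, mul_inv_cancel, inv_mul_cancel,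
      mul_inv_cancel_left, inv_mul_cancel_left, ei, di, he, hd, ee, dd] using this
    have hp := (mul_mem (mul_mem (mul_mem h26 h10) h28) (inv_mem h10))
    have hv : (d * e * x * k⁻¹ * e * d) = (d * e * x) * ((x * e) * (e * x⁻¹ * e * x * e * x⁻¹ * e * x) * (x⁻¹ * e * x * e * x⁻¹ * e)) * (k⁻¹ * e * d) := by simp only [mul_inv_rev, inv_inv, inv_one, one_mul, mul_one, mul_assoc, mul_inv_cancel, inv_mul_cancel,
      mul_inv_cancel_left, inv_mul_cancel_left, ei, di, he, hd, ee, dd]
    rw [hv, hw]
    simpa only [mul_inv_rev, inv_inv, inv_one, one_mul, mul_one, mul_assoc, mul_inv_cancel, inv_mul_cancel,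
      mul_inv_cancel_left, inv_mul_cancel_left, ei, di, he, hd, ee, dd] using hp
  have h30 : (d * e * x * k⁻¹ * e * d) ∈ H := by
    have hp := h29
    simpa only [mul_inv_rev, inv_inv, inv_one, one_mul, mul_one, mul_assoc, mul_inv_cancel, inv_mul_cancel,
      mul_inv_cancel_left, inv_mul_cancel_left, ei, di, he, hd, ee, dd] using hp
  have h38 : (d * e * x⁻¹ * d) ∈ H := by
    have hw : (x * e * x⁻¹ * k⁻¹ * e * k * x * x⁻¹ * x⁻¹ * e * x) = 1 := by
      have := congrArg (fun y : G => (x⁻¹ * e * x * x) * y * (x⁻¹ * x⁻¹ * e * x)) r5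
      simpa only [mul_inv_rev, inv_inv, inv_one, one_mul, mul_one, mul_assoc, mul_inv_cancel, inv_mul_cancel,
      mul_inv_cancel_left, inv_mul_cancel_left, ei, di, he, hd, ee, dd] using this
    have hp := (mul_mem (mul_mem (mul_mem h4 h4) h30) h5)
    have hv : (d * e * x⁻¹ * d) = (d * e * x⁻¹) * ((x * e * x⁻¹) * (x * e * x⁻¹ * k⁻¹ * e * k * x * x⁻¹ * x⁻¹ * e * x) * (x⁻¹ * e * x * x * x⁻¹ * k⁻¹ * e * k)) * (d) := by simp only [mul_inv_rev, inv_inv, inv_one, one_mul, mul_one, mul_assoc, mul_inv_cancel, inv_mul_cancel,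
      mul_inv_cancel_left, inv_mul_cancel_left, ei, di, he, hd, ee, dd]
    rw [hv, hw]
    simpa only [mul_inv_rev, inv_inv, inv_one, one_mul, mul_one, mul_assoc, mul_inv_cancel, inv_mul_cancel,
      mul_inv_cancel_left, inv_mul_cancel_left, ei, di, he, hd, ee, dd] using hp
  have h39 : (d * e * x⁻¹ * d) ∈ H := by
    have hp := h38
    simpa only [mul_inv_rev, inv_inv, inv_one, one_mul, mul_one, mul_assoc, mul_inv_cancel, inv_mul_cancel,
      mul_inv_cancel_left, inv_mul_cancel_left, ei, di, he, hd, ee, dd] using hp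
  have h40 : (d) ∈ H := by
    have hp := (mul_mem (mul_mem (inv_mem h39) (inv_mem h15)) h39)
    simpa only [mul_inv_rev, inv_inv, inv_one, one_mul, mul_one, mul_assoc, mul_inv_cancel, inv_mul_cancel,
      mul_inv_cancel_left, inv_mul_cancel_left, ei, di, he, hd, ee, dd] using hp
  have h44 : (d) ∈ H := by
    have hp := h40
    simpa only [mul_inv_rev, inv_inv, inv_one, one_mul, mul_one, mul_assoc, mul_inv_cancel, inv_mul_cancel,
      mul_inv_cancel_left, inv_mul_cancel_left, ei, di, he, hd, ee, dd] using hp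
  exact h44

end Cfsg.Agent.JThreeType
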