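import Cfsg.Agent.Lib.JThreeType.ThreeLocal

/-!
# Groups of type `J₃`: the cube of `e d`

* `Data.exists_braid`: some `e` of a four-group `W` normalised by `k` has `(e d) ^ 3 ∈ {1, z}`
-/

set_option autoImplicit false
set_option linter.unusedSectionVars false
set_option linter.style.haveILetI false

namespace Cfsg.Agent.JThreeType

open Cfsg Subgroup OrderJTwo
open JTwoType (exists_eq_mul)

namespace AltFive

theorem braid_choice : ∀ σ : A5, σ ^ 3 = 1 → σ ≠ 1 → ∀ τ : A5, τ * σ * τ⁻¹ = σ⁻¹ → τ * τ = 1 →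
    ∀ μ : A5, μ * μ = 1 → μ * (σ⁻¹ * μ * σ) = σ⁻¹ * μ * σ * μ → σ⁻¹ * μ * σ ≠ μ →
      ∃ j : Fin 3, ((σ ^ (j : ℕ))⁻¹ * μ * σ ^ (j : ℕ) * τ) ^ 3 = 1 := by decide +kernel

set_option synthInstance.maxSize 4096 in
set_option synthInstance.maxHeartbeats 400000 in
theorem braid_points : ∀ σ : A5, σ ^ 3 = 1 → σ ≠ 1 → ∀ τ : A5, τ * σ * τ⁻¹ = σ⁻¹ → τ * τ = 1 →
    ∀ μ : A5, μ * μ = 1 → μ * (σ⁻¹ * μ * σ) = σ⁻¹ * μ * σ * μ → σ⁻¹ * μ * σ ≠ μ → (μ * τ) ^ 3 = 1 →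
      ∀ p, σ.1 p = p → μ.1 p = p → ∀ i, τ.1 i = i →
        μ.1 (σ.1 i) = σ⁻¹.1 i ∧ μ.1 i = τ.1 p ∧
          ∀ l, l = i ∨ l = σ.1 i ∨ l = σ⁻¹.1 i ∨ l = p ∨ l = τ.1 p := by decide +kernel

end AltFive

variable {G : Type*} [Group G] [Finite G]

namespace Data

variable (D : Data G)

/-- `v` is one of the two involutions of a pair. -/
def InPair (v : G) (l : Fin 5) : Prop := v = D.u l ∨ v = D.u l * D.z

variable {D}

theorem InPair.conj {v : G} {l : Fin 5} (h : D.InPair v l) {g : G} (hg : g * D.z = D.z * g) :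
    D.InPair (g * v * g⁻¹) ((D.psi ⟨g, D.mem_C.2 hg⟩).1 l) := by
  have ha := D.act ⟨g, D.mem_C.2 hg⟩ l
  rw [show D.φ ⟨g, D.mem_C.2 hg⟩ l = (D.psi ⟨g, D.mem_C.2 hg⟩).1 l from rfl] at ha
  rcases h with rfl | rfl
  · exact ha
  · rw [D.conj_mul_z hg]
    rcases ha with h | h <;> change g * D.u l * g⁻¹ = _ at h <;> rw [h]
    · exact Or.inr rfl
    · left; rw [mul_assoc, D.z2, mul_one]

theorem InPair.unique {v : G} {l m : Fin 5} (h : D.InPair v l) (h' : D.InPair v m) : l = m := by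
  rcases h with rfl | rfl <;> rcases h' with e | e
  · exact D.u_sep l m (Or.inl e)
  · exact D.u_sep l m (Or.inr e)
  · exact (D.u_sep m l (Or.inr e.symm)).symm
  · exact D.u_sep l m (Or.inl (mul_right_cancel e))

theorem InPair.pair {v w : G} {l : Fin 5} (h : D.InPair v l) (h' : D.InPair w l) : v = w ∨ v = w * D.z := by
  rcases h with rfl | rfl <;> rcases h' with rfl | rfl
  · exact Or.inl rfl
  · right; rw [mul_assoc, D.z2, mul_one]
  · exact Or.inr rfl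
  · exact Or.inl rfl

variable (D)

/-- Some element of `W` satisfies the braid relation with `d` modulo `z`. -/
theorem exists_braid {k d f : G} (W : Subgroup G) (hk : orderOf k = 3) (hkz : k * D.z = D.z * k)
    (hd2 : d * d = 1) (hdz : d * D.z = D.z * d) (hdk : d * k * d⁻¹ = k⁻¹)
    (hf2 : f * f = 1) (hf1 : f ≠ 1) (hfne : f ≠ D.z) (hfz : f * D.z = D.z * f) (hfk : f * k = k * f)
    (hWz : ∀ e ∈ W, e * D.z = D.z * e) (hWf : ∀ e ∈ W, e * f = f * e) (hWsq : ∀ e ∈ W, e * e = 1)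
    (hWk : ∀ e ∈ W, k⁻¹ * e * k ∈ W) (hfpf : ∀ e ∈ W, k⁻¹ * e * k = e → e = 1)
    (hksum : ∀ e ∈ W, k⁻¹ * (k⁻¹ * e * k) * k = e * (k⁻¹ * e * k)) (hW : ∃ e ∈ W, e ≠ 1) (hzW : D.z ∉ W) :
    ∃ e ∈ W, e ≠ 1 ∧ ((e * d) ^ 3 = 1 ∨ (e * d) ^ 3 = D.z) := by
  classical
  obtain ⟨h3, h1⟩ := D.sigma_spec hk hkz
  set σ := D.psi ⟨k, D.mem_C.2 hkz⟩ with hσ
  set τ := D.psi ⟨d, D.mem_C.2 hdz⟩ with hτ
  have hτσ : τ * σ * τ⁻¹ = σ⁻¹ := by
    rw [hτ, hσ, ← map_inv, ← map_inv, ← map_mul, ← map_mul]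
    exact congrArg D.psi (Subtype.ext hdk)
  have hτ2 : τ * τ = 1 := by
    rw [hτ, ← map_mul, ← map_one D.psi]; exact congrArg D.psi (Subtype.ext hd2)
  have hτ1 : τ ≠ 1 := fun h => by
    rw [h, one_mul, inv_one, mul_one] at hτσ
    refine h1 ?_
    calc σ = σ ^ 3 * (σ * σ)⁻¹ := by group
      _ = 1 := by rw [h3]; nth_rw 2 [hτσ]; rw [mul_inv_cancel, inv_one, mul_one]
  have hd : D.Outer d := ⟨hdz, hd2, fun h => hτ1 ((D.psi_ker _).2 h)⟩
  -- `W` meets `Q` trivially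
  have hcommW : ∀ a ∈ W, ∀ b ∈ W, a * b = b * a := fun a ha b hb => by
    have h := hWsq _ (mul_mem ha hb)
    rw [eq_inv_of_mul_eq_one_left h, mul_inv_rev, inv_eq_of_mul_eq_one_right (hWsq a ha),
      inv_eq_of_mul_eq_one_right (hWsq b hb)]
  have hWQ : ∀ e ∈ W, e ∈ D.Q → e = 1 := by
    intro e he heQ
    by_contra he1
    have hez : e ≠ D.z := fun h => hzW (h ▸ he)
    have hki : k⁻¹ * D.z = D.z * k⁻¹ := (show Commute k D.z from hkz).inv_left.eq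
    have he' : k⁻¹ * e * k ∈ D.Q := by simpa using D.norm k⁻¹ hki e heQ
    have he'1 : k⁻¹ * e * k ≠ 1 := fun h => he1 (by
      calc e = k * (k⁻¹ * e * k) * k⁻¹ := by group
        _ = 1 := by rw [h]; group)
    have he'z : k⁻¹ * e * k ≠ D.z := fun h => hzW (h ▸ hWk e he)
    rcases D.comm2 e ⟨heQ, hWsq e he, he1, hez⟩ _ ⟨he', hWsq _ (hWk e he), he'1, he'z⟩
      (hcommW e he _ (hWk e he)) with h | h
    · exact he1 (hfpf e he h)
    · refine hzW ?_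
      rw [show D.z = e⁻¹ * (k⁻¹ * e * k) by rw [h, inv_mul_cancel_left]]
      exact mul_mem (inv_mem he) (hWk e he)
  -- the choice of `e`
  obtain ⟨e0, he0, he01⟩ := hW
  have hstep : ∀ e ∈ W, e ≠ 1 → ∀ (hez : e * D.z = D.z * e),
      D.psi ⟨e, D.mem_C.2 hez⟩ * D.psi ⟨e, D.mem_C.2 hez⟩ = 1 ∧
      D.psi ⟨e, D.mem_C.2 hez⟩ * (σ⁻¹ * D.psi ⟨e, D.mem_C.2 hez⟩ * σ) =
        σ⁻¹ * D.psi ⟨e, D.mem_C.2 hez⟩ * σ * D.psi ⟨e, D.mem_C.2 hez⟩ ∧
      σ⁻¹ * D.psi ⟨e, D.mem_C.2 hez⟩ * σ ≠ D.psi ⟨e, D.mem_C.2 hez⟩ := by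
    intro e he he1 hez
    refine ⟨?_, ?_, fun h => ?_⟩
    · rw [← map_mul, ← map_one D.psi]; exact congrArg D.psi (Subtype.ext (hWsq e he))
    · simp only [hσ, ← map_inv, ← map_mul]
      exact congrArg D.psi (Subtype.ext (hcommW e he _ (hWk e he)))
    · have h' : D.psi (⟨e, D.mem_C.2 hez⟩⁻¹ * (⟨k, D.mem_C.2 hkz⟩⁻¹ * ⟨e, D.mem_C.2 hez⟩ * ⟨k, D.mem_C.2 hkz⟩)) =
          1 := by
        rw [map_mul, map_mul, map_mul, map_inv, map_inv, ← hσ, h, inv_mul_cancel]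
      have h2 := hWQ _ (mul_mem (inv_mem he) (hWk e he)) ((D.psi_ker _).1 h')
      exact he1 (hfpf e he (inv_mul_eq_one.1 h2).symm)
  obtain ⟨a1, a2, a3⟩ := hstep e0 he0 he01 (hWz e0 he0)
  obtain ⟨j, hj⟩ := AltFive.braid_choice σ h3 h1 τ hτσ hτ2 _ a1 a2 a3
  obtain ⟨e, he, he1, heψ⟩ : ∃ e, ∃ he : e ∈ W, e ≠ 1 ∧
      (D.psi ⟨e, D.mem_C.2 (hWz e he)⟩ * τ) ^ 3 = 1 := by
    have hmem : (k ^ (j : ℕ))⁻¹ * e0 * k ^ (j : ℕ) ∈ W := by
      have := hWk _ (hWk e0 he0)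
      fin_cases j
      · simpa using he0
      · simpa using hWk e0 he0
      · simpa [pow_two, mul_assoc] using this
    refine ⟨_, hmem, fun h => he01 ?_, ?_⟩
    · calc e0 = k ^ (j : ℕ) * ((k ^ (j : ℕ))⁻¹ * e0 * k ^ (j : ℕ)) * (k ^ (j : ℕ))⁻¹ := by group
        _ = 1 := by rw [h]; group
    · convert hj using 3
      rw [hσ, ← map_pow, ← map_inv, ← map_mul, ← map_mul]
      rfl
  refine ⟨e, he, he1, ?_⟩
  obtain ⟨b1, b2, b3⟩ := hstep e he he1 (hWz e he)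
  have hez := hWz e he
  set μ := D.psi ⟨e, D.mem_C.2 hez⟩ with hμ
  -- the five points
  obtain ⟨i, hi, hdu, -, -⟩ := hd.spec
  have hfQ := D.involution_mem_Q hk hkz hf2 hfz hfk
  obtain ⟨p, hp⟩ := D.u_cover f ⟨hfQ, hf2, hf1, hfne⟩
  have hfp : D.InPair f p := hp
  have hσp : σ.1 p = p := by
    refine (InPair.conj hfp hkz).unique ?_
    rw [← hfk, mul_inv_cancel_right]; exact hfp
  have hμp : μ.1 p = p := by
    refine (InPair.conj hfp hez).unique ?_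
    rw [hWf e he, mul_inv_cancel_right]; exact hfp
  obtain ⟨hμσi, hμi, hcover⟩ := AltFive.braid_points σ h3 h1 τ hτσ hτ2 μ b1 b2 b3 heψ p hσp hμp i hi
  set u := D.u i
  have hu : D.InPair u i := Or.inl rfl
  have hkiz : k⁻¹ * D.z = D.z * k⁻¹ := (show Commute k D.z from hkz).inv_left.eq
  have hk3 : k * k * k = 1 := by
    have := pow_orderOf_eq_one k
    rw [hk] at this
    rw [← this]; simp only [pow_succ, pow_zero, one_mul]
  have hkk : k * k = k⁻¹ := eq_inv_of_mul_eq_one_left hk3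
  set s := k⁻¹ * u * k with hs
  set r := k⁻¹ * s * k with hr
  have hkr : k * r * k⁻¹ = s := by rw [hr]; group
  have hks : k * s * k⁻¹ = u := by rw [hs]; group
  have hru : r = k * u * k⁻¹ := by
    rw [hr, hs, show k⁻¹ * (k⁻¹ * u * k) * k = (k * k)⁻¹ * u * (k * k) by group, hkk, inv_inv]
  have hku : k⁻¹ * r * k = u := by rw [hru]; group
  have hrp : D.InPair r (σ.1 i) := hru ▸ hu.conj hkz
  have hsp : D.InPair s (σ⁻¹.1 i) := by
    have h := hu.conj hkiz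
    rw [show D.psi ⟨k⁻¹, D.mem_C.2 hkiz⟩ = σ⁻¹ by rw [hσ, ← map_inv]; rfl, inv_inv] at h
    exact h
  have hdinv : d⁻¹ = d := hd.inv_eq
  have hdki : d * k⁻¹ = k * d := by
    rw [← hdk, ← mul_assoc, ← mul_assoc, hd2, one_mul, hdinv]
  have hdk' : d * k = k⁻¹ * d := eq_mul_of_mul_inv_eq hdk |>.trans (by rfl)
  have hdu' : d * u * d⁻¹ = u := by rw [hdu, mul_inv_cancel_right]
  have hdr : d * r * d⁻¹ = s := by
    rw [hru, hs]
    calc d * (k * u * k⁻¹) * d⁻¹ = (d * k) * u * (d * k)⁻¹ := by group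
      _ = k⁻¹ * (d * u * d⁻¹) * k := by rw [hdk']; group
      _ = _ := by rw [hdu']
  have hds : d * s * d⁻¹ = r := by
    rw [← hdr]
    calc d * (d * r * d⁻¹) * d⁻¹ = (d * d) * r * (d * d)⁻¹ := by group
      _ = r := by rw [hd2, one_mul, inv_one, mul_one]
  have heinv : e⁻¹ = e := inv_eq_of_mul_eq_one_right (hWsq e he)
  have hee : ∀ x y : G, e * x * e⁻¹ = y → e * y * e⁻¹ = x := fun x y h => by
    rw [← h, show e * (e * x * e⁻¹) * e⁻¹ = (e * e) * x * (e * e)⁻¹ by group, hWsq e he, one_mul, inv_one, mul_one]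
  -- the sign of `e`
  have her : e * r * e⁻¹ = s := by
    have h := hrp.conj hez
    rw [← hμ, hμσi] at h
    refine (h.pair hsp).resolve_right fun hrs => ?_
    have hse : e * s * e⁻¹ = r * D.z := by
      have h' := hee _ _ hrs
      rw [D.conj_mul_z hez] at h'
      rw [← h', mul_assoc _ D.z D.z, D.z2, mul_one]
    set e1 := k⁻¹ * e * k with he1'
    have hz' : k⁻¹ * D.z * k = D.z := by rw [mul_assoc, ← hkz, inv_mul_cancel_left]
    have hzc : ∀ x : G, k⁻¹ * (x * D.z) * k = k⁻¹ * x * k * D.z := fun x => by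
      calc k⁻¹ * (x * D.z) * k = k⁻¹ * x * k * (k⁻¹ * D.z * k) := by group
        _ = _ := by rw [hz']
    have e1u : e1 * u * e1⁻¹ = r * D.z := by
      calc e1 * u * e1⁻¹ = k⁻¹ * (e * (k * u * k⁻¹) * e⁻¹) * k := by rw [he1']; group
        _ = _ := by rw [← hru, hrs, hzc, hr]
    have e1r : e1 * r * e1⁻¹ = u * D.z := by
      calc e1 * r * e1⁻¹ = k⁻¹ * (e * (k * r * k⁻¹) * e⁻¹) * k := by rw [he1']; group
        _ = _ := by rw [hkr, hse, hzc, hku]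
    have e2u : (e * e1) * u * (e * e1)⁻¹ = s * D.z := by
      calc (e * e1) * u * (e * e1)⁻¹ = k⁻¹ * (e1 * (k * u * k⁻¹) * e1⁻¹) * k := by
            rw [he1', ← hksum e he]
            simp only [mul_inv_rev, inv_inv, mul_assoc, inv_mul_cancel_left, mul_inv_cancel_left]
        _ = _ := by rw [← hru, e1r, hzc, hs]
    have e2u' : (e * e1) * u * (e * e1)⁻¹ = s := by
      calc (e * e1) * u * (e * e1)⁻¹ = e * (e1 * u * e1⁻¹) * e⁻¹ := by group
        _ = _ := by rw [e1u, D.conj_mul_z hez, hrs, mul_assoc, D.z2, mul_one]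
    exact D.hQ.zne (mul_left_cancel ((e2u.symm.trans e2u').trans (mul_one s).symm))
  set y := e * d with hy
  have hyz : y * D.z = D.z * y := ((show Commute e D.z from hez).mul_left hdz).eq
  have hyc : ∀ x, y * x * y⁻¹ = e * (d * x * d⁻¹) * e⁻¹ := fun x => by rw [hy]; group
  set q := y ^ 3 with hq
  have hqQ : q ∈ D.Q := by
    refine (D.psi_ker ((⟨e, D.mem_C.2 hez⟩ * ⟨d, D.mem_C.2 hdz⟩) ^ 3)).1 ?_
    rw [map_pow, map_mul]; exact heψ
  have hqy : ∀ x, q * x * q⁻¹ = y * (y * (y * x * y⁻¹) * y⁻¹) * y⁻¹ := fun x => by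
    rw [hq]; simp only [pow_succ, pow_zero, one_mul]; group
  have hqr : q * r * q⁻¹ = r := by
    have h : y * r * y⁻¹ = r := by rw [hyc, hdr, hee _ _ her]
    rw [hqy, h, h, h]
  have hqs : q * s * q⁻¹ = s := by
    have h : y * s * y⁻¹ = s := by rw [hyc, hds, her]
    rw [hqy, h, h, h]
  -- the cycle of `f`
  set h0 := d * f * d⁻¹ with hh0
  have hhp : D.InPair h0 (τ.1 p) := hfp.conj hdz
  have hyh : y * h0 * y⁻¹ = f := by
    rw [hyc, show d * h0 * d⁻¹ = (d * d) * f * (d * d)⁻¹ by rw [hh0]; group, hd2, one_mul, inv_one, mul_one,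
      hWf e he, mul_inv_cancel_right]
  have hyu : y * u * y⁻¹ = e * u * e⁻¹ := by rw [hyc, hdu']
  have hm : e * u * e⁻¹ = h0 ∨ e * u * e⁻¹ = h0 * D.z := by
    have h := hu.conj hez
    rw [← hμ, hμi] at h
    exact h.pair hhp
  obtain ⟨hqf, hqu⟩ : q * f * q⁻¹ = f ∧ q * u * q⁻¹ = u := by
    rcases hm with h | h
    · have hyf : y * f * y⁻¹ = u := by rw [hyc, ← hh0]; exact hee _ _ h
      constructor
      · rw [hqy, hyf, hyu, h, hyh]
      · rw [hqy, hyu, h, hyh, hyf]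
    · have hyf : y * f * y⁻¹ = u * D.z := by
        have h' := hee _ _ h
        rw [D.conj_mul_z hez] at h'
        rw [hyc, ← hh0, ← h', mul_assoc _ D.z D.z, D.z2, mul_one]
      have hyu' : y * u * y⁻¹ = h0 * D.z := by rw [hyu, h]
      constructor
      · rw [hqy, hyf, D.conj_mul_z hyz, hyu', mul_assoc _ D.z D.z, D.z2, mul_one, hyh]
      · rw [hqy, hyu', D.conj_mul_z hyz, hyh, D.conj_mul_z hyz, hyf, mul_assoc _ D.z D.z, D.z2, mul_one]
  have hqh : q * h0 * q⁻¹ = h0 := by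
    have h : y * (q * h0 * q⁻¹) * y⁻¹ = y * h0 * y⁻¹ := by
      rw [hyh, show y * (q * h0 * q⁻¹) * y⁻¹ = q * (y * h0 * y⁻¹) * q⁻¹ by rw [hq]; group, hyh, hqf]
    exact mul_left_cancel (mul_right_cancel h)
  have hqu' : ∀ l, Commute q (D.u l) := by
    intro l
    have key : ∀ v m, D.InPair v m → q * v * q⁻¹ = v → Commute q (D.u m) := by
      rintro v m (rfl | rfl) h
      · exact mul_inv_eq_iff_eq_mul.1 h
      · rw [D.conj_mul_z (D.hQ.zcomm q hqQ)] at h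
        exact mul_inv_eq_iff_eq_mul.1 (mul_right_cancel h)
    rcases hcover l with r' | r' | r' | r' | r' <;> rw [r']
    exacts [key _ _ hu hqu, key _ _ hrp hqr, key _ _ hsp hqs, key _ _ hfp hqf, key _ _ hhp hqh]
  have hcen : ∀ x ∈ D.Q, q * x = x * q := by
    have hinv : ∀ x ∈ invSet D.Q D.z, Commute q x := fun x hx => by
      obtain ⟨l, rfl | rfl⟩ := D.u_cover x hx
      exacts [hqu' l, (hqu' l).mul_right (D.hQ.zcomm q hqQ)]
    intro x hx
    by_cases h2 : x * x = 1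
    · by_cases hx1 : x = 1
      · simp [hx1]
      by_cases hxz : x = D.z
      · rw [hxz]; exact D.hQ.zcomm q hqQ
      exact (hinv x ⟨hx, h2, hx1, hxz⟩).eq
    · obtain ⟨a, ha, b, hb, rfl, -⟩ := exists_eq_mul D.hQ D.invSet_ncard hx ((D.hQ.sq x hx).resolve_left h2)
      exact ((hinv a ha).mul_right (hinv b hb)).eq
  exact D.hQ.cen q hqQ hcen

end Data

end Cfsg.Agent.JThreeType
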