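import Cfsg.Agent.Lib.JThreeType.SelfCent
import Cfsg.Agent.Lib.JTwoType.Outer

/-!
# Groups of type `J₃`: involutions of `C(z)`

* `Data.outer_spec`, `Data.outer_conj`: involutions of `C(z)` outside `Q`
* `Data.conj_into_C`: every involution is conjugate into `C(z)`
-/

set_option autoImplicit false
set_option linter.unusedSectionVars false
set_option linter.style.haveILetI false

namespace Cfsg.Agent.JThreeType

open Cfsg Subgroup OrderJTwo
open scoped commutatorElement Pointwise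


open JTwoType.Alt5
open JTwoType (eq_or_of_pair exists_eq_mul)

abbrev A5 := alternatingGroup (Fin 5)

variable {G : Type*} [Group G] [Finite G]

namespace Data

variable (D : Data G)

theorem z2 : D.z * D.z = 1 := D.hQ.sqz

theorem z_ord : orderOf D.z = 2 := orderOf_eq_prime (by rw [sq, D.z2]) D.hQ.zne

theorem mem_C {g : G} : g ∈ centralizer ({D.z} : Set G) ↔ g * D.z = D.z * g := mem_centralizer_singleton_iff

theorem zinv : D.z⁻¹ = D.z := inv_eq_of_mul_eq_one_right D.z2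

theorem conj_mul_z {g : G} (hg : g * D.z = D.z * g) (x : G) : g * (x * D.z) * g⁻¹ = g * x * g⁻¹ * D.z := by
  rw [← conj_mul, hg, mul_inv_cancel_right]

theorem conj_invSet {g x : G} (hg : g * D.z = D.z * g) (hx : x ∈ invSet D.Q D.z) :
    g * x * g⁻¹ ∈ invSet D.Q D.z :=
  ⟨D.norm g hg x hx.1, by rw [conj_mul, hx.2.1]; group,
    fun h => hx.2.2.1 (conj_eq_one_iff.mp h),
    fun h => hx.2.2.2 ((MulAut.conj g).injective (h.trans (show D.z = g * D.z * g⁻¹ by
      rw [hg, mul_inv_cancel_right])))⟩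

theorem u_sq (i : Fin 5) : D.u i * D.u i = 1 := (D.u_mem i).2.1

theorem u_inv (i : Fin 5) : (D.u i)⁻¹ = D.u i := inv_eq_of_mul_eq_one_right (D.u_sq i)

theorem u_comm {i : Fin 5} : D.u i * D.z = D.z * D.u i := D.hQ.zcomm _ (D.u_mem i).1

theorem u_anti {i j : Fin 5} (h : i ≠ j) : D.u i * D.u j = D.u j * D.u i * D.z := by
  refine (D.hQ.comm _ (D.u_mem i).1 _ (D.u_mem j).1).resolve_left fun hc => h ?_
  rcases D.comm2 _ (D.u_mem i) _ (D.u_mem j) hc with e | e
  · exact (D.u_sep j i (Or.inl e)).symm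
  · exact (D.u_sep j i (Or.inr e)).symm

theorem mem_Q_C {q : G} (hq : q ∈ D.Q) : q ∈ centralizer ({D.z} : Set G) := D.le hq

theorem phi_of_pair (g : centralizer ({D.z} : Set G)) {i j : Fin 5}
    (h : (g : G) * D.u i * (g : G)⁻¹ = D.u j ∨ (g : G) * D.u i * (g : G)⁻¹ = D.u j * D.z) : D.φ g i = j := by
  refine D.u_sep _ _ ?_
  rcases D.act g i with h1 | h1 <;> rcases h with h2 | h2 <;> rw [h1] at h2
  · exact Or.inl h2
  · exact Or.inr h2
  · exact Or.inr (eq_or_of_pair D.z2 h2.symm)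
  · exact Or.inl (mul_right_cancel h2)

theorem phi_mem (g : centralizer ({D.z} : Set G)) : D.φ g ∈ alternatingGroup (Fin 5) :=
  D.range ▸ ⟨g, rfl⟩

/-- The action as an element of the alternating group. -/
def psi : centralizer ({D.z} : Set G) →* A5 := D.φ.codRestrict _ D.phi_mem

theorem psi_val (g : centralizer ({D.z} : Set G)) : (D.psi g).1 = D.φ g := rfl

theorem psi_surj (σ : A5) : ∃ g, D.psi g = σ := by
  obtain ⟨g, hg⟩ : σ.1 ∈ D.φ.range := D.range.ge σ.2
  exact ⟨g, Subtype.ext hg⟩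

theorem psi_ker (g : centralizer ({D.z} : Set G)) : D.psi g = 1 ↔ (g : G) ∈ D.Q := by
  rw [← D.ker g, Subtype.ext_iff]; rfl

theorem card_C : Nat.card (centralizer ({D.z} : Set G)) = 1920 := by
  have h := D.psi.ker.card_mul_index
  have hk : D.psi.ker = D.Q.subgroupOf (centralizer ({D.z} : Set G)) := by
    ext g
    rw [MonoidHom.mem_ker, D.psi_ker, mem_subgroupOf]
  rw [index_ker, MonoidHom.range_eq_top.2 fun σ => D.psi_surj σ, card_top, hk,
    Nat.card_congr (subgroupOfEquivOfLe D.le).toEquiv, D.hQ.card, Nat.card_eq_fintype_card] at h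
  rw [← h]; rfl

theorem invSet_ncard : (invSet D.Q D.z).ncard = 10 := by
  let f : Fin 5 × Bool → invSet D.Q D.z := fun p =>
    if p.2 then ⟨D.u p.1, D.u_mem p.1⟩ else ⟨D.u p.1 * D.z, mul_mem_invSet D.hQ (D.u_mem p.1)⟩
  have hf : Function.Bijective f := by
    refine ⟨?_, fun x => ?_⟩
    · rintro ⟨i, a⟩ ⟨j, b⟩ h
      have h' := congrArg Subtype.val h
      rcases a <;> rcases b <;> simp only [f, if_true, if_false, Bool.false_eq_true] at h'
      · rw [D.u_sep i j (Or.inl (mul_right_cancel h'))]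
      · obtain rfl := D.u_sep j i (Or.inr h'.symm)
        exact absurd (mul_left_cancel (h'.trans (mul_one _).symm)) D.hQ.zne
      · obtain rfl := D.u_sep i j (Or.inr h')
        exact absurd (mul_left_cancel (h'.symm.trans (mul_one _).symm)) D.hQ.zne
      · rw [D.u_sep i j (Or.inl h')]
    · rcases D.u_cover x x.2 with ⟨i, h | h⟩
      · exact ⟨(i, true), Subtype.ext h.symm⟩
      · exact ⟨(i, false), Subtype.ext h.symm⟩
  rw [← Nat.card_coe_set_eq, ← Nat.card_eq_of_bijective f hf]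
  simp

/-- An involution of `C(z)` outside `Q`. -/
structure Outer (v : G) : Prop where
  comm : v * D.z = D.z * v
  sq : v * v = 1
  out : v ∉ D.Q

variable {D}

theorem Outer.inv_eq {v : G} (hv : D.Outer v) : v⁻¹ = v := inv_eq_of_mul_eq_one_right hv.sq

theorem Outer.psi_sq {v : G} (hv : D.Outer v) :
    D.psi ⟨v, D.mem_C.2 hv.comm⟩ * D.psi ⟨v, D.mem_C.2 hv.comm⟩ = 1 ∧ D.psi ⟨v, D.mem_C.2 hv.comm⟩ ≠ 1 := by
  refine ⟨?_, fun h => hv.out ((D.psi_ker _).1 h)⟩
  rw [← map_mul, ← map_one D.psi]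
  exact congrArg D.psi (Subtype.ext hv.sq)

theorem Outer.ord {v : G} (hv : D.Outer v) : orderOf v = 2 :=
  orderOf_eq_prime (by rw [_root_.sq, hv.sq]) fun h => hv.out (h ▸ one_mem _)

/-- An element of order four in `Q` is inverted by the involutions of two pairs only. -/
theorem inverting {a b x : G} (ha : a ∈ invSet D.Q D.z) (hb : b ∈ invSet D.Q D.z)
    (hq : (a * b) * (a * b) = D.z) (hx : x ∈ invSet D.Q D.z) (hinv : x * (a * b) * x = (a * b)⁻¹) :
    x = a ∨ x = a * D.z ∨ x = b ∨ x = b * D.z := by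
  by_contra h
  simp only [not_or] at h
  have hxa : x * a = a * x * D.z := (D.hQ.comm x hx.1 a ha.1).resolve_left fun hc =>
    (D.comm2 a ha x hx hc.symm).elim h.1 h.2.1
  have hxb : x * b = b * x * D.z := (D.hQ.comm x hx.1 b hb.1).resolve_left fun hc =>
    (D.comm2 b hb x hx hc.symm).elim h.2.2.1 h.2.2.2
  have hc : x * (a * b) * x = a * b := by
    calc x * (a * b) * x = (x * a) * b * x := by group
      _ = a * x * (D.z * b) * x := by rw [hxa]; group
      _ = a * (x * b) * D.z * x := by rw [← D.hQ.zcomm b hb.1]; group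
      _ = a * b * x * (D.z * D.z) * x := by rw [hxb]; group
      _ = a * b * (x * x) := by rw [D.z2]; group
      _ = a * b := by rw [hx.2.1, mul_one]
  rw [hc] at hinv
  exact D.hQ.zne (by rw [← hq]; exact mul_eq_one_iff_eq_inv.2 hinv)

theorem Outer.hel {v : G} (hv : D.Outer v) {q : G} (hq : q ∈ D.Q) (hvq : v * q * v⁻¹ = q) : q * q = 1 := by
  by_contra hne
  have hqz := (D.hQ.sq q hq).resolve_left hne
  obtain ⟨a, ha, b, hb, rfl, hab⟩ := exists_eq_mul D.hQ D.invSet_ncard hq hqz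
  obtain ⟨i, hai⟩ := D.u_cover a ha
  obtain ⟨j, hbj⟩ := D.u_cover b hb
  set g : centralizer ({D.z} : Set G) := ⟨v, D.mem_C.2 hv.comm⟩
  set a' := v * a * v⁻¹
  set b' := v * b * v⁻¹
  have hab' : a' * b' = a * b := by rw [conj_mul, hvq]
  have ha' : a' ∈ invSet D.Q D.z := D.conj_invSet hv.comm ha
  have hb' : b' ∈ invSet D.Q D.z := D.conj_invSet hv.comm hb
  have hia : a' * (a * b) * a' = (a * b)⁻¹ := by
    rw [← hab', mul_inv_rev, inv_eq_of_mul_eq_one_right ha'.2.1, inv_eq_of_mul_eq_one_right hb'.2.1,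
      ← mul_assoc a' a' b', ha'.2.1, one_mul]
  have hib : b' * (a * b) * b' = (a * b)⁻¹ := by
    rw [← hab', mul_inv_rev, inv_eq_of_mul_eq_one_right ha'.2.1, inv_eq_of_mul_eq_one_right hb'.2.1,
      mul_assoc b' (a' * b') b', mul_assoc a' b' b', hb'.2.1, mul_one]
  have memA : ∀ x : G, x ∈ ({a, a * D.z} : Set G) → x = D.u i ∨ x = D.u i * D.z := by
    rintro x (rfl | hx)
    · exact hai
    · rw [Set.mem_singleton_iff.1 hx]
      rcases hai with h | h <;> rw [h]
      · exact Or.inr rfl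
      · left; rw [mul_assoc, D.z2, mul_one]
  have memB : ∀ x : G, x ∈ ({b, b * D.z} : Set G) → x = D.u j ∨ x = D.u j * D.z := by
    rintro x (rfl | hx)
    · exact hbj
    · rw [Set.mem_singleton_iff.1 hx]
      rcases hbj with h | h <;> rw [h]
      · exact Or.inr rfl
      · left; rw [mul_assoc, D.z2, mul_one]
  have hij : i ≠ j := by
    rintro rfl
    refine hne ?_
    have key : ∀ x y : G, (x = D.u i ∨ x = D.u i * D.z) → (y = D.u i ∨ y = D.u i * D.z) →
        (x * y) * (x * y) = 1 := by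
      have h1 : D.u i * D.u i = 1 := D.u_sq i
      have h2 := D.z2
      have h3 : D.z * D.u i = D.u i * D.z := D.u_comm.symm
      rintro x y (rfl | rfl) (rfl | rfl) <;> simp [mul_assoc, h1, h2, h3, ← mul_assoc (D.u i) (D.u i)] <;>
        simp [← mul_assoc, h1, h2, h3]
    exact key a b hai hbj
  have hpair : ∀ (x : G) (k : Fin 5), (x = D.u k ∨ x = D.u k * D.z) → ∀ m,
      (v * x * v⁻¹ = D.u m ∨ v * x * v⁻¹ = D.u m * D.z) → D.φ g k = m := by
    intro x k hx m hm
    apply D.phi_of_pair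
    rcases hx with rfl | rfl
    · exact hm
    · rw [D.conj_mul_z hv.comm] at hm
      exact hm.symm.imp mul_right_cancel fun h => (eq_or_of_pair D.z2 h.symm)
  obtain ⟨i0, hi0, huniq⟩ := one_fixed _ hv.psi_sq.1 hv.psi_sq.2
  have hga : D.φ g i = i ∨ D.φ g i = j := by
    rcases inverting ha hb hqz ha' hia with h | h | h | h
    · exact Or.inl (hpair a i hai i (memA a' (by simp [h])))
    · exact Or.inl (hpair a i hai i (memA a' (by simp [h])))
    · exact Or.inr (hpair a i hai j (memB a' (by simp [h])))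
    · exact Or.inr (hpair a i hai j (memB a' (by simp [h])))
  have hgb : D.φ g j = i ∨ D.φ g j = j := by
    rcases inverting ha hb hqz hb' hib with h | h | h | h
    · exact Or.inl (hpair b j hbj i (memA b' (by simp [h])))
    · exact Or.inl (hpair b j hbj i (memA b' (by simp [h])))
    · exact Or.inr (hpair b j hbj j (memB b' (by simp [h])))
    · exact Or.inr (hpair b j hbj j (memB b' (by simp [h])))
  have hswap : D.φ g i = j ∧ D.φ g j = i := by
    rcases hga with h1 | h1 <;> rcases hgb with h2 | h2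
    · exact absurd ((D.φ g).injective (h1.trans h2.symm)) hij
    · exact absurd ((huniq i h1).trans (huniq j h2).symm) hij
    · exact ⟨h1, h2⟩
    · exact absurd ((D.φ g).injective (h1.trans h2.symm)) hij
  have ha'b : a' = b ∨ a' = b * D.z := by
    have h := D.act g i
    rw [hswap.1] at h
    have e : (g : G) = v := rfl
    rw [e] at h
    rcases hai with h1 | h1 <;> rcases hbj with h2 | h2 <;> simp only [a', h1, h2] <;>
      [skip; skip; rw [D.conj_mul_z hv.comm]; rw [D.conj_mul_z hv.comm]]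
    · exact h
    · rw [mul_assoc _ D.z D.z, D.z2, mul_one]; exact h.symm
    · rcases h with h | h <;> rw [h]
      · exact Or.inr rfl
      · left; rw [mul_assoc, D.z2, mul_one]
    · rcases h with h | h <;> rw [h]
      · exact Or.inl rfl
      · right; rfl
  have hvv : ∀ x, v * (v * x * v⁻¹) * v⁻¹ = x := fun x => by
    calc v * (v * x * v⁻¹) * v⁻¹ = (v * v) * x * (v * v)⁻¹ := by group
      _ = x := by rw [hv.sq, one_mul, inv_one, mul_one]
  have hconj : a' * b' = b * a := by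
    rcases ha'b with h | h
    · have hb'a : b' = a := by show v * b * v⁻¹ = a; rw [← h]; exact hvv a
      rw [h, hb'a]
    · have hb'a : b' = a * D.z := by
        have e : b = a' * D.z := by rw [h, mul_assoc, D.z2, mul_one]
        show v * b * v⁻¹ = a * D.z
        rw [e, D.conj_mul_z hv.comm, hvv]
      rw [h, hb'a, mul_assoc b D.z, ← mul_assoc D.z a, ← D.hQ.zcomm a ha.1, mul_assoc a D.z D.z, D.z2, mul_one]
  rw [hab', hab] at hconj
  exact D.hQ.zne (mul_left_cancel (hconj.trans (mul_one _).symm))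

theorem Outer.spec {v : G} (hv : D.Outer v) : ∃ i : Fin 5,
    (D.psi ⟨v, D.mem_C.2 hv.comm⟩).1 i = i ∧ v * D.u i = D.u i * v ∧
    (∀ q ∈ D.Q, v * q * v⁻¹ = q → q = 1 ∨ q = D.z ∨ q = D.u i ∨ q = D.u i * D.z) ∧
    {q | q ∈ D.Q ∧ v * q * v⁻¹ = q⁻¹}.ncard = 8 := by
  have hvz : v * D.z * v⁻¹ = D.z := by rw [hv.comm, mul_inv_cancel_right]
  obtain ⟨h2, h8⟩ := outer_facts D.hQ D.comm2 v hv.sq hvz (D.norm v hv.comm) fun x hx hf => hv.hel hx hf
  obtain ⟨i, hi, huniq⟩ := one_fixed _ hv.psi_sq.1 hv.psi_sq.2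
  have hfix : ∀ x ∈ invSet D.Q D.z, v * x * v⁻¹ = x → x = D.u i ∨ x = D.u i * D.z := by
    intro x hx hvx
    obtain ⟨k, hk⟩ := D.u_cover x hx
    have : D.φ ⟨v, D.mem_C.2 hv.comm⟩ k = k := by
      apply D.phi_of_pair
      show v * D.u k * v⁻¹ = _ ∨ v * D.u k * v⁻¹ = _
      rcases hk with rfl | rfl
      · exact Or.inl hvx
      · rw [D.conj_mul_z hv.comm] at hvx
        exact Or.inl (mul_right_cancel hvx)
    obtain rfl := huniq k this
    exact hk
  have heq : {x | x ∈ invSet D.Q D.z ∧ v * x * v⁻¹ = x} = {D.u i, D.u i * D.z} := by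
    refine Set.eq_of_subset_of_ncard_le (fun x hx => hfix x hx.1 hx.2) ?_ (Set.toFinite _)
    rw [h2]
    exact (Set.ncard_insert_le _ _).trans (by rw [Set.ncard_singleton])
  have hui : v * D.u i * v⁻¹ = D.u i := (heq.ge (Set.mem_insert _ _)).2
  refine ⟨i, hi, mul_inv_eq_iff_eq_mul.1 hui, fun q hq hvq => ?_, h8⟩
  by_cases h1 : q = 1
  · exact Or.inl h1
  by_cases h2' : q = D.z
  · exact Or.inr (Or.inl h2')
  exact Or.inr (Or.inr (hfix q ⟨hq, hv.hel hq hvq, h1, h2'⟩ hvq))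

theorem Outer.mul_mem_iff {v a : G} (hv : D.Outer v) (ha : a ∈ D.Q) :
    D.Outer (v * a) ↔ v * a * v⁻¹ = a⁻¹ := by
  constructor
  · intro h
    have e := h.sq
    rw [show v * a * (v * a) = (v * a * v) * a by group] at e
    rw [hv.inv_eq]; exact eq_inv_of_mul_eq_one_left e
  · intro h
    refine ⟨by rw [mul_assoc, D.hQ.zcomm a ha, ← mul_assoc, hv.comm, mul_assoc], ?_,
      fun h' => hv.out (by simpa using mul_mem h' (inv_mem ha))⟩
    rw [hv.inv_eq] at h
    rw [show v * a * (v * a) = (v * a * v) * a by group, h, inv_mul_cancel]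

theorem Outer.coset_conj {v w : G} (hv : D.Outer v) (hw : D.Outer w)
    (h : D.psi ⟨v, D.mem_C.2 hv.comm⟩ = D.psi ⟨w, D.mem_C.2 hw.comm⟩) : ∃ q ∈ D.Q, q * v * q⁻¹ = w := by
  classical
  haveI := Fintype.ofFinite G
  obtain ⟨i, -, -, hC, h8⟩ := hv.spec
  let A : Finset G := Finset.univ.filter fun a => a ∈ D.Q ∧ v * a * v⁻¹ = a⁻¹
  let S : Finset G := Finset.univ.filter fun q => q ∈ D.Q
  let f : G → G := fun q => v⁻¹ * (q * v * q⁻¹)
  have hvz : v⁻¹ * D.z = D.z * v⁻¹ := by rw [hv.inv_eq]; exact hv.comm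
  have hf : ∀ q ∈ S, f q ∈ A := by
    intro q hq
    have hq' : q ∈ D.Q := (Finset.mem_filter.1 hq).2
    have hfQ : f q ∈ D.Q := by
      have := mul_mem (D.norm v⁻¹ hvz q hq') (inv_mem hq')
      rw [inv_inv] at this
      simpa [f, mul_assoc] using this
    refine Finset.mem_filter.2 ⟨Finset.mem_univ _, hfQ, ?_⟩
    refine (hv.mul_mem_iff hfQ).1 ?_
    have hq2 : v * f q = q * v * q⁻¹ := by simp [f, mul_assoc]
    rw [hq2]
    refine ⟨D.mem_C.1 (mul_mem (mul_mem (D.le hq') (D.mem_C.2 hv.comm)) (inv_mem (D.le hq'))), ?_, ?_⟩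
    · rw [conj_mul, hv.sq, mul_one, mul_inv_cancel]
    · intro h'
      exact hv.out (by simpa [mul_assoc] using mul_mem (mul_mem (inv_mem hq') h') hq')
  let W : Finset G := {1, D.z, D.u i, D.u i * D.z}
  have hfib : ∀ a ∈ S.image f, (S.filter fun q => f q = a).card ≤ 4 := by
    intro a ha
    obtain ⟨q0, hq0, rfl⟩ := Finset.mem_image.1 ha
    have hq0' : q0 ∈ D.Q := (Finset.mem_filter.1 hq0).2
    calc (S.filter fun q => f q = f q0).card ≤ (W.image fun w => q0 * w).card := by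
          refine Finset.card_le_card fun q hq => ?_
          obtain ⟨hqS, hqf⟩ := Finset.mem_filter.1 hq
          have hq' : q ∈ D.Q := (Finset.mem_filter.1 hqS).2
          have e : q * v * q⁻¹ = q0 * v * q0⁻¹ := mul_left_cancel hqf
          have hfix : v * (q0⁻¹ * q) * v⁻¹ = q0⁻¹ * q := by
            rw [mul_inv_eq_iff_eq_mul]
            calc v * (q0⁻¹ * q) = q0⁻¹ * (q0 * v * q0⁻¹) * q := by group
              _ = q0⁻¹ * (q * v * q⁻¹) * q := by rw [e]
              _ = _ := by group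
          refine Finset.mem_image.2 ⟨q0⁻¹ * q, ?_, by group⟩
          simp only [W, Finset.mem_insert, Finset.mem_singleton]
          exact hC _ (mul_mem (inv_mem hq0') hq') hfix
      _ ≤ W.card := Finset.card_image_le
      _ ≤ 4 := Finset.card_le_four
  have hS : S.card = 32 := by
    rw [← D.hQ.card, Nat.card_eq_fintype_card, Fintype.card_subtype]
  have hA : A.card = 8 := by
    rw [← h8, Set.ncard_eq_toFinset_card', Set.toFinset_setOf]
  have himg : S.image f = A := by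
    refine Finset.eq_of_subset_of_card_le (Finset.image_subset_iff.2 hf) ?_
    have := Finset.card_le_mul_card_image_of_maps_to (fun q hq => Finset.mem_image_of_mem f hq) 4 hfib
    omega
  have ha : v⁻¹ * w ∈ A := by
    have hm : v⁻¹ * w ∈ D.Q := by
      have h1 : D.psi ((⟨v, D.mem_C.2 hv.comm⟩ : centralizer ({D.z} : Set G))⁻¹ * ⟨w, D.mem_C.2 hw.comm⟩) = 1 := by
        rw [map_mul, map_inv, h, inv_mul_cancel]
      exact (D.psi_ker _).1 h1
    exact Finset.mem_filter.2 ⟨Finset.mem_univ _, hm, (hv.mul_mem_iff hm).1 (by rw [mul_inv_cancel_left]; exact hw)⟩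
  rw [← himg] at ha
  obtain ⟨q, hq, hqw⟩ := Finset.mem_image.1 ha
  exact ⟨q, (Finset.mem_filter.1 hq).2, mul_left_cancel hqw⟩

theorem Outer.conj {v : G} (hv : D.Outer v) {g : G} (hg : g * D.z = D.z * g) : D.Outer (g * v * g⁻¹) := by
  have hgi : g⁻¹ ∈ centralizer ({D.z} : Set G) := inv_mem (D.mem_C.2 hg)
  refine ⟨D.mem_C.1 (mul_mem (mul_mem (D.mem_C.2 hg) (D.mem_C.2 hv.comm)) hgi),
    by rw [conj_mul, hv.sq, mul_one, mul_inv_cancel], fun h => hv.out ?_⟩
  have := D.norm g⁻¹ (D.mem_C.1 hgi) _ h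
  simpa [mul_assoc] using this

theorem Outer.conj_all {v w : G} (hv : D.Outer v) (hw : D.Outer w) :
    ∃ g, g * D.z = D.z * g ∧ g * v * g⁻¹ = w := by
  obtain ⟨ρ, hρ⟩ := conjugate _ _ hv.psi_sq.1 hv.psi_sq.2 hw.psi_sq.1 hw.psi_sq.2
  obtain ⟨g, rfl⟩ := D.psi_surj ρ
  have hg := D.mem_C.1 g.2
  obtain ⟨q, hq, hqw⟩ := (hv.conj hg).coset_conj hw (by
    rw [← hρ, ← map_inv, ← map_mul, ← map_mul]; rfl)
  refine ⟨q * g, D.mem_C.1 (mul_mem (D.le hq) g.2), ?_⟩
  rw [← hqw]; group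

theorem invSet_isConj {x : G} (hx : x ∈ invSet D.Q D.z) : IsConj D.z x := by
  obtain ⟨g, hgQ, hgne⟩ := D.wc
  set w := g * D.z * g⁻¹
  have hw : w ∈ invSet D.Q D.z := ⟨hgQ, by rw [conj_mul, D.z2, mul_one, mul_inv_cancel],
    fun h => D.hQ.zne (conj_eq_one_iff.1 h), hgne⟩
  obtain ⟨i, hi⟩ := D.u_cover w hw
  obtain ⟨j, hj⟩ := D.u_cover x hx
  obtain ⟨ρ, hρ⟩ := transitive i j
  obtain ⟨c, rfl⟩ := D.psi_surj ρ
  -- a conjugate of `w` in the pair of `x`
  have hpair : ∀ k y, (y = D.u k ∨ y = D.u k * D.z) → ∀ c : centralizer ({D.z} : Set G),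
      (c : G) * y * (c : G)⁻¹ = D.u (D.φ c k) ∨ (c : G) * y * (c : G)⁻¹ = D.u (D.φ c k) * D.z := by
    rintro k y (rfl | rfl) c
    · exact D.act c k
    · rw [D.conj_mul_z (D.mem_C.1 c.2)]
      rcases D.act c k with h | h <;> rw [h]
      · exact Or.inr rfl
      · left; rw [mul_assoc, D.z2, mul_one]
  have hw' := hpair i w hi c
  rw [← D.psi_val, hρ] at hw'
  set w' := (c : G) * w * (c : G)⁻¹
  have hzw : IsConj D.z w' := (isConj_iff.2 ⟨g, rfl⟩ : IsConj D.z w).trans (isConj_iff.2 ⟨c, rfl⟩)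
  have hflip : IsConj (D.u j) (D.u j * D.z) := by
    obtain ⟨k, hk⟩ : ∃ k, k ≠ j := exists_ne j
    refine isConj_iff.2 ⟨D.u k, ?_⟩
    rw [D.u_anti hk, mul_assoc (D.u j * D.u k), D.u_inv, ← D.u_comm, ← mul_assoc, mul_assoc (D.u j), D.u_sq,
      mul_one]
  rcases hj with rfl | rfl <;> rcases hw' with h | h <;> rw [h] at hzw
  · exact hzw
  · exact hzw.trans hflip.symm
  · exact hzw.trans hflip
  · exact hzw

variable (D)

theorem involution_cases {x : G} (hxC : x * D.z = D.z * x) (hx : x * x = 1) (hx1 : x ≠ 1) :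
    x = D.z ∨ x ∈ invSet D.Q D.z ∨ D.Outer x := by
  by_cases h : x ∈ D.Q
  · by_cases hz : x = D.z
    · exact Or.inl hz
    · exact Or.inr (Or.inl ⟨h, hx, hx1, hz⟩)
  · exact Or.inr (Or.inr ⟨hxC, hx, h⟩)

/-- A Sylow 2-subgroup of `G` lies in `C(z)`. -/
theorem exists_sylow_le : ∃ T : Sylow 2 G, (T : Subgroup G) ≤ centralizer ({D.z} : Set G) := by
  haveI : Fact (Nat.Prime 2) := ⟨Nat.prime_two⟩
  set C := centralizer ({D.z} : Set G)
  obtain ⟨S⟩ : Nonempty (Sylow 2 C) := inferInstance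
  set P : Subgroup G := (S : Subgroup C).map C.subtype
  have hP : IsPGroup 2 P := S.isPGroup'.map _
  obtain ⟨T, hT⟩ := hP.exists_le_sylow
  refine ⟨T, ?_⟩
  have hPC : P ≤ C := map_subtype_le _
  have hQP : D.Q ≤ P := by
    have hQp : IsPGroup 2 (D.Q.subgroupOf C) :=
      (IsPGroup.of_card (n := 5) (by rw [D.hQ.card]; rfl) : IsPGroup 2 D.Q).comap_of_injective C.subtype
        C.subtype_injective
    haveI : (D.Q.subgroupOf C).Normal := ⟨fun q hq g => mem_subgroupOf.2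
      (D.norm g (D.mem_C.1 g.2) q (mem_subgroupOf.1 hq))⟩
    intro q hq
    exact ⟨⟨q, D.le hq⟩, hQp.le_sylow_of_normal S (mem_subgroupOf.2 hq), rfl⟩
  by_contra hTC
  have hlt : P.subgroupOf (T : Subgroup G) < ⊤ := by
    rw [lt_top_iff_ne_top, Ne, subgroupOf_eq_top]
    exact fun h => hTC (h.trans hPC)
  haveI := T.isPGroup'.isNilpotent
  obtain ⟨n, hnN, hnP⟩ := SetLike.exists_of_lt (normalizerCondition_of_isNilpotent _ hlt)
  -- `n` normalizes `P`, hence fixes its central involution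
  have hnorm : ∀ p ∈ P, (n : G) * p * (n : G)⁻¹ ∈ P := by
    intro p hp
    exact mem_subgroupOf.1 ((mem_normalizer_iff.1 hnN ⟨p, hT hp⟩).1 (mem_subgroupOf.2 hp))
  have hnz : (n : G) * D.z * (n : G)⁻¹ = D.z := by
    have hm := hnorm D.z (hQP D.hQ.zmem)
    have hinv : ∀ p ∈ P, (n : G)⁻¹ * p * n ∈ P := by
      intro p hp
      exact mem_subgroupOf.1 ((mem_normalizer_iff''.1 hnN ⟨p, hT hp⟩).1 (mem_subgroupOf.2 hp))
    have hcentral : ∀ p ∈ P, ((n : G) * D.z * (n : G)⁻¹) * p = p * ((n : G) * D.z * (n : G)⁻¹) := by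
      intro p hp
      have e := D.mem_C.1 (hPC (hinv p hp))
      calc ((n : G) * D.z * (n : G)⁻¹) * p = (n : G) * (D.z * ((n : G)⁻¹ * p * n)) * (n : G)⁻¹ := by group
        _ = (n : G) * (((n : G)⁻¹ * p * n) * D.z) * (n : G)⁻¹ := by rw [e]
        _ = _ := by group
    have hq : (n : G) * D.z * (n : G)⁻¹ ∈ D.Q := D.self _ fun q hq => hcentral q (hQP hq)
    rcases D.hQ.cen _ hq (fun q hq => hcentral q (hQP hq)) with h | h
    · exact absurd (conj_eq_one_iff.1 h) D.hQ.zne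
    · exact h
  -- so `n` extends the Sylow subgroup of `C`
  have hnC : (n : G) ∈ C := D.mem_C.2 (mul_inv_eq_iff_eq_mul.1 hnz)
  have hbig : IsPGroup 2 ((T : Subgroup G).subgroupOf C) := T.isPGroup'.comap_of_injective _ C.subtype_injective
  have hSle : (S : Subgroup C) ≤ (T : Subgroup G).subgroupOf C := fun s hs => mem_subgroupOf.2 (hT ⟨s, hs, rfl⟩)
  have hmem : (⟨n, hnC⟩ : C) ∈ (S : Subgroup C) := S.is_maximal' hbig hSle ▸ mem_subgroupOf.2 n.2
  exact hnP (mem_subgroupOf.2 ⟨⟨n, hnC⟩, hmem, rfl⟩)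

theorem conj_into_C {x : G} (hx : orderOf x = 2) : ∃ g, (g * x * g⁻¹) * D.z = D.z * (g * x * g⁻¹) := by
  haveI : Fact (Nat.Prime 2) := ⟨Nat.prime_two⟩
  obtain ⟨T, hT⟩ := D.exists_sylow_le
  obtain ⟨R, hR⟩ := (IsPGroup.of_card (p := 2) (n := 1) (G := zpowers x) (by
    rw [Nat.card_zpowers, hx, pow_one])).exists_le_sylow
  obtain ⟨g, hg⟩ := MulAction.exists_smul_eq G R T
  refine ⟨g, D.mem_C.1 (hT ?_)⟩
  have hm : MulAut.conj g x ∈ MulAut.conj g • (R : Subgroup G) :=
    Subgroup.smul_mem_pointwise_smul x (MulAut.conj g) _ (hR (mem_zpowers x))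
  rw [← hg, Sylow.coe_subgroup_smul]
  exact hm

end Data

end Cfsg.Agent.JThreeType
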