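import Cfsg.Agent.Lib.JThreeType.OuterExists

/-!
# Groups of type `J₃`: commuting pairs of involutions

Two distinct commuting involutions `a, b` form a pair in a line when `b` lies in the extraspecial subgroup of
`C(a)`; with one class of involutions this is symmetric, as it says that their common centraliser is not of
order 16.

* `Data.conjBy`: the data at a conjugate of `z`
* `InLine`, `inLine_iff`, `inLine_unique`
-/

set_option autoImplicit false
set_option linter.unusedSectionVars false
set_option linter.style.haveILetI false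

namespace Cfsg.Agent.JThreeType

open Cfsg Subgroup OrderJTwo
open scoped commutatorElement Pointwise

variable {G : Type*} [Group G] [Finite G]

namespace Data

variable {D : Data G}

/-- `C(z) ⊓ C(t)`. -/
def E (D : Data G) (t : G) : Subgroup G := centralizer ({D.z} : Set G) ⊓ centralizer ({t} : Set G)

theorem mem_E {t x : G} : x ∈ D.E t ↔ x * D.z = D.z * x ∧ x * t = t * x :=
  and_congr mem_centralizer_singleton_iff mem_centralizer_singleton_iff

/-- Conjugation as a bijection. -/
theorem conj_cancel (g x : G) : g * (g⁻¹ * x * g) * g⁻¹ = x ∧ g⁻¹ * (g * x * g⁻¹) * g = x := by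
  constructor <;> group

/-- The data transported by an automorphism. -/
noncomputable def conjBy (D : Data G) (e : MulAut G) : Data G where
  z := e D.z
  Q := D.Q.map e.toMonoidHom
  u i := e (D.u i)
  φ := D.φ.comp
    { toFun := fun c => ⟨e.symm (c : G), mem_centralizer_singleton_iff.2 (e.injective (by
          rw [map_mul, map_mul, e.apply_symm_apply]; exact mem_centralizer_singleton_iff.1 c.2))⟩
      map_one' := Subtype.ext (map_one e.symm)
      map_mul' := fun a b => Subtype.ext (map_mul e.symm (a : G) (b : G)) }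
  hQ := by
    have hm : ∀ x, x ∈ D.Q.map e.toMonoidHom ↔ e.symm x ∈ D.Q := fun x => Subgroup.mem_map_equiv
    have hinj := e.symm.injective
    refine ⟨by rw [card_map_of_injective e.injective, D.hQ.card], ?_, by rw [← map_mul, D.hQ.sqz, map_one],
      fun h => D.hQ.zne (e.injective (h.trans (map_one e).symm)), ?_, ?_, ?_, ?_⟩
    · rw [hm, e.symm_apply_apply]; exact D.hQ.zmem
    · intro x hx
      exact hinj (by simp only [map_mul, e.symm_apply_apply]; exact D.hQ.zcomm _ ((hm x).1 hx))
    · intro x hx y hy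
      exact (D.hQ.comm _ ((hm x).1 hx) _ ((hm y).1 hy)).imp (fun h => hinj (by simpa using h))
        (fun h => hinj (by simp only [map_mul, e.symm_apply_apply]; exact h))
    · intro x hx
      exact (D.hQ.sq _ ((hm x).1 hx)).imp (fun h => hinj (by simpa using h))
        (fun h => hinj (by simp only [map_mul, e.symm_apply_apply]; exact h))
    · intro x hx h
      refine (D.hQ.cen _ ((hm x).1 hx) fun y hy => e.injective ?_).imp (fun h => hinj (by simpa using h))
        (fun h => hinj (by simpa using h))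
      simpa using h (e y) ⟨y, hy, rfl⟩
  le := by
    rintro _ ⟨x, hx, rfl⟩
    exact mem_centralizer_singleton_iff.2 (by
      show e x * e D.z = e D.z * e x
      rw [← map_mul, ← map_mul, D.hQ.zcomm x hx])
  norm := by
    rintro g hg _ ⟨x, hx, rfl⟩
    refine ⟨e.symm g * x * (e.symm g)⁻¹, D.norm _ (e.injective (by simpa using hg)) x hx, ?_⟩
    show e (e.symm g * x * (e.symm g)⁻¹) = g * e x * g⁻¹
    rw [map_mul, map_mul, map_inv, e.apply_symm_apply]
  self := by
    intro g hg
    refine Subgroup.mem_map_equiv.2 (D.self _ fun x hx => e.injective ?_)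
    simpa using hg (e x) ⟨x, hx, rfl⟩
  comm2 := by
    intro a ha b hb hab
    have hI : ∀ x ∈ invSet (D.Q.map e.toMonoidHom) (e D.z), e.symm x ∈ invSet D.Q D.z := fun x hx =>
      ⟨Subgroup.mem_map_equiv.1 hx.1, by rw [← map_mul, hx.2.1, map_one],
        fun h => hx.2.2.1 (e.symm.injective (h.trans (map_one e.symm).symm)),
        fun h => hx.2.2.2 (e.symm.injective (h.trans (e.symm_apply_apply D.z).symm))⟩
    exact (D.comm2 _ (hI a ha) _ (hI b hb) (by rw [← map_mul, hab, map_mul])).imp (fun h => e.symm.injective h)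
      (fun h => e.symm.injective (by simp only [map_mul, e.symm_apply_apply]; exact h))
  u_mem i := by
    obtain ⟨h1, h2, h3, h4⟩ := D.u_mem i
    exact ⟨⟨_, h1, rfl⟩, by rw [← map_mul, h2, map_one], fun h => h3 (e.injective (h.trans (map_one e).symm)),
      fun h => h4 (e.injective h)⟩
  u_cover := by
    intro x hx
    obtain ⟨i, hi⟩ := D.u_cover (e.symm x) ⟨Subgroup.mem_map_equiv.1 hx.1, by rw [← map_mul, hx.2.1, map_one],
      fun h => hx.2.2.1 (e.symm.injective (h.trans (map_one e.symm).symm)),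
      fun h => hx.2.2.2 (e.symm.injective (h.trans (e.symm_apply_apply D.z).symm))⟩
    exact ⟨i, hi.imp (fun h => by rw [← h, e.apply_symm_apply])
      (fun h => by rw [← map_mul, ← h, e.apply_symm_apply])⟩
  u_sep i j h := D.u_sep i j (h.imp (fun h => e.injective h) (fun h => e.injective (by rw [map_mul]; exact h)))
  act g i := by
    have h := D.act ⟨e.symm (g : G), mem_centralizer_singleton_iff.2 (e.injective (by
      rw [map_mul, map_mul, e.apply_symm_apply]; exact mem_centralizer_singleton_iff.1 g.2))⟩ i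
    refine h.imp (fun h => e.symm.injective ?_) (fun h => e.symm.injective ?_)
    all_goals simp only [map_mul, map_inv, e.symm_apply_apply, MonoidHom.comp_apply]
    all_goals exact h
  ker g := by
    rw [Subgroup.mem_map_equiv]
    exact D.ker _
  range := by
    rw [← D.range]
    refine le_antisymm (fun x ⟨c, hc⟩ => ⟨_, hc⟩) fun x ⟨c, hc⟩ => ?_
    refine ⟨⟨e c, mem_centralizer_singleton_iff.2 (by
      rw [← map_mul, ← map_mul, mem_centralizer_singleton_iff.1 c.2])⟩, ?_⟩
    rw [← hc]
    exact congrArg D.φ (Subtype.ext (e.symm_apply_apply _))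
  wc := by
    obtain ⟨g, h1, h2⟩ := D.wc
    refine ⟨e g, ⟨g * D.z * g⁻¹, h1, by simp⟩, fun h => h2 (e.injective ?_)⟩
    simpa using h

variable (hone : ∀ x y : G, orderOf x = 2 → orderOf y = 2 → IsConj x y)
include hone

/-- Data at every involution. -/
theorem exists_at (D : Data G) {a : G} (ha : orderOf a = 2) : ∃ D' : Data G, D'.z = a := by
  obtain ⟨g, hg⟩ := isConj_iff.1 (hone _ _ D.z_ord ha)
  exact ⟨D.conjBy (MulAut.conj g), hg⟩

end Data

/-- `b` lies in the line of `a`. -/
def InLine (a b : G) : Prop :=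
  Commute a b ∧ Nat.card (centralizer ({a} : Set G) ⊓ centralizer ({b} : Set G) : Subgroup G) ≠ 16

theorem InLine.symm {a b : G} (h : InLine a b) : InLine b a := ⟨h.1.symm, by rw [inf_comm]; exact h.2⟩

theorem InLine.conj {a b : G} (h : InLine a b) (g : G) : InLine (g * a * g⁻¹) (g * b * g⁻¹) := by
  refine ⟨by
    show g * a * g⁻¹ * (g * b * g⁻¹) = g * b * g⁻¹ * (g * a * g⁻¹)
    rw [conj_mul, conj_mul, h.1.eq], fun e => h.2 (Eq.trans ?_ e)⟩
  refine Nat.card_congr ((MulAut.conj g).toEquiv.subtypeEquiv fun x => ?_)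
  show x ∈ centralizer ({a} : Set G) ∧ x ∈ centralizer ({b} : Set G) ↔
    g * x * g⁻¹ ∈ centralizer ({g * a * g⁻¹} : Set G) ∧ g * x * g⁻¹ ∈ centralizer ({g * b * g⁻¹} : Set G)
  simp only [mem_centralizer_singleton_iff, conj_mul]
  exact and_congr ⟨fun e => by rw [e], fun e => mul_left_cancel (mul_right_cancel e)⟩
    ⟨fun e => by rw [e], fun e => mul_left_cancel (mul_right_cancel e)⟩

namespace Data

variable {D : Data G}

theorem Outer.card_E {t : G} (ht : D.Outer t) : Nat.card (D.E t) = 16 := by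
  classical
  obtain ⟨i, hi, hti, hC, -⟩ := ht.spec
  have hu : D.u i ∈ D.E t := mem_E.2 ⟨D.u_comm, hti.symm⟩
  have hfE : four D.hQ (D.u_mem i) ≤ D.E t := by
    rintro x (rfl | rfl | rfl | rfl)
    · exact one_mem _
    · exact mem_E.2 ⟨rfl, ht.comm.symm⟩
    · exact hu
    · exact mul_mem hu (mem_E.2 ⟨rfl, ht.comm.symm⟩)
  have hfQ : four D.hQ (D.u_mem i) ≤ D.Q := by
    rintro x (rfl | rfl | rfl | rfl)
    exacts [one_mem _, D.hQ.zmem, (D.u_mem i).1, mul_mem (D.u_mem i).1 D.hQ.zmem]
  let χ : D.E t →* A5 := D.psi.comp (Subgroup.inclusion inf_le_left)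
  have hker : χ.ker = (four D.hQ (D.u_mem i)).subgroupOf (D.E t) := by
    ext x
    rw [MonoidHom.mem_ker, mem_subgroupOf]
    refine ⟨fun h => ?_, fun h => (D.psi_ker _).2 (hfQ h)⟩
    exact hC _ ((D.psi_ker _).1 h) (mul_inv_eq_iff_eq_mul.2 (mem_E.1 x.2).2.symm)
  have hrange : (χ.range : Set A5) = {τ | τ * D.psi ⟨t, D.mem_C.2 ht.comm⟩ = D.psi ⟨t, D.mem_C.2 ht.comm⟩ * τ} := by
    ext τ
    constructor
    · rintro ⟨x, rfl⟩
      show D.psi _ * _ = _ * D.psi _
      rw [← map_mul, ← map_mul]
      exact congrArg D.psi (Subtype.ext (mem_E.1 x.2).2)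
    · intro hτ
      obtain ⟨c, rfl⟩ := D.psi_surj τ
      have hc := D.mem_C.1 c.2
      obtain ⟨q, hqQ, hq'⟩ := (ht.conj hc).coset_conj ht (by
        have : (⟨(c : G) * t * (c : G)⁻¹, D.mem_C.2 (ht.conj hc).comm⟩ : centralizer ({D.z} : Set G)) =
          c * ⟨t, D.mem_C.2 ht.comm⟩ * c⁻¹ := rfl
        rw [this, map_mul, map_mul, map_inv, hτ, mul_inv_cancel_right])
      have hmem : q * (c : G) ∈ D.E t := mem_E.2 ⟨D.mem_C.1 (mul_mem (D.le hqQ) c.2), by
        calc q * (c : G) * t = q * ((c : G) * t * (c : G)⁻¹) * q⁻¹ * (q * c) := by group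
          _ = t * (q * c) := by rw [hq']⟩
      refine ⟨⟨q * c, hmem⟩, ?_⟩
      show D.psi (⟨q, D.le hqQ⟩ * c) = D.psi c
      rw [map_mul, (D.psi_ker _).2 hqQ, one_mul]
  have h := χ.ker.card_mul_index
  rw [index_ker, hker, Nat.card_congr (subgroupOfEquivOfLe hfE).toEquiv,
    card_four, ← SetLike.coe_sort_coe, hrange, Nat.card_eq_fintype_card] at h
  rw [← h]
  simp only [Set.coe_setOf]
  rw [JTwoType.Alt5.card_commuting _ ht.psi_sq.1 ht.psi_sq.2]

/-- An involution commutes with an outer one. -/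
theorem exists_outer_fixing (hone : ∀ x y : G, orderOf x = 2 → orderOf y = 2 → IsConj x y) {u : G}
    (hu : u ∈ invSet D.Q D.z) : ∃ v, D.Outer v ∧ v * u = u * v := by
  classical
  obtain ⟨i, hi⟩ := D.u_cover u hu
  obtain ⟨v, hv⟩ := D.exists_outer hone
  obtain ⟨j, hj, hvj, -, -⟩ := hv.spec
  obtain ⟨ρ, hρ⟩ := JTwoType.Alt5.transitive j i
  obtain ⟨c, rfl⟩ := D.psi_surj ρ
  have hc := D.mem_C.1 c.2
  refine ⟨(c : G) * v * (c : G)⁻¹, hv.conj hc, ?_⟩
  have hcomm : (c : G) * v * (c : G)⁻¹ * ((c : G) * D.u j * (c : G)⁻¹) =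
      (c : G) * D.u j * (c : G)⁻¹ * ((c : G) * v * (c : G)⁻¹) := by rw [conj_mul, conj_mul, hvj]
  have hz : Commute ((c : G) * v * (c : G)⁻¹) D.z := (hv.conj hc).comm
  have hp : u = (c : G) * D.u j * (c : G)⁻¹ ∨ u = (c : G) * D.u j * (c : G)⁻¹ * D.z := by
    have ha := D.act c j
    rw [← D.psi_val, hρ] at ha
    rcases ha with a | a <;> rcases hi with b | b <;> rw [a, b]
    · exact Or.inl rfl
    · exact Or.inr rfl
    · exact Or.inr (by rw [mul_assoc, D.z2, mul_one])
    · exact Or.inl rfl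
  rcases hp with rfl | rfl
  · exact hcomm
  · exact (Commute.mul_right hcomm hz).eq

end Data

end Cfsg.Agent.JThreeType
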