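import Cfsg.Agent.EqLemmas

/-!
# The field with sixteen elements as numbers below sixteen

* `K16`
-/

set_option autoImplicit false

namespace Cfsg.Agent.JThreeType

/-- Nimber-free multiplication of polynomials modulo `x⁴ + x + 1`. -/
def fmul (a b : ℕ) : ℕ :=
  let r := (if b.testBit 0 then a else 0) ^^^ (if b.testBit 1 then a * 2 else 0) ^^^
    (if b.testBit 2 then a * 4 else 0) ^^^ (if b.testBit 3 then a * 8 else 0)
  let r := if r.testBit 7 then r ^^^ 152 else r
  let r := if r.testBit 6 then r ^^^ 76 else r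
  let r := if r.testBit 5 then r ^^^ 38 else r
  if r.testBit 4 then r ^^^ 19 else r

/-- Sixteen elements. -/
structure K16 where
  v : Fin 16
deriving DecidableEq

instance : Fintype K16 := Fintype.ofEquiv (Fin 16) ⟨K16.mk, K16.v, fun _ => rfl, fun _ => rfl⟩

namespace K16

instance : Zero K16 := ⟨⟨0⟩⟩
instance : One K16 := ⟨⟨1⟩⟩
instance : Add K16 := ⟨fun a b => ⟨Fin.ofNat 16 (a.v.val ^^^ b.v.val)⟩⟩
instance : Neg K16 := ⟨fun a => a⟩
instance : Mul K16 := ⟨fun a b => ⟨Fin.ofNat 16 (fmul a.v.val b.v.val)⟩⟩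
instance : Inv K16 := ⟨fun a => ⟨Fin.ofNat 16 ([0, 1, 9, 14, 13, 11, 7, 6, 15, 2, 12, 5, 10, 4, 3, 8].getD a.v.val 0)⟩⟩

instance : Field K16 :=
  Field.ofMinimalAxioms K16 (by decide +kernel) (by decide +kernel) (by decide +kernel) (by decide +kernel)
    (by decide +kernel) (by decide +kernel) (by decide +kernel) (by decide +kernel) (by decide +kernel)
    ⟨0, 1, by decide +kernel⟩

theorem card : Fintype.card K16 = 16 := rfl

end K16

end Cfsg.Agent.JThreeType
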