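import Cfsg.Agent.Lib.JThreeType.NormE
import Cfsg.Agent.Lib.JThreeType.Action

/-!
# Groups of type `J₃`: five letters in `N(E)`

* `Frame16.exists_letters`: for generators `a, b` of `B` a line `W`, centralised by two commuting involutions of
  `B`, and an orientation of `k` such that the relations of `Frame` hold
-/

set_option autoImplicit false
set_option linter.unusedSectionVars false
set_option linter.style.haveILetI false

namespace Cfsg.Agent.JThreeType

open Cfsg Subgroup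
open Table.Cert (val val_cons val_append val_nil)

/-- The letters `a, b, b⁻¹, k, k⁻¹, e, d`. -/
def lett {G : Type*} [Group G] (a b k e d : G) (l : ℕ) : G := [a, b, b⁻¹, k, k⁻¹, e, d].getD l 1

/-- Words in the letters. -/
def wordW : List ℕ := [1, 0, 1, 0, 2, 0, 2]

/-- Words in the letters. -/
def wordF : List ℕ := [0, 1, 0, 2, 0]

set_option synthInstance.maxSize 2048 in
set_option synthInstance.maxHeartbeats 400000 in
theorem alt_five_words : ∀ a : A5, a * a = 1 → a ≠ 1 → ∀ b : A5, b * b * b = 1 → (a * b) ^ 5 = 1 →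
    ∃ i : Fin 5, (b * a * b * a * b⁻¹ * a * b⁻¹).1 i = i ∧ (a * b * a * b⁻¹ * a).1 i = i ∧ b.1 i = i ∧
      a.1 i ≠ i ∧ b ≠ 1 ∧ (b * a * b * a * b⁻¹ * a * b⁻¹) * (b * a * b * a * b⁻¹ * a * b⁻¹) = 1 ∧
      (a * b * a * b⁻¹ * a) * (a * b * a * b⁻¹ * a) = 1 := by decide +kernel

set_option synthInstance.maxSize 1024 in
theorem alt_five_swap : ∀ b : A5, b * b * b = 1 → b ≠ 1 → ∀ i, b.1 i = i →
    ∃ τ : A5, τ * b * τ⁻¹ = b⁻¹ ∧ τ.1 i ≠ i := by decide +kernel

variable {G : Type*} [Group G] [Finite G]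

namespace Frame16

variable {D : Data G} (F : Frame16 D)

theorem exists_gen {i j : Fin 5} (h : i ≠ j) {y : G} (hy : y ∈ D.E F.t) :
    ∃ a ∈ F.line i, ∃ b ∈ F.line j, y = a * b := by
  let f : F.line i × F.line j → D.E F.t := fun p => ⟨p.1 * p.2, mul_mem (F.line_le i p.1.2) (F.line_le j p.2.2)⟩
  have hf : Function.Injective f := by
    intro p r e
    have e' : (p.1 : G) * p.2 = r.1 * r.2 := congrArg Subtype.val e
    have e2 : (r.1 : G)⁻¹ * p.1 = r.2 * (p.2 : G)⁻¹ := by
      calc (r.1 : G)⁻¹ * p.1 = (r.1 : G)⁻¹ * (p.1 * p.2) * (p.2 : G)⁻¹ := by group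
        _ = _ := by rw [e']; group
    have h1 : (r.1 : G)⁻¹ * p.1 = 1 := by
      by_contra h'
      exact h (F.line_disj i j _ (mul_mem (inv_mem r.1.2) p.1.2) (e2 ▸ mul_mem r.2.2 (inv_mem p.2.2)) h')
    rw [h1] at e2
    exact _root_.Prod.ext (Subtype.ext (inv_mul_eq_one.1 h1).symm) (Subtype.ext (mul_inv_eq_one.1 e2.symm).symm)
  obtain ⟨⟨a, b⟩, hab⟩ := ((Nat.bijective_iff_injective_and_card f).2
    ⟨hf, by rw [Nat.card_prod, F.line_card, F.line_card, F.outer.card_E]⟩).2 ⟨y, hy⟩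
  exact ⟨a, a.2, b, b.2, (congrArg Subtype.val hab).symm⟩

theorem conj_k_mem {v : G} (hv : v ∈ D.E F.t) : F.k * v * F.k⁻¹ ∈ D.E F.t :=
  (mem_normalizer_iff.1 F.k_mem v).1 hv

/-- An element commuting with `k` that fixes one point of a line fixes all of it. -/
theorem line_of_fixed {i : Fin 5} {g v : G} (hg : g * F.k = F.k * g) (hv : v ∈ F.line i) (hv1 : v ≠ 1)
    (hgv : g * v * g⁻¹ = v) : ∀ y ∈ F.line i, g * y * g⁻¹ = y := by
  set v1 := F.k * v * F.k⁻¹ with hv1def
  have hv1i : v1 ∈ F.line i := F.k_lines i v hv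
  have hne : v1 ≠ v := fun e => hv1 (F.k_fpf v (F.line_le i hv) e)
  have h1 : g * v1 * g⁻¹ = v1 := by
    rw [hv1def, show g * (F.k * v * F.k⁻¹) * g⁻¹ = (g * F.k) * v * (g * F.k)⁻¹ by group, hg,
      show F.k * g * v * (F.k * g)⁻¹ = F.k * (g * v * g⁻¹) * F.k⁻¹ by group, hgv]
  set S : Subgroup G := F.line i ⊓ centralizer ({g} : Set G)
  have hS : ∀ a ∈ F.line i, g * a * g⁻¹ = a → a ∈ S := fun a ha h =>
    ⟨ha, mem_centralizer_singleton_iff.2 (mul_inv_eq_iff_eq_mul.1 h).symm⟩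
  have h3 : 3 ≤ Nat.card S := by
    have hs : ({1, v, v1} : Set G) ⊆ S := by
      rintro x (rfl | rfl | rfl)
      exacts [one_mem _, hS _ hv hgv, hS _ hv1i h1]
    have := Set.ncard_le_ncard hs (Set.toFinite _)
    have hv11 : v1 ≠ 1 := fun h => hv1 (conj_eq_one_iff.1 h)
    rw [Set.ncard_insert_of_notMem (by simp [hv1.symm, hv11.symm]), Set.ncard_pair hne.symm,
      ← Nat.card_coe_set_eq, SetLike.coe_sort_coe] at this
    exact this
  have hd : Nat.card S ∣ 4 := F.line_card i ▸ card_dvd_of_le inf_le_left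
  have h4 : Nat.card S = 4 := by
    have := Nat.le_of_dvd (by norm_num) hd
    interval_cases h : Nat.card S <;> omega
  intro y hy
  have hle : S = F.line i := Subgroup.eq_of_le_of_card_ge inf_le_left (by rw [h4, F.line_card])
  exact mul_inv_eq_iff_eq_mul.2 (mem_centralizer_singleton_iff.1 (hle.ge hy).2).symm

theorem k_sq_conj (v : G) : F.k * (F.k * v * F.k⁻¹) * F.k⁻¹ = F.k⁻¹ * v * F.k := by
  have e : F.k⁻¹ = F.k * F.k := inv_eq_of_mul_eq_one_right (by
    rw [← mul_assoc, ← F.k3]; simp only [pow_succ, pow_zero, one_mul])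
  calc F.k * (F.k * v * F.k⁻¹) * F.k⁻¹ = (F.k * F.k) * v * (F.k * F.k)⁻¹ := by group
    _ = _ := by rw [← e, inv_inv]

theorem k_sq_conj' (v : G) : F.k⁻¹ * (F.k⁻¹ * v * F.k) * F.k = F.k * v * F.k⁻¹ := by
  calc F.k⁻¹ * (F.k⁻¹ * v * F.k) * F.k = F.k⁻¹ * (F.k * (F.k * v * F.k⁻¹) * F.k⁻¹) * F.k := by rw [F.k_sq_conj]
    _ = _ := by group

variable (hone : ∀ x y : G, orderOf x = 2 → orderOf y = 2 → IsConj x y)
include hone

theorem k_sum {v : G} (hv : v ∈ D.E F.t) : F.k * (F.k * v * F.k⁻¹) * F.k⁻¹ = v * (F.k * v * F.k⁻¹) := by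
  set v1 := F.k * v * F.k⁻¹
  set v2 := F.k * v1 * F.k⁻¹
  have h1 : v1 ∈ D.E F.t := F.conj_k_mem hv
  have h2 : v2 ∈ D.E F.t := F.conj_k_mem h1
  have h3 : F.k * v2 * F.k⁻¹ = v := by
    rw [show F.k * (F.k * (F.k * v * F.k⁻¹) * F.k⁻¹) * F.k⁻¹ = F.k ^ 3 * v * (F.k ^ 3)⁻¹ by
      simp only [pow_succ, pow_zero, one_mul]; group, F.k3]
    group
  have hc := F.outer.E_comm
  have hp := F.k_fpf (v * v1 * v2) (mul_mem (mul_mem hv h1) h2) (by
    rw [show F.k * (v * v1 * v2) * F.k⁻¹ = v1 * v2 * (F.k * v2 * F.k⁻¹) by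
      show _ = (F.k * v * F.k⁻¹) * (F.k * v1 * F.k⁻¹) * _; group, h3]
    exact (hc v hv _ (mul_mem h1 h2)).symm.trans (mul_assoc _ _ _).symm)
  rw [eq_inv_of_mul_eq_one_right hp, mul_inv_rev, inv_eq_of_mul_eq_one_right (F.outer.E_sq hone hv),
    inv_eq_of_mul_eq_one_right (F.outer.E_sq hone h1), hc v1 h1 v hv]

/-- The line and the orientation of `k`. -/
theorem exists_letters {a b : G} (ha : a ∈ F.B) (hb : b ∈ F.B) (ha2 : a * a = 1) (ha1 : a ≠ 1)
    (hb3 : b * b * b = 1) (hab : (a * b) ^ 5 = 1) :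
    ∃ (k : G) (W : Subgroup G), (k = F.k ∨ k = F.k⁻¹) ∧ k ^ 3 = 1 ∧ W ≤ D.E F.t ∧ Nat.card W = 4 ∧
      (∀ v ∈ W, k⁻¹ * v * k ∈ W) ∧ (∀ v ∈ D.E F.t, k⁻¹ * v * k = v → v = 1) ∧
      ∀ e ∈ W, e ≠ 1 → ∀ d : G,
        Nonempty (Frame (lett a b k e d)) ∧ val (lett a b k e d) wordW * e = e * val (lett a b k e d) wordW ∧
          val (lett a b k e d) wordF * e = e * val (lett a b k e d) wordF := by
  classical
  let aN : normalizer (D.E F.t : Set G) := ⟨a, F.B_le ha⟩
  let bN : normalizer (D.E F.t : Set G) := ⟨b, F.B_le hb⟩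
  have hev : ∀ n : normalizer (D.E F.t : Set G), (n : G) ∈ F.B → F.π n ∈ alternatingGroup (Fin 5) :=
    fun n hn => Equiv.Perm.mem_alternatingGroup.2 (F.B_even n hn)
  set σ : A5 := ⟨F.π aN, hev aN ha⟩ with hσ
  set τ : A5 := ⟨F.π bN, hev bN hb⟩ with hτ
  have hσ2 : σ * σ = 1 := Subtype.ext (by
    show F.π aN * F.π aN = 1
    rw [← map_mul, show aN * aN = 1 from Subtype.ext ha2, map_one])
  have hσ1 : σ ≠ 1 := fun h => ha1 (congrArg Subtype.val (F.B_faith aN ha (congrArg Subtype.val h)))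
  have hτ3 : τ * τ * τ = 1 := Subtype.ext (by
    show F.π bN * F.π bN * F.π bN = 1
    rw [← map_mul, ← map_mul, show bN * bN * bN = 1 from Subtype.ext hb3, map_one])
  have hστ : (σ * τ) ^ 5 = 1 := Subtype.ext (by
    show (F.π aN * F.π bN) ^ 5 = 1
    rw [← map_mul, ← map_pow, show (aN * bN) ^ 5 = 1 from Subtype.ext (by rw [Subgroup.coe_pow]; exact hab),
      map_one])
  obtain ⟨i, hwi, hfi, hbi, hai, hb1, hw2, hf2⟩ := alt_five_words σ hσ2 hσ1 τ hτ3 hστ
  set W := F.line i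
  have hW4 : Nat.card W = 4 := F.line_card i
  have hmap : ∀ (n : normalizer (D.E F.t : Set G)), ∀ v ∈ W, (n : G) * v * (n : G)⁻¹ ∈ F.line (F.π n i) :=
    fun n v hv => (F.line_map n i v).1 hv
  -- involutions of `B` fixing the line centralise it
  have hinv : ∀ (n : normalizer (D.E F.t : Set G)), (n : G) ∈ F.B → n * n = 1 → F.π n i = i →
      ∀ v ∈ W, (n : G) * v = v * n := by
    intro n hn hn2 hni v hv
    by_cases hv1 : v = 1
    · simp [hv1]
    refine mul_inv_eq_iff_eq_mul.1 (?_ : (n : G) * v * (n : G)⁻¹ = v)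
    have h1 : (n : G) * v * (n : G)⁻¹ ∈ W := by have := hmap n v hv; rwa [hni] at this
    have hnn : (n : G) * n = 1 := congrArg Subtype.val hn2
    -- the product with the image is fixed
    by_contra hne
    set p := v * ((n : G) * v * (n : G)⁻¹) with hp
    have hpW : p ∈ W := mul_mem hv h1
    have hp1 : p ≠ 1 := fun h => hne ((eq_inv_of_mul_eq_one_right h).trans
      (inv_eq_of_mul_eq_one_right (F.outer.E_sq hone (F.line_le i hv))))
    have hfix : (n : G) * p * (n : G)⁻¹ = p := by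
      rw [hp, show (n : G) * (v * ((n : G) * v * (n : G)⁻¹)) * (n : G)⁻¹ =
        ((n : G) * v * (n : G)⁻¹) * (((n : G) * n) * v * ((n : G) * n)⁻¹) by group, hnn, one_mul, inv_one, mul_one,
        F.outer.E_comm _ (F.line_le i h1) _ (F.line_le i hv)]
    exact hne (F.line_of_fixed (F.B_comm _ hn) hpW hp1 hfix v hv)
  -- `b` moves every point of the line
  have hbmove : ∀ v ∈ W, v ≠ 1 → b * v * b⁻¹ ≠ v := by
    intro v hv hv1 hfix
    have hall := F.line_of_fixed (F.B_comm b hb) hv hv1 hfix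
    obtain ⟨ρ, hρ, hρi⟩ := alt_five_swap τ hτ3 hb1 i hbi
    obtain ⟨r, hrB, hr⟩ := F.B_image ρ (Equiv.Perm.mem_alternatingGroup.1 ρ.2)
    have hrb : (r : G) * b * (r : G)⁻¹ = b⁻¹ := by
      have h := F.B_faith (r * bN * r⁻¹ * bN) (mul_mem (mul_mem (mul_mem hrB hb) (inv_mem hrB)) hb) (by
        have hρ' := congrArg Subtype.val hρ
        simp only [Subgroup.coe_mul, Subgroup.coe_inv] at hρ'
        rw [map_mul, map_mul, map_mul, map_inv, hr, hρ']
        exact inv_mul_cancel _)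
      exact eq_inv_of_mul_eq_one_left (congrArg Subtype.val h)
    apply hb1
    refine Subtype.ext ?_
    show F.π bN = 1
    have hbE : b ∈ D.E F.t := F.outer.E_self hone fun y hy => by
      obtain ⟨p, hp, q, hq, rfl⟩ := F.exists_gen (Ne.symm (hr ▸ hρi : F.π r i ≠ i)) hy
      have hq' : (r : G)⁻¹ * q * r ∈ W := by
        rw [F.line_map r i]
        simpa [mul_assoc] using hq
      have hqfix : b * q * b⁻¹ = q := by
        have h := hall _ hq'
        have hbr : b * (r : G)⁻¹ = (r : G)⁻¹ * b⁻¹ := by rw [← hrb]; group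
        have h' : b⁻¹ * q * b = q := by
          calc b⁻¹ * q * b = (r : G) * ((r : G)⁻¹ * b⁻¹) * q * ((r : G)⁻¹ * b⁻¹)⁻¹ * (r : G)⁻¹ := by group
            _ = (r : G) * (b * ((r : G)⁻¹ * q * r) * b⁻¹) * (r : G)⁻¹ := by rw [← hbr]; group
            _ = q := by rw [h]; group
        calc b * q * b⁻¹ = b * (b⁻¹ * q * b) * b⁻¹ := by rw [h']
          _ = q := by group
      refine mul_inv_eq_iff_eq_mul.1 ?_
      rw [← conj_mul, hall p hp, hqfix]
    refine Equiv.ext fun l => ?_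
    obtain ⟨v', hv', hv'1⟩ : ∃ v' ∈ F.line l, v' ≠ 1 := by
      by_contra h
      push Not at h
      have := F.line_card l
      rw [(Subgroup.eq_bot_iff_forall _).2 h, card_bot] at this
      norm_num at this
    refine F.line_disj _ _ v' ?_ hv' hv'1
    have := (F.line_map bN l v').1 hv'
    rwa [show (bN : G) * v' * (bN : G)⁻¹ = v' by
      show b * v' * b⁻¹ = v'
      rw [F.outer.E_comm b hbE v' (F.line_le l hv'), mul_inv_cancel_right]] at this
  -- the orientation
  obtain ⟨v0, hv0, hv01⟩ : ∃ v0 ∈ W, v0 ≠ 1 := by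
    by_contra h
    push Not at h
    rw [(Subgroup.eq_bot_iff_forall _).2 h, card_bot] at hW4
    norm_num at hW4
  have hW : ∀ v ∈ W, v ≠ 1 → ∀ y ∈ W, y = 1 ∨ y = v ∨ y = F.k * v * F.k⁻¹ ∨
      y = F.k * (F.k * v * F.k⁻¹) * F.k⁻¹ := by
    intro v hv hv1 y hy
    set v1 := F.k * v * F.k⁻¹
    set v2 := F.k * v1 * F.k⁻¹
    have h1 : v1 ∈ W := F.k_lines i v hv
    have h2 : v2 ∈ W := F.k_lines i v1 h1
    have hv11 : v1 ≠ 1 := fun h => hv1 (conj_eq_one_iff.1 h)
    have hv21 : v2 ≠ 1 := fun h => hv11 (conj_eq_one_iff.1 h)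
    have d1 : v1 ≠ v := fun e => hv1 (F.k_fpf v (F.line_le i hv) e)
    have d2 : v2 ≠ v1 := fun e => hv11 (F.k_fpf v1 (F.line_le i h1) e)
    have d3 : v2 ≠ v := fun e => hv11 (by
      have := F.k_sum hone (F.line_le i hv)
      exact mul_left_cancel ((show v * v1 = v2 from this.symm).trans (e.trans (mul_one v).symm)))
    have hset : ({1, v, v1, v2} : Set G) = (W : Set G) := by
      refine Set.eq_of_subset_of_ncard_le ?_ ?_ (Set.toFinite _)
      · rintro x (rfl | rfl | rfl | rfl)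
        exacts [one_mem _, hv, h1, h2]
      · rw [← Nat.card_coe_set_eq, SetLike.coe_sort_coe, hW4,
          Set.ncard_insert_of_notMem (by simp [hv1.symm, hv11.symm, hv21.symm]),
          Set.ncard_insert_of_notMem (by simp [d1.symm, d3.symm]), Set.ncard_pair d2.symm]
    have := hset.ge hy
    simpa using this
  have hbW : b * v0 * b⁻¹ ∈ W := by have := hmap bN v0 hv0; rwa [show F.π bN i = i from hbi] at this
  obtain ⟨k, hk, hbk⟩ : ∃ k, (k = F.k ∨ k = F.k⁻¹) ∧ b * v0 * b⁻¹ = k⁻¹ * v0 * k := by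
    rcases hW v0 hv0 hv01 _ hbW with h | h | h | h
    · exact absurd (conj_eq_one_iff.1 h) hv01
    · exact absurd h (hbmove v0 hv0 hv01)
    · exact ⟨F.k⁻¹, Or.inr rfl, by rw [inv_inv]; exact h⟩
    · exact ⟨F.k, Or.inl rfl, h.trans (F.k_sq_conj v0)⟩
  have hk3 : k ^ 3 = 1 := by rcases hk with rfl | rfl <;> simp [F.k3]
  have hkE : ∀ v ∈ D.E F.t, k⁻¹ * v * k ∈ D.E F.t := by
    intro v hv
    rcases hk with rfl | rfl
    · exact (mem_normalizer_iff''.1 F.k_mem v).1 hv
    · rw [inv_inv]; exact F.conj_k_mem hv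
  have hkW : ∀ v ∈ W, k⁻¹ * v * k ∈ W := by
    intro v hv
    rcases hk with rfl | rfl
    · have h := F.k_lines i _ (F.k_lines i v hv)
      rwa [F.k_sq_conj] at h
    · rw [inv_inv]; exact F.k_lines i v hv
  have hkfpf : ∀ v ∈ D.E F.t, k⁻¹ * v * k = v → v = 1 := by
    intro v hv h
    refine F.k_fpf v hv ?_
    rcases hk with rfl | rfl
    · calc F.k * v * F.k⁻¹ = F.k * (F.k⁻¹ * v * F.k) * F.k⁻¹ := by rw [h]
        _ = v := by group
    · simpa using h
  have hksum : ∀ v ∈ D.E F.t, k⁻¹ * (k⁻¹ * v * k) * k = v * (k⁻¹ * v * k) := by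
    intro v hv
    rcases hk with rfl | rfl
    · have e := F.k_sum hone hv
      rw [F.k_sq_conj] at e
      rw [F.k_sq_conj', e, ← mul_assoc, F.outer.E_sq hone hv, one_mul]
    · rw [inv_inv]; exact F.k_sum hone hv
  have hkb : b * k = k * b := by
    rcases hk with rfl | rfl
    · exact F.B_comm b hb
    · exact ((show Commute b F.k from F.B_comm b hb).inv_right).eq
  have hka : a * k = k * a := by
    rcases hk with rfl | rfl
    · exact F.B_comm a ha
    · exact ((show Commute a F.k from F.B_comm a ha).inv_right).eq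
  refine ⟨k, W, hk, hk3, F.line_le i, hW4, hkW, hkfpf, fun e he he1 d => ?_⟩
  -- `b` and `k⁻¹` agree on the line
  have hagree : ∀ v ∈ W, b * v * b⁻¹ = k⁻¹ * v * k := by
    intro v hv
    have hg : k * b * F.k = F.k * (k * b) := by
      rcases hk with rfl | rfl <;> rw [mul_assoc, F.B_comm b hb] <;> group
    have h := F.line_of_fixed hg hv0 hv01 (by
      rw [show k * b * v0 * (k * b)⁻¹ = k * (b * v0 * b⁻¹) * k⁻¹ by group, hbk]; group) v hv
    calc b * v * b⁻¹ = k⁻¹ * (k * b * v * (k * b)⁻¹) * k := by group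
      _ = k⁻¹ * v * k := by rw [h]
  have hk33 : k * k * k = 1 := by rw [← hk3]; simp only [pow_succ, pow_zero, one_mul]
  have hwe : ∀ n : normalizer (D.E F.t : Set G), (n : G) ∈ F.B →
      (F.π n = (τ * σ * τ * σ * τ⁻¹ * σ * τ⁻¹ : A5).1 ∨ F.π n = (σ * τ * σ * τ⁻¹ * σ : A5).1) →
      (n : G) * e = e * n := by
    intro n hn h
    refine hinv n hn ?_ (by rcases h with h | h <;> rw [h]; exacts [hwi, hfi]) e he
    refine F.B_faith _ (mul_mem hn hn) ?_
    rcases h with h | h <;> rw [map_mul, h]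
    exacts [congrArg Subtype.val hw2, congrArg Subtype.val hf2]
  refine ⟨⟨?_⟩, ?_, ?_⟩
  · exact
    { E := D.E F.t
      card := F.outer.card_E
      sq := fun v hv => F.outer.E_sq hone hv
      eE := F.line_le i he
      norm := by
        intro l hl v hv
        interval_cases l
        · exact (mem_normalizer_iff''.1 (F.B_le ha) v).1 hv
        · exact (mem_normalizer_iff''.1 (F.B_le hb) v).1 hv
        · exact (mem_normalizer_iff''.1 (inv_mem (F.B_le hb)) v).1 hv
        · exact hkE v hv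
        · have := hkE _ (hkE v hv)
          show k⁻¹⁻¹ * v * k⁻¹ ∈ _
          rwa [show k⁻¹ * (k⁻¹ * v * k) * k = k⁻¹⁻¹ * v * k⁻¹ by
            rw [show k⁻¹ * (k⁻¹ * v * k) * k = (k * k)⁻¹ * v * (k * k) by group,
              show k * k = k⁻¹ from (inv_eq_of_mul_eq_one_left hk33).symm]] at this
      inv1 := inv_mul_cancel b
      inv3 := inv_mul_cancel k
      aa := ha2
      b3 := hb3
      k3 := hk33
      ak := hka
      bk := hkb
      ksum := hksum
      eb := by
        show b⁻¹ * e * b = e * (k⁻¹ * e * k)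
        have h1 := hagree _ (hkW _ (hkW e he))
        have h2 : k⁻¹ * (k⁻¹ * (k⁻¹ * e * k) * k) * k = e := by
          rw [show k⁻¹ * (k⁻¹ * (k⁻¹ * e * k) * k) * k = (k * k * k)⁻¹ * e * (k * k * k) by group, hk33]
          group
        rw [h2] at h1
        calc b⁻¹ * e * b = b⁻¹ * (b * (k⁻¹ * (k⁻¹ * e * k) * k) * b⁻¹) * b := by rw [h1]
          _ = k⁻¹ * (k⁻¹ * e * k) * k := by group
          _ = _ := hksum e (F.line_le i he)
      move := by
        show a⁻¹ * e * a ≠ 1 ∧ a⁻¹ * e * a ≠ e ∧ a⁻¹ * e * a ≠ k⁻¹ * e * k ∧ a⁻¹ * e * a ≠ e * (k⁻¹ * e * k)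
        have hai' : a⁻¹ = a := inv_eq_of_mul_eq_one_right ha2
        have hm : a⁻¹ * e * a ∈ F.line (F.π aN i) := by
          have := hmap aN e he
          rw [hai']
          rwa [show (aN : G)⁻¹ = a from hai'] at this
        have hout : ∀ y ∈ W, y ≠ 1 → a⁻¹ * e * a ≠ y := fun y hy hy1 h =>
          hai (F.line_disj _ i y (h ▸ hm) hy hy1)
        have h1 : a⁻¹ * e * a ≠ 1 := fun h => he1 (by
          calc e = a * (a⁻¹ * e * a) * a⁻¹ := by group
            _ = 1 := by rw [h]; group)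
        refine ⟨h1, hout e he he1, hout _ (hkW e he) (fun h => he1 ?_), hout _ (mul_mem he (hkW e he)) fun h => ?_⟩
        · calc e = k * (k⁻¹ * e * k) * k⁻¹ := by group
            _ = 1 := by rw [h]; group
        · exact he1 (hkfpf e (F.line_le i he) ((eq_inv_of_mul_eq_one_right h).trans
            (inv_eq_of_mul_eq_one_right (F.outer.E_sq hone (F.line_le i he)))))
      e_ne := he1
      five := by
        show val (lett a b k e d) _ = 1
        simp only [val, List.map_cons, List.map_nil, List.prod_cons, List.prod_nil, lett, List.getD_cons_zero,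
          List.getD_cons_succ, mul_one]
        rw [← hab]; simp only [pow_succ, pow_zero, one_mul, mul_assoc]
      we := by
        show val (lett a b k e d) _ * e = e * val (lett a b k e d) _
        have h := hwe (bN * aN * bN * aN * bN⁻¹ * aN * bN⁻¹) (by
          simp only [Subgroup.coe_mul, Subgroup.coe_inv]
          exact mul_mem (mul_mem (mul_mem (mul_mem (mul_mem (mul_mem hb ha) hb) ha) (inv_mem hb)) ha) (inv_mem hb))
          (Or.inl (by simp only [map_mul, map_inv]; rfl))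
        simpa [val, lett, wordW, mul_assoc, aN, bN] using h }
  · have h := hwe (bN * aN * bN * aN * bN⁻¹ * aN * bN⁻¹) (by
      simp only [Subgroup.coe_mul, Subgroup.coe_inv]
      exact mul_mem (mul_mem (mul_mem (mul_mem (mul_mem (mul_mem hb ha) hb) ha) (inv_mem hb)) ha) (inv_mem hb))
      (Or.inl (by simp only [map_mul, map_inv]; rfl))
    simpa [val, lett, wordW, mul_assoc, aN, bN] using h
  · have h := hwe (aN * bN * aN * bN⁻¹ * aN) (by
      simp only [Subgroup.coe_mul, Subgroup.coe_inv]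
      exact mul_mem (mul_mem (mul_mem (mul_mem ha hb) ha) (inv_mem hb)) ha)
      (Or.inr (by simp only [map_mul, map_inv]; rfl))
    simpa [val, lett, wordF, mul_assoc, aN, bN] using h

end Frame16

end Cfsg.Agent.JThreeType
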