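import Cfsg.Agent.Lib.JThreeType.Spread

/-!
# Groups of type `J₃`: the five lines of `E` and the normaliser of `E`

* `Data.Outer.line`, `Data.Outer.line_eq`, `Data.Outer.card_lines`
* `Data.Outer.card_norm`: `|N(E)| = 2880`
-/

set_option autoImplicit false
set_option linter.unusedSectionVars false
set_option linter.style.haveILetI false

namespace Cfsg.Agent.JThreeType

open Cfsg Subgroup OrderJTwo
open scoped commutatorElement Pointwise

variable {G : Type*} [Group G] [Finite G]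

namespace Data

theorem stab_card : ∀ i : Fin 5, Fintype.card {σ : A5 // σ.1 i = i} = 12 := by decide +kernel

set_option synthInstance.maxSize 1024 in
theorem stab_comm : ∀ σ τ : A5, σ * σ = 1 → σ ≠ 1 → ∀ i, σ.1 i = i → τ.1 i = i →
    (τ * σ * τ⁻¹) * σ = σ * (τ * σ * τ⁻¹) := by decide +kernel

variable {D : Data G}
variable (hone : ∀ x y : G, orderOf x = 2 → orderOf y = 2 → IsConj x y)

/-- The line of `a` in `E`. -/
def line (D : Data G) (t a : G) : Set G := {b | b ∈ D.E t ∧ (b = 1 ∨ InLine a b)}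

include hone

theorem Outer.line_z {t : G} (ht : D.Outer t) {i : Fin 5} (hi : (D.psi ⟨t, D.mem_C.2 ht.comm⟩).1 i = i) :
    D.line t D.z = (four D.hQ (D.u_mem i) : Set G) := by
  obtain ⟨j, hj, hfE, hq⟩ := ht.exists_four
  obtain rfl := fix_unique ht hj hi
  ext b
  constructor
  · rintro ⟨hb, rfl | hl⟩
    · exact one_mem _
    · by_cases hQ : b ∈ D.Q
      · exact hq b hb hQ
      by_cases hb1 : b = 1
      · rw [hb1]; exact one_mem _
      exact absurd hl (Outer.not_inLine ⟨E_comm_z hb, ht.E_sq hone hb, hQ⟩)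
  · intro hb
    refine ⟨hfE hb, ?_⟩
    by_cases hb1 : b = 1
    · exact Or.inl hb1
    right
    by_cases hbz : b = D.z
    · subst hbz
      refine ⟨rfl, fun h => ?_⟩
      rw [inf_idem, D.card_C] at h
      norm_num at h
    exact D.inLine_of_mem_Q hone ⟨four_le_Q j hb, ht.E_sq hone (hfE hb), hb1, hbz⟩

variable {t : G} (ht : D.Outer t)
include ht

/-- Lines are subgroups of order four. -/
theorem Outer.line_spec {a : G} (ha : a ∈ D.E t) (ha1 : a ≠ 1) :
    ∃ U : Subgroup G, (U : Set G) = D.line t a ∧ Nat.card U = 4 ∧ a ∈ U ∧ U ≤ D.E t := by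
  obtain ⟨D', t', rfl, ht', hE⟩ := ht.reframe hone ha ha1
  obtain ⟨i, hi, hfE, -⟩ := ht'.exists_four
  refine ⟨four D'.hQ (D'.u_mem i), ?_, card_four _ _, Or.inr (Or.inl rfl), hE ▸ hfE⟩
  rw [← ht'.line_z hone hi]
  simp only [line, hE]

theorem Outer.line_self {a : G} (ha : a ∈ D.E t) (ha1 : a ≠ 1) : a ∈ D.line t a := by
  obtain ⟨U, hU, -, haU, -⟩ := ht.line_spec hone ha ha1
  exact hU ▸ haU

theorem Outer.line_eq {a b : G} (ha : a ∈ D.E t) (ha1 : a ≠ 1) (hb : b ∈ D.line t a) (hb1 : b ≠ 1) :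
    D.line t b = D.line t a := by
  classical
  by_cases hba : b = a
  · rw [hba]
  obtain ⟨U, hU, hU4, haU, -⟩ := ht.line_spec hone ha ha1
  obtain ⟨V, hV, hV4, hbV, -⟩ := ht.line_spec hone hb.1 hb1
  have haV : a ∈ V := by
    show a ∈ (V : Set G)
    rw [hV]
    exact ⟨ha, Or.inr ((hb.2.resolve_left hb1).symm)⟩
  have hbU : b ∈ U := by
    show b ∈ (U : Set G)
    rw [hU]; exact hb
  have hab1 : a * b ≠ 1 := fun e => hba ((eq_inv_of_mul_eq_one_right e).trans
    (inv_eq_of_mul_eq_one_right (ht.E_sq hone ha)))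
  have hsub : ∀ W : Subgroup G, Nat.card W = 4 → a ∈ W → b ∈ W → (W : Set G) = {1, a, b, a * b} := by
    intro W hW haW hbW
    refine (Set.eq_of_subset_of_ncard_le ?_ ?_ (Set.toFinite _)).symm
    · rintro x (rfl | rfl | rfl | rfl)
      exacts [one_mem _, haW, hbW, mul_mem haW hbW]
    · rw [← Nat.card_coe_set_eq (W : Set G), SetLike.coe_sort_coe, hW,
        Set.ncard_insert_of_notMem (by simp [ha1.symm, hb1.symm, hab1.symm]),
        Set.ncard_insert_of_notMem (by
          simp only [Set.mem_insert_iff, Set.mem_singleton_iff, not_or]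
          exact ⟨Ne.symm hba, fun e => hb1 (mul_left_cancel ((mul_one a).trans e)).symm⟩),
        Set.ncard_pair fun e => ha1 (mul_right_cancel ((one_mul b).trans e)).symm]
  rw [← hU, ← hV, hsub U hU4 haU hbU, hsub V hV4 haV hbV]

theorem Outer.E_exists_self : ∀ x : G, (∀ y ∈ D.E t, x * y = y * x) → x ∈ D.E t := fun _ hx => ht.E_self hone hx

/-- Conjugation by `n` in the normaliser permutes lines. -/
theorem Outer.line_conj {n : G} (hn : n ∈ normalizer (D.E t : Set G)) {a : G} :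
    D.line t (n * a * n⁻¹) = (fun b => n * b * n⁻¹) '' D.line t a := by
  have hE : ∀ y, y ∈ D.E t ↔ n * y * n⁻¹ ∈ D.E t := mem_normalizer_iff.1 hn
  ext c
  constructor
  · rintro ⟨hc, h⟩
    refine ⟨n⁻¹ * c * n, ⟨(hE _).2 (by rwa [(conj_cancel n c).1]), ?_⟩, (conj_cancel n c).1⟩
    rcases h with rfl | h
    · left; group
    · right
      have h' := h.conj n⁻¹
      simpa [mul_assoc] using h'
  · rintro ⟨b, ⟨hb, h⟩, rfl⟩
    refine ⟨(hE b).1 hb, ?_⟩
    rcases h with rfl | h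
    · left; group
    · exact Or.inr (h.conj n)

theorem Outer.exists_mapping {a : G} (ha : a ∈ D.E t) (ha1 : a ≠ 1) :
    ∃ n ∈ normalizer (D.E t : Set G), n * D.z * n⁻¹ = a := by
  obtain ⟨D', t', rfl, ht', hE⟩ := ht.reframe hone ha ha1
  obtain ⟨g, hg⟩ := isConj_iff.1 (hone _ _ D.z_ord D'.z_ord)
  have ho : D'.Outer (g * t * g⁻¹) := by
    have hgt : (g * t * g⁻¹) * D'.z = D'.z * (g * t * g⁻¹) := by rw [← hg, conj_mul, conj_mul, ht.comm]
    rcases D'.involution_cases hgt (by rw [conj_mul, ht.sq, mul_one, mul_inv_cancel])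
      (fun h => ht.out (conj_eq_one_iff.1 h ▸ one_mem _)) with h | h | h
    · rw [← hg] at h
      exact absurd ((MulAut.conj g).injective h) fun h' => ht.out (h' ▸ D.hQ.zmem)
    · have h' := (D'.inLine_of_mem_Q hone h).conj g⁻¹
      rw [← hg] at h'
      exact absurd (by simpa [mul_assoc] using h') ht.not_inLine
    · exact h
  obtain ⟨c, hc, hct⟩ := ho.conj_all ht'
  refine ⟨c * g, ?_, ?_⟩
  · refine mem_normalizer_fintype fun y hy => ?_
    rw [← hE]
    obtain ⟨h1, h2⟩ := mem_E.1 hy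
    refine mem_E.2 ⟨?_, ?_⟩
    · rw [show D'.z = c * g * D.z * (c * g)⁻¹ by
        rw [show c * g * D.z * (c * g)⁻¹ = c * (g * D.z * g⁻¹) * c⁻¹ by group, hg, hc, mul_inv_cancel_right],
        conj_mul, conj_mul, h1]
    · rw [show t' = c * g * t * (c * g)⁻¹ by rw [← hct]; group, conj_mul, conj_mul, h2]
  · rw [show c * g * D.z * (c * g)⁻¹ = c * (g * D.z * g⁻¹) * c⁻¹ by group, hg, hc, mul_inv_cancel_right]

/-- The stabiliser of `z` in the normaliser. -/
theorem Outer.card_norm_z :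
    Nat.card (normalizer (D.E t : Set G) ⊓ centralizer ({D.z} : Set G) : Subgroup G) = 192 := by
  classical
  haveI := Fintype.ofFinite G
  obtain ⟨i, hi, hfE, hq⟩ := ht.exists_four
  set N := normalizer (D.E t : Set G) ⊓ centralizer ({D.z} : Set G) with hN
  let χ : N →* A5 := D.psi.comp (Subgroup.inclusion inf_le_right)
  set σ := D.psi ⟨t, D.mem_C.2 ht.comm⟩ with hσ
  have hlineE : ∀ c : centralizer ({D.z} : Set G), D.Outer ((c : G) * t * (c : G)⁻¹) →
      (c : G) * t * (c : G)⁻¹ ∈ D.E t → (c : G) ∈ normalizer (D.E t : Set G) := by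
    intro c ho hm
    refine mem_normalizer_fintype fun y hy => ?_
    obtain ⟨h1, h2⟩ := mem_E.1 hy
    have hy' : (c : G) * y * (c : G)⁻¹ ∈ D.E ((c : G) * t * (c : G)⁻¹) := by
      refine mem_E.2 ⟨D.mem_C.1 (mul_mem (mul_mem c.2 (D.mem_C.2 h1)) (inv_mem c.2)), ?_⟩
      rw [conj_mul, conj_mul, h2]
    rwa [← Subgroup.eq_of_le_of_card_ge (fun v hv => mem_E.2 ⟨E_comm_z hv, ht.E_comm v hv _ hm⟩ :
      D.E t ≤ D.E ((c : G) * t * (c : G)⁻¹)) (by rw [ho.card_E, ht.card_E])] at hy'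
  have hrange : (χ.range : Set A5) = {τ | τ.1 i = i} := by
    ext τ
    constructor
    · rintro ⟨n, rfl⟩
      show D.φ ⟨(n : G), _⟩ i = i
      obtain ⟨hnN, hnC⟩ := n.2
      have hu : D.u i ∈ D.E t := hfE (Or.inr (Or.inr (Or.inl rfl)))
      have hm := (mem_normalizer_iff.1 hnN _).1 hu
      have hmQ := D.norm n (D.mem_C.1 hnC) _ (D.u_mem i).1
      refine D.phi_of_pair _ ?_
      rcases hq _ hm hmQ with e | e | e | e
      · exact absurd (conj_eq_one_iff.1 e) (D.u_mem i).2.2.1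
      · exact absurd e (D.conj_invSet (D.mem_C.1 hnC) (D.u_mem i)).2.2.2
      · exact Or.inl e
      · exact Or.inr e
    · intro hτ
      have hτ' : τ.1 i = i := hτ
      obtain ⟨c, rfl⟩ := D.psi_surj τ
      have hcomm := stab_comm σ (D.psi c) ht.psi_sq.1 ht.psi_sq.2 i hi hτ'
      obtain ⟨c', rfl⟩ : ∃ c' : centralizer ({D.z} : Set G), c' = c := ⟨c, rfl⟩
      have hout := ht.conj (D.mem_C.1 c'.2)
      -- lift the conjugate image into `E`
      obtain ⟨d, hd⟩ := D.psi_surj (D.psi c' * σ * (D.psi c')⁻¹)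
      have hdt := hcomm
      rw [← hd] at hdt
      obtain ⟨q1, hq1, hq1'⟩ := (ht.conj (D.mem_C.1 d.2)).coset_conj ht (by
        have : (⟨(d : G) * t * (d : G)⁻¹, D.mem_C.2 (ht.conj (D.mem_C.1 d.2)).comm⟩ : centralizer ({D.z} : Set G)) =
          d * ⟨t, D.mem_C.2 ht.comm⟩ * d⁻¹ := rfl
        rw [this, map_mul, map_mul, map_inv, ← hσ, hdt, mul_inv_cancel_right])
      have he : q1 * (d : G) ∈ D.E t := mem_E.2 ⟨D.mem_C.1 (mul_mem (D.le hq1) d.2), by
        calc q1 * (d : G) * t = q1 * ((d : G) * t * (d : G)⁻¹) * q1⁻¹ * (q1 * d) := by group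
          _ = t * (q1 * d) := by rw [hq1']⟩
      have hψe : D.psi ⟨q1 * d, D.mem_C.2 (E_comm_z he)⟩ = D.psi d := by
        show D.psi (⟨q1, D.le hq1⟩ * d) = D.psi d
        rw [map_mul, (D.psi_ker _).2 hq1, one_mul]
      have heo : D.Outer (q1 * d) := ⟨E_comm_z he, ht.E_sq hone he, fun hQ => by
        have h1 := (D.psi_ker ⟨q1 * d, D.mem_C.2 (E_comm_z he)⟩).2 hQ
        rw [hψe, hd, conj_eq_one_iff] at h1
        exact ht.psi_sq.2 h1⟩
      obtain ⟨q, hqQ, hqe⟩ := hout.coset_conj heo (by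
        have : (⟨(c' : G) * t * (c' : G)⁻¹, D.mem_C.2 hout.comm⟩ : centralizer ({D.z} : Set G)) =
          c' * ⟨t, D.mem_C.2 ht.comm⟩ * c'⁻¹ := rfl
        rw [this, map_mul, map_mul, map_inv, ← hσ, hψe, hd])
      have hqc : (⟨q, D.le hqQ⟩ * c' : centralizer ({D.z} : Set G)).1 * t *
          (⟨q, D.le hqQ⟩ * c' : centralizer ({D.z} : Set G)).1⁻¹ = q1 * d := by
        rw [← hqe, Subgroup.coe_mul]; group
      refine ⟨⟨q * c', ⟨hlineE (⟨q, D.le hqQ⟩ * c') (hqc ▸ heo) (hqc ▸ he), mul_mem (D.le hqQ) c'.2⟩⟩, ?_⟩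
      show D.psi (⟨q, D.le hqQ⟩ * c') = D.psi c'
      rw [map_mul, (D.psi_ker _).2 hqQ, one_mul]
  -- the kernel
  have hker : Nat.card χ.ker = 16 := by
    set F := four D.hQ (D.u_mem i) with hF
    have hsel : ∀ s : F, ∃ q ∈ D.Q, q * t * q⁻¹ = t * s := by
      rintro ⟨s, hsF⟩
      have hsE := hfE hsF
      show ∃ q ∈ D.Q, q * t * q⁻¹ = t * s
      have hts : D.Outer (t * s) := ⟨E_comm_z (mul_mem ht.t_mem hsE), ht.E_sq hone (mul_mem ht.t_mem hsE),
        fun h => ht.out (by simpa using mul_mem h (inv_mem (four_le_Q i hsF)))⟩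
      obtain ⟨q, hq', e⟩ := ht.coset_conj hts (by
        have : (⟨t * s, D.mem_C.2 hts.comm⟩ : centralizer ({D.z} : Set G)) =
          ⟨t, D.mem_C.2 ht.comm⟩ * ⟨s, D.le (four_le_Q i hsF)⟩ := rfl
        rw [this, map_mul, (D.psi_ker ⟨s, D.le (four_le_Q i hsF)⟩).2 (four_le_Q i hsF), mul_one])
      exact ⟨q, hq', e⟩
    choose q hqQ hqe using hsel
    have hFt : ∀ c : F, (c : G) * t * (c : G)⁻¹ = t := fun c => by
      rw [(mem_E.1 (hfE c.2)).2, mul_inv_cancel_right]
    have hval : ∀ s c : F, q s * c * t * (q s * c)⁻¹ = t * s := fun s c => by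
      rw [show q s * c * t * (q s * c)⁻¹ = q s * ((c : G) * t * (c : G)⁻¹) * (q s)⁻¹ by group, hFt, hqe]
    have hmemN : ∀ s c : F, q s * c ∈ N := fun s c => by
      have hc : q s * c ∈ centralizer ({D.z} : Set G) := mul_mem (D.le (hqQ s)) (D.le (four_le_Q i c.2))
      have hE' := mul_mem ht.t_mem (hfE s.2)
      refine ⟨hlineE ⟨_, hc⟩ ?_ (hval s c ▸ hE'), hc⟩
      exact ht.conj (D.mem_C.1 hc)
    let f : F × F → χ.ker := fun p => ⟨⟨q p.1 * p.2, hmemN p.1 p.2⟩,
      (D.psi_ker _).2 (mul_mem (hqQ p.1) (four_le_Q i p.2.2))⟩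
    have hf : Function.Bijective f := by
      refine ⟨fun p r e => ?_, fun n => ?_⟩
      · have e' : q p.1 * p.2 = q r.1 * r.2 := congrArg (fun x : χ.ker => ((x : N) : G)) e
        have e1 : (p.1 : G) = r.1 := by
          have := hval p.1 p.2
          rw [e', hval] at this
          exact (mul_left_cancel this).symm
        have e2 : p.1 = r.1 := Subtype.ext e1
        rw [e2] at e'
        exact _root_.Prod.ext e2 (Subtype.ext (mul_left_cancel e'))
      · have hnQ : ((n : N) : G) ∈ D.Q := (D.psi_ker _).1 n.2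
        obtain ⟨hnN, hnC⟩ := (n : N).2
        have hm := (mem_normalizer_iff.1 hnN t).1 ht.t_mem
        have hs : t * (((n : N) : G) * t * ((n : N) : G)⁻¹) ∈ F := by
          refine hq _ (mul_mem ht.t_mem hm) ?_
          have h := mul_mem (D.norm t ht.comm _ hnQ) (inv_mem hnQ)
          rw [ht.inv_eq] at h
          simpa [mul_assoc] using h
        have hc : (q ⟨_, hs⟩)⁻¹ * ((n : N) : G) ∈ F := by
          refine hq _ (mem_E.2 ⟨D.mem_C.1 (mul_mem (inv_mem (D.le (hqQ _))) hnC), ?_⟩)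
            (mul_mem (inv_mem (hqQ _)) hnQ)
          have e : ((n : N) : G) * t * ((n : N) : G)⁻¹ = q ⟨_, hs⟩ * t * (q ⟨_, hs⟩)⁻¹ := by
            rw [hqe, ← mul_assoc, ht.sq, one_mul]
          generalize q ⟨_, hs⟩ = qq at e ⊢
          calc qq⁻¹ * ((n : N) : G) * t
              = qq⁻¹ * (((n : N) : G) * t * ((n : N) : G)⁻¹) * ((n : N) : G) := by group
            _ = t * (qq⁻¹ * ((n : N) : G)) := by rw [e]; group
        exact ⟨(⟨_, hs⟩, ⟨_, hc⟩), Subtype.ext (Subtype.ext (mul_inv_cancel_left _ _))⟩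
    rw [← Nat.card_eq_of_bijective f hf, Nat.card_prod, hF, card_four]
  have h := χ.ker.card_mul_index
  rw [hker, index_ker, ← SetLike.coe_sort_coe, hrange, Nat.card_eq_fintype_card] at h
  rw [← h]
  simp only [Set.coe_setOf]
  rw [stab_card i]

theorem Outer.card_norm : Nat.card (normalizer (D.E t : Set G)) = 2880 := by
  classical
  haveI := Fintype.ofFinite G
  set N := normalizer (D.E t : Set G) with hN
  let X := {a : G // a ∈ D.E t ∧ a ≠ 1}
  have hX : Nat.card X = 15 := by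
    have h : {a : G | a ∈ D.E t ∧ a ≠ 1} = (D.E t : Set G) \ {1} := by ext; simp
    show Nat.card ({a : G | a ∈ D.E t ∧ a ≠ 1} : Set G) = 15
    rw [Nat.card_coe_set_eq, h, Set.ncard_sdiff_singleton_of_mem (one_mem _), ← Nat.card_coe_set_eq,
      SetLike.coe_sort_coe, ht.card_E]
  let f : N → X := fun n => ⟨(n : G) * D.z * (n : G)⁻¹, (mem_normalizer_iff.1 n.2 _).1 ht.z_mem,
    fun h => D.hQ.zne (conj_eq_one_iff.1 h)⟩
  have hfib : ∀ a : X, Nat.card {n : N // f n = a} = 192 := by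
    intro a
    obtain ⟨m, hm, hma⟩ := ht.exists_mapping hone a.2.1 a.2.2
    rw [← ht.card_norm_z hone]
    refine Nat.card_congr
      { toFun := fun n => ⟨m⁻¹ * (n.1 : G), N.mul_mem (N.inv_mem hm) n.1.2, D.mem_C.2 ?_⟩
        invFun := fun c => ⟨⟨m * (c : G), N.mul_mem hm c.2.1⟩, Subtype.ext ?_⟩
        left_inv := fun n => Subtype.ext (Subtype.ext (mul_inv_cancel_left _ _))
        right_inv := fun c => Subtype.ext (inv_mul_cancel_left _ _) }
    · have e : (n.1 : G) * D.z * (n.1 : G)⁻¹ = m * D.z * m⁻¹ := (congrArg Subtype.val n.2).trans hma.symm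
      calc m⁻¹ * (n.1 : G) * D.z = m⁻¹ * ((n.1 : G) * D.z * (n.1 : G)⁻¹) * n.1 := by group
        _ = D.z * (m⁻¹ * (n.1 : G)) := by rw [e]; group
    · show m * (c : G) * D.z * (m * (c : G))⁻¹ = a
      rw [mul_inv_rev, mul_assoc m, D.mem_C.1 c.2.2, ← hma]; group
  haveI : Fintype X := Fintype.ofFinite _
  have h := Nat.card_congr (Equiv.sigmaFiberEquiv f)
  rw [Nat.card_sigma, Finset.sum_congr rfl fun a _ => hfib a, Finset.sum_const, Finset.card_univ, smul_eq_mul,
    ← Nat.card_eq_fintype_card, hX] at h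
  rw [← h]

end Data

end Cfsg.Agent.JThreeType
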