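import Cfsg.Agent.Lib.JThreeType.Sys
import Cfsg.Agent.Lib.MultiplierJThree.Words
import Cfsg.Agent.Lib.JankoThree.Krylov

/-!
# Seven elements of `J₃` satisfying the relations

* `exists_model`
-/

set_option autoImplicit false
set_option maxRecDepth 100000

namespace Cfsg.Agent.JThreeType

open Table.Cert (val val_cons val_append val_nil)
open MultiplierJThree (eqWord lettersOk letter)

namespace Model

/-- The codes of the seven elements and of the two generators of order 19. -/
def gens : List ℕ := [0x2f4bba95330be76ceb26c01128f98e4020b88cbaa, 0x3d7bb8350ac44059ec43060100102312c935ba858, 0x340e83e007e012307041f2c34e32c87c0903e986, 0x28973206585b5996edac0300504a428dab87e1826, 0x35e22e4a5d541c9b2893985197076de6454a4dea0, 0x38ad804fbdde9a606531ee6b3ef7be6531fcf5afe, 0x212ac3233062b6098ab550154981b61cd1ba01f14, 0x4a002c09800000001d3025680004cc81180200, 0x1809010141a0001008002c14500480ca81422080]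

/-- Their words in the defining generators. -/
def words : List (List ℕ) :=
  [[35, 3, 23, 38, 26, 1, 19, 36, 7, 22], [3, 42, 26, 35, 4, 19], [8, 20, 39, 19, 36, 6],
    [2, 24, 36, 25, 1, 38, 17, 23], [4, 25, 39, 26, 1, 40, 10, 21], [22, 35, 2, 21, 42, 1, 20, 25, 35, 26],
    [4, 26, 37, 19, 1, 37, 16, 21], [24, 22, 35], [37, 24, 26]]

/-- The first generator of order 19 in the seven elements. -/
def backX : List ℕ := [2, 0, 1, 6, 0, 5, 6, 0, 2, 6, 5, 0, 3, 6, 1]

/-- The second generator of order 19 in the seven elements. -/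
def backY : List ℕ := [4, 5, 6, 1, 5, 0, 2, 6, 5, 6, 0, 2, 0, 6]

/-- The word of a vector. -/
def phiWord (m : ℕ) : List ℕ :=
  (if m.testBit 0 then [5] else []) ++ (if m.testBit 1 then [4, 5, 3] else []) ++
    (if m.testBit 2 then [0, 5, 0] else []) ++ (if m.testBit 3 then [4, 0, 5, 0, 3] else [])

theorem letters_ok : lettersOk gens words = true := by decide +kernel

theorem rels_ok : ((Table.bigRels ++ smallRels).all fun r => eqWord gens r []) = true := by decide +kernel

theorem inv_ok : ((List.range 7).all fun l => eqWord gens [ivOf l, l] []) = true := by decide +kernel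

theorem xor_ok : ((List.range 16).all fun m => (List.range 16).all fun n =>
    eqWord gens (phiWord (m ^^^ n)) (phiWord m ++ phiWord n)) = true := by decide +kernel

theorem conj_ok : ((List.range 5).all fun l => (List.range 16).all fun m =>
    eqWord gens ([ivOf l] ++ phiWord m ++ [l]) (phiWord (Action.act l m))) = true := by decide +kernel

theorem back_ok : eqWord gens backX [7] = true ∧ eqWord gens backY [8] = true ∧ eqWord gens [0] [] = false := by
  decide +kernel

theorem gens_eq : gens.getD 7 JankoThree.oneN = JankoThree.gX ∧ gens.getD 8 JankoThree.oneN = JankoThree.gY := by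
  decide +kernel

theorem phiWord_mod (m : ℕ) : phiWord m = phiWord (m % 16) := by
  have h : ∀ i < 4, (m % 16).testBit i = m.testBit i := fun i hi => by
    rw [show (16 : ℕ) = 2 ^ 4 from rfl, Nat.testBit_mod_two_pow]; simp [hi]
  rw [phiWord, phiWord, h 0 (by norm_num), h 1 (by norm_num), h 2 (by norm_num), h 3 (by norm_num)]

end Model

variable {F : Type*} [Field F] {ω : F} (h2 : (2 : F) = 0) (hω : ω ^ 2 + ω + 1 = 0)

include h2 hω

/-- Seven elements satisfying the relations generate `J₃`. -/
theorem exists_model : ∃ g : ℕ → Spor.J3 F ω, Sys g ∧ g 0 ≠ 1 ∧ Subgroup.closure (g '' {l | l < 7}) = ⊤ := by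
  classical
  set g := letter h2 hω Model.letters_ok with hg
  have hval : ∀ w, PcCover.wp g w = val g w := fun w => rfl
  have heq : ∀ u w, eqWord Model.gens u w = true → val g u = val g w := fun u w h => by
    rw [← hval, ← hval]; exact (MultiplierJThree.eqWord_iff h2 hω Model.letters_ok u w).1 h
  obtain ⟨hbX, hbY, h0⟩ := Model.back_ok
  have hinv : ∀ l < 7, g (ivOf l) * g l = 1 := fun l hl => by
    have h := heq [ivOf l, l] [] (List.all_eq_true.1 Model.inv_ok l (List.mem_range.2 hl))
    simpa [val] using h
  refine ⟨g, ⟨hinv, ?_, ?_, ?_⟩, ?_, ?_⟩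
  · intro r hr
    exact heq r [] (List.all_eq_true.1 Model.rels_ok r (List.mem_append_left _ hr))
  · intro r hr
    exact heq r [] (List.all_eq_true.1 Model.rels_ok r (List.mem_append_right _ hr))
  · refine ⟨fun m => val g (Model.phiWord m), fun m n => ?_, ?_, fun l hl m => ?_⟩
    · simp only
      rw [Model.phiWord_mod (m ^^^ n), Model.phiWord_mod m, Model.phiWord_mod n, show (16 : ℕ) = 2 ^ 4 from rfl,
        Nat.xor_mod_two_pow, ← val_append]
      exact heq _ _ (List.all_eq_true.1 (List.all_eq_true.1 Model.xor_ok _ (List.mem_range.2 (Nat.mod_lt _ (by norm_num))))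
        _ (List.mem_range.2 (Nat.mod_lt _ (by norm_num))))
    · simp [Model.phiWord, val, Nat.testBit, Nat.shiftRight_eq_div_pow]
    · simp only
      rw [Model.phiWord_mod m, show Action.act l m = Action.act l (m % 16) from Action.ap_mod _ m]
      have h := heq _ _ (List.all_eq_true.1 (List.all_eq_true.1 Model.conj_ok l (List.mem_range.2 hl))
        _ (List.mem_range.2 (Nat.mod_lt m (by norm_num : 0 < 16))))
      rw [val_append, val_append, val_cons, val_nil, mul_one, val_cons, val_nil, mul_one,
        eq_inv_of_mul_eq_one_left (hinv l (by omega))] at h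
      exact h
  · intro h
    have h' := (MultiplierJThree.eqWord_iff h2 hω Model.letters_ok [0] []).2 (by rw [hval, hval]; simpa [val] using h)
    rw [h0] at h'
    exact Bool.noConfusion h'
  · set S := Subgroup.closure (g '' {l | l < 7}) with hS
    have hmemS : ∀ w : List ℕ, (∀ l ∈ w, l < 7) → val g w ∈ S := by
      intro w hw
      refine list_prod_mem fun x hx => ?_
      obtain ⟨a, ha, rfl⟩ := List.mem_map.1 hx
      exact Subgroup.subset_closure ⟨a, hw a ha, rfl⟩
    have h78 : ∀ b < 2, g (7 + b) ∈ S := by
      intro b hb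
      interval_cases b
      · have h := heq _ _ hbX
        rw [val_cons, val_nil, mul_one] at h
        exact h ▸ hmemS _ (by decide)
      · have h := heq _ _ hbY
        rw [val_cons, val_nil, mul_one] at h
        exact h ▸ hmemS _ (by decide)
    set π := QuotientGroup.mk' (Subgroup.center (Spor.threeJ3 F ω))
    set lf := MultiplierJThree.lift h2 hω Model.letters_ok
    have hlf : ∀ b < 2, ((lf (7 + b) : Spor.threeJ3 F ω) : GL Spor.F9 F) = JankoThree.unitOf h2 hω b := by
      intro b hb
      refine Units.ext ?_
      rw [show ((lf (7 + b) : GL Spor.F9 F) : Matrix Spor.F9 Spor.F9 F) = _ from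
        (MultiplierJThree.exists_letter h2 hω Model.letters_ok (7 + b)).choose_spec, JankoThree.unitOf_val]
      have e : Model.gens.getD (7 + b) JankoThree.oneN = JankoThree.genOf b := by
        obtain ⟨e7, e8⟩ := Model.gens_eq
        interval_cases b
        exacts [e7, e8]
      rw [e]
    have htop : Spor.threeJ3 F ω ≤ (S.comap π).map (Spor.threeJ3 F ω).subtype := by
      refine le_trans (le_of_eq (JankoThree.threeJ3_eq h2 hω)) ?_
      rw [JankoThree.genGroup, Subgroup.closure_le]
      rintro x (rfl | rfl)
      · exact ⟨lf 7, h78 0 (by norm_num), hlf 0 (by norm_num)⟩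
      · exact ⟨lf 8, h78 1 (by norm_num), hlf 1 (by norm_num)⟩
    rw [eq_top_iff]
    intro y _
    obtain ⟨x, rfl⟩ := QuotientGroup.mk'_surjective _ y
    obtain ⟨x', hx', e⟩ := htop x.2
    rw [show x = x' from Subtype.ext e.symm]
    exact hx'

end Cfsg.Agent.JThreeType
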