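import Cfsg.Agent.Lib.JThreeType.Lines
import Mathlib.GroupTheory.Transfer

/-!
# Groups of type `J₃`: `N(E) = E (⟨k⟩ × B)`

* `Data.Outer.exists_perm`: the action on the five lines
* `Data.Outer.exists_scalar`: `k`, an element of order three fixing all lines and no point, and its centraliser
-/

set_option autoImplicit false
set_option linter.unusedSectionVars false
set_option linter.style.haveILetI false

namespace Cfsg.Agent.JThreeType

open Cfsg Subgroup OrderJTwo
open scoped commutatorElement Pointwise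

variable {G : Type*} [Group G] [Finite G]

/-- `k` and `B` of the normaliser of `E`, with the action on the five lines. -/
structure Frame16 (D : Data G) where
  t : G
  outer : D.Outer t
  line : Fin 5 → Subgroup G
  π : normalizer (D.E t : Set G) →* Equiv.Perm (Fin 5)
  k : G
  B : Subgroup G
  line_le : ∀ i, line i ≤ D.E t
  line_card : ∀ i, Nat.card (line i) = 4
  line_cover : ∀ a ∈ D.E t, a ≠ 1 → ∃ i, a ∈ line i
  line_disj : ∀ i j, ∀ a ∈ line i, a ∈ line j → a ≠ 1 → i = j
  line_map : ∀ (n : normalizer (D.E t : Set G)) i, ∀ a, a ∈ line i ↔ (n : G) * a * (n : G)⁻¹ ∈ line (π n i)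
  k3 : k ^ 3 = 1
  k_mem : k ∈ normalizer (D.E t : Set G)
  k_lines : ∀ i, ∀ a ∈ line i, k * a * k⁻¹ ∈ line i
  k_fpf : ∀ a ∈ D.E t, k * a * k⁻¹ = a → a = 1
  B_le : B ≤ normalizer (D.E t : Set G)
  B_comm : ∀ b ∈ B, b * k = k * b
  B_disj : ∀ b ∈ B, b ∈ zpowers k → b = 1
  B_card : Nat.card B = 60
  B_image : ∀ σ : Equiv.Perm (Fin 5), Equiv.Perm.sign σ = 1 → ∃ b : normalizer (D.E t : Set G), (b : G) ∈ B ∧ π b = σ
  B_faith : ∀ b : normalizer (D.E t : Set G), (b : G) ∈ B → π b = 1 → b = 1
  B_even : ∀ b : normalizer (D.E t : Set G), (b : G) ∈ B → Equiv.Perm.sign (π b) = 1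

theorem alternatingGroup_commutator_self :
    ⁅alternatingGroup (Fin 5), alternatingGroup (Fin 5)⁆ = alternatingGroup (Fin 5) := by
  have h := commutator_alternatingGroup_eq_self (α := Fin 5) (by simp)
  exact h

/-- A central element of an abelian subgroup of index prime to its order is not a commutator product. -/
theorem not_mem_commutator {H : Type*} [Group H] [Finite H] (S : Subgroup H)
    (hS : ∀ x ∈ S, ∀ y ∈ S, x * y = y * x) {c : H} (hc : c ∈ S) (hcc : c ∈ center H)
    (hne : c ^ S.index ≠ 1) : c ∉ commutator H := by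
  letI : CommGroup S := { (inferInstance : Group S) with mul_comm := fun a b => Subtype.ext (hS a a.2 b b.2) }
  intro hm
  have key : ∀ (k : ℕ) (g₀ : H), g₀⁻¹ * c ^ k * g₀ ∈ S → g₀⁻¹ * c ^ k * g₀ = c ^ k := fun k g₀ _ => by
    rw [mul_assoc, ← mem_center_iff.1 (pow_mem hcc k) g₀, inv_mul_cancel_left]
  have h0 := MonoidHom.transfer_eq_pow (MonoidHom.id S) c key
  rw [show MonoidHom.transfer (MonoidHom.id S) c = 1 from Abelianization.commutator_subset_ker _ hm] at h0
  exact hne (congrArg Subtype.val h0).symm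

namespace Data

variable {D : Data G}
variable (hone : ∀ x y : G, orderOf x = 2 → orderOf y = 2 → IsConj x y)
variable {t : G} (ht : D.Outer t)
include hone ht

/-- The action on the five lines. -/
theorem Outer.exists_perm : ∃ (L : Fin 5 → Subgroup G) (π : normalizer (D.E t : Set G) →* Equiv.Perm (Fin 5)),
    (∀ i, L i ≤ D.E t) ∧ (∀ i, Nat.card (L i) = 4) ∧ (∀ a ∈ D.E t, a ≠ 1 → ∃ i, a ∈ L i) ∧
    (∀ i j, ∀ a ∈ L i, a ∈ L j → a ≠ 1 → i = j) ∧
    ∀ (n : normalizer (D.E t : Set G)) i, ∀ a, a ∈ L i ↔ (n : G) * a * (n : G)⁻¹ ∈ L (π n i) := by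
  classical
  haveI := Fintype.ofFinite G
  let S : Set (Subgroup G) := {U | ∃ a ∈ D.E t, a ≠ 1 ∧ (U : Set G) = D.line t a}
  have hUspec : ∀ U : S, Nat.card (U : Subgroup G) = 4 ∧ (U : Subgroup G) ≤ D.E t ∧
      ∀ b ∈ (U : Subgroup G), b ≠ 1 → ((U : Subgroup G) : Set G) = D.line t b := by
    rintro ⟨U, a, ha, ha1, hU⟩
    obtain ⟨V, hV, hV4, -, hVE⟩ := ht.line_spec hone ha ha1
    obtain rfl : U = V := SetLike.coe_injective (hU.trans hV.symm)
    exact ⟨hV4, hVE, fun b hb hb1 => hU.trans (ht.line_eq hone ha ha1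
      (by have hb' : b ∈ (U : Set G) := hb; rwa [hU] at hb') hb1).symm⟩
  let X := {a : G // a ∈ D.E t ∧ a ≠ 1}
  have hXU : ∀ a : X, ∃ U : S, (a : G) ∈ (U : Subgroup G) := fun a => by
    obtain ⟨U, hU, -, haU, -⟩ := ht.line_spec hone a.2.1 a.2.2
    exact ⟨⟨U, a, a.2.1, a.2.2, hU⟩, haU⟩
  choose f hf using hXU
  have hfu : ∀ (a : X) (U : S), (a : G) ∈ (U : Subgroup G) → f a = U := fun a U h =>
    Subtype.ext (SetLike.coe_injective (((hUspec _).2.2 a (hf a) a.2.2).trans ((hUspec U).2.2 a h a.2.2).symm))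
  have hfib : ∀ U : S, Nat.card {a : X // f a = U} = 3 := by
    intro U
    have e : {a : X // f a = U} ≃ {a : G | a ∈ (U : Subgroup G) ∧ a ≠ 1} :=
      { toFun := fun a => ⟨a.1, (by have h := hf a.1; rwa [a.2] at h), a.1.2.2⟩
        invFun := fun a => ⟨⟨a, (hUspec U).2.1 a.2.1, a.2.2⟩, hfu _ U a.2.1⟩
        left_inv := fun a => rfl
        right_inv := fun a => rfl }
    have h : {a : G | a ∈ (U : Subgroup G) ∧ a ≠ 1} = ((U : Subgroup G) : Set G) \ {1} := by ext; simp
    rw [Nat.card_congr e, Nat.card_coe_set_eq, h, Set.ncard_sdiff_singleton_of_mem (one_mem _),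
      ← Nat.card_coe_set_eq, SetLike.coe_sort_coe, (hUspec U).1]
  have hS5 : Nat.card S = 5 := by
    haveI : Fintype S := Fintype.ofFinite _
    have h := Nat.card_congr (Equiv.sigmaFiberEquiv f)
    have hX : Nat.card X = 15 := by
      have h : {a : G | a ∈ D.E t ∧ a ≠ 1} = (D.E t : Set G) \ {1} := by ext; simp
      show Nat.card ({a : G | a ∈ D.E t ∧ a ≠ 1} : Set G) = 15
      rw [Nat.card_coe_set_eq, h, Set.ncard_sdiff_singleton_of_mem (one_mem _), ← Nat.card_coe_set_eq,
        SetLike.coe_sort_coe, ht.card_E]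
    rw [Nat.card_sigma, Finset.sum_congr rfl fun U _ => hfib U, Finset.sum_const, Finset.card_univ, smul_eq_mul,
      hX, ← Nat.card_eq_fintype_card] at h
    omega
  let e : S ≃ Fin 5 := (Finite.equivFin S).trans (finCongr hS5)
  have hconj : ∀ (n : normalizer (D.E t : Set G)) (U : S),
      ((U : Subgroup G).map (MulAut.conj (n : G)).toMonoidHom) ∈ S := by
    rintro n ⟨U, a, ha, ha1, hU⟩
    refine ⟨(n : G) * a * (n : G)⁻¹, (mem_normalizer_iff.1 n.2 a).1 ha, fun h => ha1 (conj_eq_one_iff.1 h), ?_⟩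
    rw [ht.line_conj hone n.2]
    show (MulAut.conj (n : G)) '' (U : Set G) = _
    rw [hU]
    rfl
  let act : normalizer (D.E t : Set G) → S → S := fun n U => ⟨_, hconj n U⟩
  have hmemc : ∀ (n : normalizer (D.E t : Set G)) (U : Subgroup G) x,
      x ∈ U.map (MulAut.conj (n : G)).toMonoidHom ↔ (n : G)⁻¹ * x * (n : G) ∈ U := fun n U x =>
    Subgroup.mem_map_equiv
  have act_one : ∀ U, act 1 U = U := fun U => Subtype.ext (SetLike.ext fun x => by
    show x ∈ Subgroup.map _ _ ↔ _
    rw [hmemc]; simp)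
  have act_mul : ∀ n m U, act (n * m) U = act n (act m U) := fun n m U => Subtype.ext (SetLike.ext fun x => by
    show x ∈ Subgroup.map _ _ ↔ x ∈ Subgroup.map _ (Subgroup.map _ _)
    rw [hmemc, hmemc, hmemc]; simp [mul_assoc])
  let π : normalizer (D.E t : Set G) →* Equiv.Perm (Fin 5) :=
    { toFun := fun n => e.permCongr ⟨act n, act n⁻¹,
        fun U => by rw [← act_mul, inv_mul_cancel, act_one], fun U => by rw [← act_mul, mul_inv_cancel, act_one]⟩
      map_one' := Equiv.ext fun i => by simp [act_one]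
      map_mul' := fun n m => Equiv.ext fun i => by simp [act_mul] }
  refine ⟨fun i => (e.symm i : Subgroup G), π, fun i => (hUspec _).2.1, fun i => (hUspec _).1, fun a ha ha1 => ?_,
    fun i j a hi hj ha1 => ?_, fun n i a => ?_⟩
  · refine ⟨e (f ⟨a, ha, ha1⟩), ?_⟩
    show a ∈ (e.symm (e (f ⟨a, ha, ha1⟩)) : Subgroup G)
    rw [e.symm_apply_apply]; exact hf ⟨a, ha, ha1⟩
  · exact e.symm.injective (Subtype.ext (SetLike.coe_injective
      (((hUspec _).2.2 a hi ha1).trans ((hUspec _).2.2 a hj ha1).symm)))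
  · show a ∈ (e.symm i : Subgroup G) ↔ (n : G) * a * (n : G)⁻¹ ∈ (e.symm (e (act n (e.symm i))) : Subgroup G)
    rw [e.symm_apply_apply]
    show _ ↔ _ ∈ Subgroup.map _ _
    rw [hmemc]
    simp [mul_assoc]

/-- `k` and `B`. -/
theorem Outer.exists_frame : ∃ F : Frame16 D, F.t = t := by
  classical
  haveI : Fact (Nat.Prime 3) := ⟨Nat.prime_three⟩
  haveI := Fintype.ofFinite G
  obtain ⟨L, π, hLE, hL4, hcov, hdis, hmap⟩ := ht.exists_perm hone
  obtain ⟨i0, hi0⟩ := hcov D.z ht.z_mem D.hQ.zne
  -- an element fixing all lines and `z` centralises `E`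
  have hfix : ∀ n : (normalizer (D.E t : Set G)), π n = 1 → (n : G) * D.z * (n : G)⁻¹ = D.z → (n : G) ∈ D.E t := by
    intro n hn hz
    have hstab : ∀ i, ∀ a ∈ L i, (n : G) * a * (n : G)⁻¹ ∈ L i := fun i a ha => by
      have := (hmap n i a).1 ha
      rwa [hn] at this
    -- fixed point in the lines other than that of `z`
    have hcompo : ∀ i j, i ≠ i0 → j ≠ i0 → i ≠ j → ∃ a ∈ L i, ∃ b ∈ L j, D.z = a * b ∧ a ≠ 1 ∧
        (n : G) * a * (n : G)⁻¹ = a ∧ (n : G) * b * (n : G)⁻¹ = b := by
      intro i j hi hj hij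
      let f : L i × L j → D.E t := fun p => ⟨p.1 * p.2, mul_mem (hLE i p.1.2) (hLE j p.2.2)⟩
      have hf : Function.Injective f := by
        intro p r e
        have e' : (p.1 : G) * p.2 = r.1 * r.2 := congrArg Subtype.val e
        have e2 : (r.1 : G)⁻¹ * p.1 = r.2 * (p.2 : G)⁻¹ := by
          calc (r.1 : G)⁻¹ * p.1 = (r.1 : G)⁻¹ * (p.1 * p.2) * (p.2 : G)⁻¹ := by group
            _ = _ := by rw [e']; group
        have h1 : (r.1 : G)⁻¹ * p.1 = 1 := by
          by_contra h
          exact hij (hdis i j _ (mul_mem (inv_mem r.1.2) p.1.2) (e2 ▸ mul_mem r.2.2 (inv_mem p.2.2)) h)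
        rw [h1] at e2
        exact _root_.Prod.ext (Subtype.ext (inv_mul_eq_one.1 h1).symm) (Subtype.ext (mul_inv_eq_one.1 e2.symm).symm)
      obtain ⟨⟨⟨a, ha⟩, ⟨b, hb⟩⟩, hab⟩ := ((Nat.bijective_iff_injective_and_card f).2
        ⟨hf, by rw [Nat.card_prod, hL4, hL4, ht.card_E]⟩).2 ⟨D.z, ht.z_mem⟩
      have hab' : a * b = D.z := congrArg Subtype.val hab
      have ha1 : a ≠ 1 := fun h => hj (hdis j i0 D.z (by rwa [← hab', h, one_mul]) hi0 D.hQ.zne)
      have e : f (⟨_, hstab i a ha⟩, ⟨_, hstab j b hb⟩) = f (⟨a, ha⟩, ⟨b, hb⟩) := by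
        rw [hab]
        refine Subtype.ext ?_
        show (n : G) * a * (n : G)⁻¹ * ((n : G) * b * (n : G)⁻¹) = D.z
        rw [conj_mul, hab', hz]
      have e2 := hf e
      exact ⟨a, ha, b, hb, hab'.symm, ha1, congrArg (fun p : L i × L j => (p.1 : G)) e2,
        congrArg (fun p : L i × L j => (p.2 : G)) e2⟩
    have hline : ∀ i, i ≠ i0 → ∀ a ∈ L i, (n : G) * a * (n : G)⁻¹ = a := by
      intro i hi
      obtain ⟨j, l, hj, hl, hij, hil, hjl⟩ := (show ∀ i i0 : Fin 5, i ≠ i0 →
        ∃ j l : Fin 5, j ≠ i0 ∧ l ≠ i0 ∧ i ≠ j ∧ i ≠ l ∧ j ≠ l by decide) i i0 hi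
      obtain ⟨a1, ha1, b1, hb1, e1, n1, f1, -⟩ := hcompo i j hi hj hij
      obtain ⟨a2, ha2, b2, hb2, e2, n2, f2, -⟩ := hcompo i l hi hl hil
      have hne : a1 ≠ a2 := fun e => by
        subst e
        have hb : b1 = b2 := mul_left_cancel (e1.symm.trans e2)
        refine hjl (hdis j l b1 hb1 (hb ▸ hb2) fun h => ?_)
        rw [h, mul_one] at e1
        exact hi (hdis i i0 D.z (e1 ▸ ha1) hi0 D.hQ.zne)
      -- the fixed points form a subgroup of order at least three in a group of order four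
      set F : Subgroup G := L i ⊓ centralizer ({(n : G)} : Set G)
      have hF : ∀ a ∈ L i, (n : G) * a * (n : G)⁻¹ = a → a ∈ F := fun a ha h =>
        ⟨ha, mem_centralizer_singleton_iff.2 (mul_inv_eq_iff_eq_mul.1 h).symm⟩
      have hd : Nat.card F ∣ 4 := hL4 i ▸ card_dvd_of_le inf_le_left
      have h3 : 3 ≤ Nat.card F := by
        have hs : ({1, a1, a2} : Set G) ⊆ F := by
          rintro x (rfl | rfl | rfl)
          exacts [one_mem _, hF _ ha1 f1, hF _ ha2 f2]
        have := Set.ncard_le_ncard hs (Set.toFinite _)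
        rw [Set.ncard_insert_of_notMem (by simp [n1.symm, n2.symm]), Set.ncard_pair hne,
          ← Nat.card_coe_set_eq, SetLike.coe_sort_coe] at this
        exact this
      have hF4 : Nat.card F = 4 := by
        have h1 := Nat.le_of_dvd (by norm_num) hd
        interval_cases h : Nat.card F <;> omega
      intro a ha
      have hFL : F = L i := Subgroup.eq_of_le_of_card_ge inf_le_left (by rw [hF4, hL4])
      exact mul_inv_eq_iff_eq_mul.2 (mem_centralizer_singleton_iff.1 (hFL.ge ha).2).symm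
    refine ht.E_self hone fun y hy => ?_
    -- `E` is generated by two lines
    obtain ⟨j, l, hj, hl, hjl⟩ := (show ∀ i0 : Fin 5, ∃ j l : Fin 5, j ≠ i0 ∧ l ≠ i0 ∧ j ≠ l by decide) i0
    let f : L j × L l → D.E t := fun p => ⟨p.1 * p.2, mul_mem (hLE j p.1.2) (hLE l p.2.2)⟩
    have hf : Function.Injective f := by
      intro p r e
      have e' : (p.1 : G) * p.2 = r.1 * r.2 := congrArg Subtype.val e
      have e2 : (r.1 : G)⁻¹ * p.1 = r.2 * (p.2 : G)⁻¹ := by
        calc (r.1 : G)⁻¹ * p.1 = (r.1 : G)⁻¹ * (p.1 * p.2) * (p.2 : G)⁻¹ := by group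
          _ = _ := by rw [e']; group
      have h1 : (r.1 : G)⁻¹ * p.1 = 1 := by
        by_contra h
        exact hjl (hdis j l _ (mul_mem (inv_mem r.1.2) p.1.2) (e2 ▸ mul_mem r.2.2 (inv_mem p.2.2)) h)
      rw [h1] at e2
      exact _root_.Prod.ext (Subtype.ext (inv_mul_eq_one.1 h1).symm) (Subtype.ext (mul_inv_eq_one.1 e2.symm).symm)
    obtain ⟨⟨a, b⟩, hab⟩ := ((Nat.bijective_iff_injective_and_card f).2
      ⟨hf, by rw [Nat.card_prod, hL4, hL4, ht.card_E]⟩).2 ⟨y, hy⟩
    have hy' : (a : G) * b = y := congrArg Subtype.val hab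
    refine mul_inv_eq_iff_eq_mul.1 ?_
    rw [← hy', ← conj_mul, hline j hj a a.2, hline l hl b b.2]
  -- the kernel of the action has order 48 and the image is the alternating group
  have hK : Nat.card π.ker ≤ 48 := by
    let f : π.ker → (((L i0 : Set G) \ {1}) : Set G) := fun n => ⟨((n : (normalizer (D.E t : Set G))) : G) * D.z * ((n : (normalizer (D.E t : Set G))) : G)⁻¹, by
      have := (hmap n i0 D.z).1 hi0
      rwa [show π n = 1 from n.2] at this, fun h => D.hQ.zne (conj_eq_one_iff.1 h)⟩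
    have hfib : ∀ a, Nat.card {n : π.ker // f n = a} ≤ 16 := by
      intro a
      by_cases hn : Nonempty {n : π.ker // f n = a}
      · obtain ⟨n0⟩ := hn
        rw [← ht.card_E]
        refine Nat.card_le_card_of_injective (fun n : {n : π.ker // f n = a} =>
          (⟨((n0.1⁻¹ * n.1 : π.ker) : (normalizer (D.E t : Set G))), ?_⟩ : D.E t)) ?_
        · have e : ((n.1 : (normalizer (D.E t : Set G))) : G) * D.z * ((n.1 : (normalizer (D.E t : Set G))) : G)⁻¹ = ((n0.1 : (normalizer (D.E t : Set G))) : G) * D.z * ((n0.1 : (normalizer (D.E t : Set G))) : G)⁻¹ :=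
            congrArg Subtype.val (n.2.trans n0.2.symm)
          refine hfix _ (n0.1⁻¹ * n.1).2 ?_
          simp only [Subgroup.coe_mul, Subgroup.coe_inv]
          calc ((n0.1 : (normalizer (D.E t : Set G))) : G)⁻¹ * ((n.1 : (normalizer (D.E t : Set G))) : G) * D.z * (((n0.1 : (normalizer (D.E t : Set G))) : G)⁻¹ * ((n.1 : (normalizer (D.E t : Set G))) : G))⁻¹
              = ((n0.1 : (normalizer (D.E t : Set G))) : G)⁻¹ * (((n.1 : (normalizer (D.E t : Set G))) : G) * D.z * ((n.1 : (normalizer (D.E t : Set G))) : G)⁻¹) * ((n0.1 : (normalizer (D.E t : Set G))) : G) := by group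
            _ = D.z := by rw [e]; group
        · intro x y e
          have e' : ((n0.1⁻¹ * x.1 : π.ker) : (normalizer (D.E t : Set G))) = ((n0.1⁻¹ * y.1 : π.ker) : (normalizer (D.E t : Set G))) :=
            Subtype.ext (congrArg (fun v : D.E t => (v : G)) e)
          exact Subtype.ext (mul_left_cancel (Subtype.ext e'))
      · rw [not_nonempty_iff] at hn
        simp
    haveI : Fintype (((L i0 : Set G) \ {1} : Set G)) := Fintype.ofFinite _
    rw [← Nat.card_congr (Equiv.sigmaFiberEquiv f), Nat.card_sigma]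
    refine (Finset.sum_le_sum fun a _ => hfib a).trans ?_
    rw [Finset.sum_const, Finset.card_univ, smul_eq_mul, ← Nat.card_eq_fintype_card, Nat.card_coe_set_eq,
      Set.ncard_sdiff_singleton_of_mem (one_mem _), ← Nat.card_coe_set_eq, SetLike.coe_sort_coe, hL4]
  have hmul : Nat.card π.ker * Nat.card π.range = 2880 := by
    rw [← index_ker, π.ker.card_mul_index, ht.card_norm hone]
  have hr : Nat.card π.range ∣ 120 := by
    have := card_subgroup_dvd_card π.range
    rwa [Nat.card_perm, Nat.card_fin] at this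
  have hE16 : 16 ∣ Nat.card π.ker := by
    have hle : (D.E t).subgroupOf (normalizer (D.E t : Set G)) ≤ π.ker := by
      intro n hn
      refine Equiv.ext fun i => ?_
      obtain ⟨a, ha, ha1⟩ : ∃ a ∈ L i, a ≠ 1 := by
        by_contra h
        push Not at h
        have hb : L i = ⊥ := (Subgroup.eq_bot_iff_forall _).2 h
        have := hL4 i
        rw [hb, card_bot] at this
        norm_num at this
      refine hdis _ _ a ?_ ha ha1
      have := (hmap n i a).1 ha
      rwa [ht.E_comm (n : G) hn a (hLE i ha), mul_inv_cancel_right] at this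
    have := card_dvd_of_le hle
    rwa [Nat.card_congr (subgroupOfEquivOfLe (le_normalizer : D.E t ≤ (normalizer (D.E t : Set G)))).toEquiv, ht.card_E] at this
  have hker48 : Nat.card π.ker = 48 ∧ Nat.card π.range = 60 := by
    obtain ⟨c, hc⟩ := hE16
    rw [hc] at hmul hK
    have hc3 : c ≤ 3 := by omega
    interval_cases c
    · omega
    · have h180 : Nat.card π.range = 180 := by omega
      rw [h180] at hr; norm_num at hr
    · have h90 : Nat.card π.range = 90 := by omega
      rw [h90] at hr; norm_num at hr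
    · exact ⟨hc, by omega⟩
  obtain ⟨hK48, hR60⟩ := hker48
  have hrange : π.range = alternatingGroup (Fin 5) := by
    apply Equiv.Perm.eq_alternatingGroup_of_index_eq_two
    have h := π.range.card_mul_index
    rw [hR60, Nat.card_perm, Nat.card_fin, show (5 : ℕ).factorial = 120 from rfl] at h
    omega
  -- `k`
  obtain ⟨k, hk⟩ := exists_prime_orderOf_dvd_card' (G := π.ker) 3 (hK48 ▸ by norm_num)
  have hkN : orderOf ((k : (normalizer (D.E t : Set G))) : G) = 3 := by rw [Subgroup.orderOf_coe, Subgroup.orderOf_coe, hk]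
  set kG : G := ((k : (normalizer (D.E t : Set G))) : G) with hkG
  have hk3 : kG ^ 3 = 1 := hkN ▸ pow_orderOf_eq_one kG
  have hk1 : kG ≠ 1 := fun h => by rw [h, orderOf_one] at hkN; norm_num at hkN
  have hkfpf : ∀ a ∈ D.E t, kG * a * kG⁻¹ = a → a = 1 := by
    intro a ha hfixa
    by_contra ha1
    obtain ⟨m, hm, hma⟩ := ht.exists_mapping hone ha ha1
    have hconj := hfix ((⟨m, hm⟩ : (normalizer (D.E t : Set G)))⁻¹ * (k : (normalizer (D.E t : Set G))) * ⟨m, hm⟩) (by
        rw [map_mul, map_mul, map_inv, show π (k : (normalizer (D.E t : Set G))) = 1 from k.2, mul_one, inv_mul_cancel]) (by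
        show m⁻¹ * kG * m * D.z * (m⁻¹ * kG * m)⁻¹ = D.z
        calc m⁻¹ * kG * m * D.z * (m⁻¹ * kG * m)⁻¹ = m⁻¹ * (kG * (m * D.z * m⁻¹) * kG⁻¹) * m := by group
          _ = D.z := by rw [hma, hfixa, ← hma]; group)
    change m⁻¹ * kG * m ∈ D.E t at hconj
    have h2 := ht.E_sq hone hconj
    rw [show m⁻¹ * kG * m * (m⁻¹ * kG * m) = m⁻¹ * (kG * kG) * m by group] at h2
    have h2' : kG * kG = 1 := by
      calc kG * kG = m * (m⁻¹ * (kG * kG) * m) * m⁻¹ := by group
        _ = 1 := by rw [h2]; group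
    apply hk1
    calc kG = kG ^ 3 * (kG * kG)⁻¹ := by simp only [pow_succ, pow_zero, one_mul]; group
      _ = 1 := by rw [hk3, h2']; group
  -- the normaliser of `⟨k⟩` in `(normalizer (D.E t : Set G))` covers the image
  haveI : π.ker.Normal := inferInstance
  let S3 : Sylow 3 π.ker := (IsPGroup.of_card (p := 3) (n := 1)
    (by rw [Nat.card_zpowers, hk, pow_one]) : IsPGroup 3 (zpowers k)).toSylow (by
    have h := (zpowers k).card_mul_index
    rw [Nat.card_zpowers, hk, hK48] at h
    rw [show (zpowers k).index = 16 by omega]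
    norm_num)
  have hS3map : (S3 : Subgroup π.ker).map π.ker.subtype = zpowers (k : (normalizer (D.E t : Set G))) := by
    show (zpowers k).map _ = _
    rw [MonoidHom.map_zpowers]; rfl
  have hfr := Sylow.normalizer_sup_eq_top S3
  rw [hS3map] at hfr
  -- the centraliser of `k`
  set Cn : Subgroup (normalizer (D.E t : Set G)) := centralizer ({(k : (normalizer (D.E t : Set G)))} : Set (normalizer (D.E t : Set G))) with hCn
  have hNk : ∀ n : (normalizer (D.E t : Set G)), n ∈ normalizer (zpowers (k : (normalizer (D.E t : Set G))) : Set (normalizer (D.E t : Set G))) →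
      n * (k : (normalizer (D.E t : Set G))) * n⁻¹ = (k : (normalizer (D.E t : Set G))) ∨ n * (k : (normalizer (D.E t : Set G))) * n⁻¹ = (k : (normalizer (D.E t : Set G)))⁻¹ := by
    intro n hn
    have hm := (mem_normalizer_iff.1 hn (k : (normalizer (D.E t : Set G)))).1 (mem_zpowers _)
    have hko : orderOf (k : (normalizer (D.E t : Set G))) = 3 := by rw [Subgroup.orderOf_coe, hk]
    obtain ⟨j, hj⟩ := (mem_powers_iff_mem_zpowers.2 hm : _ ∈ Submonoid.powers (k : (normalizer (D.E t : Set G))))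
    simp only at hj
    rw [← hj]
    rw [pow_eq_pow_mod _ (hko ▸ pow_orderOf_eq_one (k : (normalizer (D.E t : Set G))))]
    have h3 : j % 3 < 3 := Nat.mod_lt _ (by norm_num)
    interval_cases hj3 : j % 3
    · exfalso
      rw [pow_eq_pow_mod j (hko ▸ pow_orderOf_eq_one (k : (normalizer (D.E t : Set G)))), hj3, pow_zero, eq_comm, conj_eq_one_iff] at hj
      exact hk1 (congrArg Subtype.val hj)
    · exact Or.inl (pow_one _)
    · right
      exact eq_inv_of_mul_eq_one_left (by
        rw [← pow_succ]; exact orderOf_dvd_iff_pow_eq_one.1 (by rw [hko]))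
  -- the sign of a normalising element
  have hcover : ∀ σ, σ ∈ alternatingGroup (Fin 5) → ∃ n : (normalizer (D.E t : Set G)), n ∈ Cn ∧ π n = σ := by
    have hsq : ∀ σ, σ ∈ alternatingGroup (Fin 5) → ∃ n : (normalizer (D.E t : Set G)), n ∈ normalizer (zpowers (k : (normalizer (D.E t : Set G))) : Set (normalizer (D.E t : Set G))) ∧ π n = σ := by
      intro σ hσ
      obtain ⟨n, rfl⟩ : σ ∈ π.range := hrange.ge hσ
      have hn : n ∈ normalizer (zpowers (k : (normalizer (D.E t : Set G))) : Set (normalizer (D.E t : Set G))) ⊔ π.ker := hfr.ge (mem_top n)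
      rw [← SetLike.mem_coe, Subgroup.mul_normal] at hn
      obtain ⟨x, hx, y, hy, rfl⟩ := hn
      exact ⟨x, hx, by rw [map_mul, show π y = 1 from hy, mul_one]⟩
    intro σ hσ
    -- every element of the alternating group is a product of two squares
    obtain ⟨u, v, huv⟩ := (show ∀ σ : alternatingGroup (Fin 5), ∃ u v : alternatingGroup (Fin 5),
      σ = u * u * (v * v) by decide +kernel) ⟨σ, hσ⟩
    obtain ⟨x, hx, hxu⟩ := hsq u u.2
    obtain ⟨y, hy, hyv⟩ := hsq v v.2
    have hsqC : ∀ x : (normalizer (D.E t : Set G)), x ∈ normalizer (zpowers (k : (normalizer (D.E t : Set G))) : Set (normalizer (D.E t : Set G))) → x * x ∈ Cn := by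
      intro x hx
      refine mem_centralizer_singleton_iff.2 ?_
      rcases hNk x hx with h | h
      · have h' := mul_inv_eq_iff_eq_mul.1 h
        calc x * x * (k : (normalizer (D.E t : Set G))) = x * ((k : (normalizer (D.E t : Set G))) * x) := by rw [mul_assoc, h']
          _ = (k : (normalizer (D.E t : Set G))) * (x * x) := by rw [← mul_assoc, h', mul_assoc]
      · have h2 : x * (k : (normalizer (D.E t : Set G)))⁻¹ * x⁻¹ = (k : (normalizer (D.E t : Set G))) := by
          rw [show x * (k : (normalizer (D.E t : Set G)))⁻¹ * x⁻¹ = (x * (k : (normalizer (D.E t : Set G))) * x⁻¹)⁻¹ by group, h, inv_inv]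
        calc x * x * (k : (normalizer (D.E t : Set G))) = x * (x * (k : (normalizer (D.E t : Set G))) * x⁻¹) * x⁻¹ * (x * x) := by group
          _ = x * (k : (normalizer (D.E t : Set G)))⁻¹ * x⁻¹ * (x * x) := by rw [h]
          _ = _ := by rw [h2]
    refine ⟨x * x * (y * y), mul_mem (hsqC x hx) (hsqC y hy), ?_⟩
    rw [map_mul, map_mul, map_mul, hxu, hyv]
    exact (congrArg Subtype.val huv).symm
  -- `E ∩ C(k)` is trivial, so the kernel on the centraliser is `⟨k⟩`
  have hkerC : ∀ n ∈ Cn, π n = 1 → n ∈ zpowers (k : (normalizer (D.E t : Set G))) := by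
    intro n hn h1
    -- the centraliser of `k` in the kernel is its own Sylow subgroup
    set K' : Subgroup π.ker := centralizer ({k} : Set π.ker)
    have hK' : (⟨n, h1⟩ : π.ker) ∈ K' := mem_centralizer_singleton_iff.2
      (Subtype.ext (mem_centralizer_singleton_iff.1 hn))
    have hdisj : ∀ x ∈ K', ((x : (normalizer (D.E t : Set G))) : G) ∈ D.E t → x = 1 := fun x hx hxE => by
      have hc : ((x : (normalizer (D.E t : Set G))) : G) * kG = kG * ((x : (normalizer (D.E t : Set G))) : G) :=
        congrArg (fun w : π.ker => ((w : (normalizer (D.E t : Set G))) : G)) (mem_centralizer_singleton_iff.1 hx)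
      exact Subtype.ext (Subtype.ext (hkfpf _ hxE (mul_inv_eq_iff_eq_mul.2 hc.symm)))
    set EK : Subgroup π.ker := (D.E t).comap ((normalizer (D.E t : Set G)).subtype.comp π.ker.subtype)
    haveI : EK.Normal := ⟨fun x hx g => (mem_normalizer_iff.1 (g : (normalizer (D.E t : Set G))).2 _).1 hx⟩
    have hEK : EK.index ∣ 3 := by
      have hc : Nat.card EK = 16 := by
        rw [← ht.card_E]
        refine Nat.card_congr
          { toFun := fun x => ⟨((x.1 : (normalizer (D.E t : Set G))) : G), x.2⟩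
            invFun := fun v => ⟨⟨⟨v, le_normalizer v.2⟩, ?_⟩, v.2⟩
            left_inv := fun x => rfl
            right_inv := fun v => rfl }
        refine Equiv.ext fun i => ?_
        obtain ⟨a, ha, ha1⟩ : ∃ a ∈ L i, a ≠ 1 := by
          by_contra h
          push Not at h
          have hb : L i = ⊥ := (Subgroup.eq_bot_iff_forall _).2 h
          have := hL4 i
          rw [hb, card_bot] at this
          norm_num at this
        refine hdis _ _ a ?_ ha ha1
        have := (hmap ⟨v, le_normalizer v.2⟩ i a).1 ha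
        simp only at this
        rwa [ht.E_comm (v : G) v.2 a (hLE i ha), mul_inv_cancel_right] at this
      have := EK.card_mul_index
      rw [hc, hK48] at this
      exact ⟨1, by omega⟩
    have hK3 : Nat.card K' ∣ 3 := by
      have hinj : Function.Injective ((QuotientGroup.mk' EK).comp K'.subtype) := by
        rw [← MonoidHom.ker_eq_bot_iff, eq_bot_iff]
        intro x hx
        exact mem_bot.2 (Subtype.ext (hdisj x x.2 ((QuotientGroup.eq_one_iff (N := EK) _).1 hx)))
      exact (card_dvd_of_injective _ hinj).trans hEK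
    have hle : zpowers k ≤ K' := zpowers_le.2 (mem_centralizer_singleton_iff.2 rfl)
    have := Subgroup.eq_of_le_of_card_ge hle (by
      rw [Nat.card_zpowers, hk]; exact Nat.le_of_dvd (by norm_num) hK3)
    obtain ⟨j, hj⟩ := mem_zpowers_iff.1 (this.ge hK')
    exact ⟨j, congrArg Subtype.val hj⟩
  let πC : Cn →* Equiv.Perm (Fin 5) := π.comp Cn.subtype
  have hkC : (k : (normalizer (D.E t : Set G))) ∈ Cn := mem_centralizer_singleton_iff.2 rfl
  have hCn180 : Nat.card Cn = 180 := by
    have hr' : πC.range = alternatingGroup (Fin 5) := by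
      refine le_antisymm ?_ fun σ hσ => ?_
      · rintro _ ⟨x, rfl⟩; exact hrange.le ⟨_, rfl⟩
      · obtain ⟨n, hn, rfl⟩ := hcover σ hσ; exact ⟨⟨n, hn⟩, rfl⟩
    have hk' : πC.ker = (zpowers (k : (normalizer (D.E t : Set G)))).subgroupOf Cn := by
      ext x
      refine ⟨fun h => hkerC x x.2 h, fun h => ?_⟩
      obtain ⟨j, hj⟩ := mem_zpowers_iff.1 h
      show π (x : (normalizer (D.E t : Set G))) = 1
      rw [show (x : (normalizer (D.E t : Set G))) = (k : (normalizer (D.E t : Set G))) ^ j from hj.symm, map_zpow, show π (k : (normalizer (D.E t : Set G))) = 1 from k.2, one_zpow]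
    have h := πC.ker.card_mul_index
    rw [index_ker, hr', hk', Nat.card_congr (subgroupOfEquivOfLe (zpowers_le.2 hkC)).toEquiv, Nat.card_zpowers,
      Subgroup.orderOf_coe, hk, Nat.card_eq_fintype_card,
      show Fintype.card (alternatingGroup (Fin 5)) = 60 from rfl] at h
    omega
  -- `k` is not in the derived group
  set kC : Cn := ⟨(k : (normalizer (D.E t : Set G))), hkC⟩
  have hkcen : kC ∈ center Cn := mem_center_iff.2 fun x => Subtype.ext (mem_centralizer_singleton_iff.1 x.2)
  have hkC3 : orderOf kC = 3 := by rw [Subgroup.orderOf_mk, Subgroup.orderOf_coe, hk]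
  obtain ⟨S⟩ : Nonempty (Sylow 3 Cn) := inferInstance
  have hS9 : Nat.card (S : Subgroup Cn) = 9 := by
    rw [S.card_eq_multiplicity, hCn180, show (180 : ℕ) = 3 ^ 2 * 20 from rfl,
      Nat.factorization_mul (by norm_num) (by norm_num), Nat.factorization_pow]
    simp [Nat.prime_three.factorization_self, Nat.factorization_eq_zero_of_not_dvd (show ¬ 3 ∣ 20 by norm_num)]
  have hkS : kC ∈ (S : Subgroup Cn) := by
    haveI : (zpowers kC).Normal := ⟨fun x hx g => by
      obtain ⟨j, rfl⟩ := mem_zpowers_iff.1 hx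
      rw [mem_center_iff.1 (zpow_mem hkcen j) g, mul_inv_cancel_right]
      exact zpow_mem (mem_zpowers _) j⟩
    exact (IsPGroup.of_card (p := 3) (n := 1) (by rw [Nat.card_zpowers, hkC3, pow_one])).le_sylow_of_normal S
      (mem_zpowers kC)
  have hkB : kC ∉ commutator Cn := by
    refine not_mem_commutator (S : Subgroup Cn) ?_ hkS hkcen ?_
    · intro x hx y hy
      exact congrArg Subtype.val (IsPGroup.commutative_of_card_eq_prime_sq (G := (S : Subgroup Cn)) (p := 3)
        (by rw [hS9]; norm_num) ⟨x, hx⟩ ⟨y, hy⟩)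
    · intro h1
      have hi : (S : Subgroup Cn).index = 20 := by
        have := (S : Subgroup Cn).card_mul_index
        rw [hS9, hCn180] at this; omega
      rw [hi] at h1
      have := orderOf_dvd_of_pow_eq_one h1
      rw [hkC3] at this
      norm_num at this
  -- `B`
  set Bc : Subgroup Cn := commutator Cn with hBc
  let ι : Cn →* G := (normalizer (D.E t : Set G)).subtype.comp Cn.subtype
  have hι : Function.Injective ι := fun x y e => Subtype.ext (Subtype.ext e)
  have hdisjB : ∀ x ∈ Bc, πC x = 1 → x = 1 := by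
    intro x hx h1
    obtain ⟨j, hj⟩ := mem_zpowers_iff.1 (hkerC x x.2 h1)
    have hxk : x = kC ^ j := Subtype.ext (by rw [Subgroup.coe_zpow]; exact hj.symm)
    have hj3 : kC ^ j = kC ^ (j % 3) := by
      conv_lhs => rw [← Int.emod_add_mul_ediv j 3, zpow_add, zpow_mul,
        show kC ^ (3 : ℤ) = 1 from orderOf_dvd_iff_zpow_eq_one.1 (by rw [hkC3]; norm_num), one_zpow, mul_one]
    have h0 := Int.emod_nonneg j (show (3 : ℤ) ≠ 0 by norm_num)
    have h3 := Int.emod_lt_of_pos j (show (0 : ℤ) < 3 by norm_num)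
    rw [hxk, hj3] at hx ⊢
    rcases (show j % 3 = 0 ∨ j % 3 = 1 ∨ j % 3 = 2 by omega) with e | e | e <;> rw [e] at hx ⊢
    · exact zpow_zero _
    · exact absurd (by simpa using hx) hkB
    · exfalso
      apply hkB
      have : kC = (kC ^ (2 : ℤ))⁻¹ := eq_inv_of_mul_eq_one_left (by
        rw [← zpow_one_add]; exact orderOf_dvd_iff_zpow_eq_one.1 (by rw [hkC3]; norm_num))
      rw [this]; exact inv_mem hx
  have hBmap : Bc.map πC = alternatingGroup (Fin 5) := by
    rw [hBc, map_commutator_eq]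
    have hr' : πC.range = alternatingGroup (Fin 5) := by
      refine le_antisymm ?_ fun σ hσ => ?_
      · rintro _ ⟨x, rfl⟩; exact hrange.le ⟨_, rfl⟩
      · obtain ⟨n, hn, rfl⟩ := hcover σ hσ; exact ⟨⟨n, hn⟩, rfl⟩
    rw [hr']
    exact alternatingGroup_commutator_self
  have hBker : (πC.comp Bc.subtype).ker = ⊥ := (Subgroup.eq_bot_iff_forall _).2 fun x hx =>
    Subtype.ext (hdisjB x x.2 hx)
  have hB60 : Nat.card Bc = 60 := by
    have h : Nat.card (πC.comp Bc.subtype).range = 60 := by
      rw [MonoidHom.range_comp, Subgroup.range_subtype, hBmap, Nat.card_eq_fintype_card]; rfl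
    rw [← h]
    exact Nat.card_congr (MonoidHom.ofInjective ((MonoidHom.ker_eq_bot_iff _).1 hBker)).toEquiv
  have hmemB : ∀ b : (normalizer (D.E t : Set G)), (b : G) ∈ Bc.map ι →
      ∃ x ∈ Bc, (x : (normalizer (D.E t : Set G))) = b := by
    rintro b ⟨x, hx, hxb⟩
    exact ⟨x, hx, Subtype.ext hxb⟩
  refine ⟨{ t := t, outer := ht, line := L, π := π, k := kG, B := Bc.map ι,
            line_le := hLE, line_card := hL4, line_cover := hcov, line_disj := hdis, line_map := hmap,
            k3 := hk3, k_mem := (k : (normalizer (D.E t : Set G))).2, k_lines := ?_, k_fpf := hkfpf,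
            B_le := ?_, B_comm := ?_, B_disj := ?_, B_card := ?_, B_image := ?_, B_faith := ?_, B_even := ?_ },
    rfl⟩
  · intro i a ha
    have := (hmap (k : (normalizer (D.E t : Set G))) i a).1 ha
    rwa [show π (k : (normalizer (D.E t : Set G))) = 1 from k.2] at this
  · rintro _ ⟨x, -, rfl⟩
    exact (x : (normalizer (D.E t : Set G))).2
  · rintro _ ⟨x, -, rfl⟩
    exact congrArg (fun w : (normalizer (D.E t : Set G)) => (w : G)) (mem_centralizer_singleton_iff.1 x.2)
  · rintro _ ⟨x, hx, rfl⟩ hb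
    obtain ⟨j, hj⟩ := mem_zpowers_iff.1 hb
    rw [hdisjB x hx ?_, map_one]
    have hxk : (x : (normalizer (D.E t : Set G))) = (k : (normalizer (D.E t : Set G))) ^ j :=
      Subtype.ext (by rw [Subgroup.coe_zpow]; exact hj.symm)
    show π (x : (normalizer (D.E t : Set G))) = 1
    rw [hxk, map_zpow, show π (k : (normalizer (D.E t : Set G))) = 1 from k.2, one_zpow]
  · rw [card_map_of_injective hι, hB60]
  · intro σ hσ
    obtain ⟨x, hx, rfl⟩ := hBmap.ge (Equiv.Perm.mem_alternatingGroup.2 hσ)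
    exact ⟨x, ⟨x, hx, rfl⟩, rfl⟩
  · intro b hb h1
    obtain ⟨x, hx, rfl⟩ := hmemB b hb
    rw [hdisjB x hx h1]; rfl
  · intro b hb
    exact Equiv.Perm.mem_alternatingGroup.1 (hrange.le ⟨b, rfl⟩)

end Data

end Cfsg.Agent.JThreeType
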