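import Cfsg.Agent.Lib.JThreeType.Classes

/-!
# Groups of type `J₃`: an involution of `C(z)` outside `Q`

* `Data.exists_outer`
-/

set_option autoImplicit false
set_option linter.unusedSectionVars false
set_option linter.style.haveILetI false

namespace Cfsg.Agent.JThreeType

open Cfsg Subgroup OrderJTwo
open scoped commutatorElement Pointwise

variable {G : Type*} [Group G] [Finite G]

namespace Data

theorem index_choice : ∀ σ : A5, σ * σ = 1 → σ ≠ 1 → ∀ i, σ.1 i = i → ∃ j l : Fin 5,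
    j ≠ i ∧ l ≠ i ∧ σ.1 l ≠ j ∧ σ.1 l ≠ l ∧ σ.1 l ≠ σ.1 j := by decide +kernel

variable (D : Data G)

/-- An element inducing an involution on the five pairs moves some product of two of them. -/
theorem exists_moved {u y : G} (hu : u ∈ invSet D.Q D.z) (hy : y * D.z = D.z * y) (hyu : y * u = u * y)
    (hyy : y * y = u) : ∃ a ∈ D.Q, a * u = u * a ∧ a * y * a⁻¹ * y⁻¹ ≠ 1 ∧ a * y * a⁻¹ * y⁻¹ ≠ D.z := by
  obtain ⟨i, hi⟩ := D.u_cover u hu
  set σ := D.psi ⟨y, D.mem_C.2 hy⟩ with hσ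
  have hyQ : y ∉ D.Q := fun h => by
    rcases D.hQ.sq y h with e | e <;> rw [hyy] at e
    exacts [hu.2.2.1 e, hu.2.2.2 e]
  have hσ2 : σ * σ = 1 := by
    rw [hσ, ← map_mul, D.psi_ker]
    show y * y ∈ D.Q
    rw [hyy]; exact hu.1
  have hσ1 : σ ≠ 1 := fun h => hyQ ((D.psi_ker _).1 h)
  have hσi : σ.1 i = i := by
    rw [hσ, D.psi_val]
    refine D.phi_of_pair _ ?_
    show y * D.u i * y⁻¹ = _ ∨ _
    rcases hi with rfl | rfl
    · exact Or.inl (mul_inv_eq_iff_eq_mul.2 hyu)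
    · exact Or.inl (mul_right_cancel ((D.conj_mul_z hy _).symm.trans (mul_inv_eq_iff_eq_mul.2 hyu)))
  obtain ⟨j, l, hji, hli, h1, h2, h3⟩ := index_choice σ hσ2 hσ1 i hσi
  have hc : ∀ m, m ≠ i → D.u m * u = u * D.u m * D.z := by
    intro m hm
    rcases hi with rfl | rfl
    · exact D.u_anti hm
    · rw [← mul_assoc (D.u m), D.u_anti hm, mul_assoc (D.u i) D.z (D.u m), ← D.u_comm, ← mul_assoc]
  refine ⟨D.u j * D.u l, mul_mem (D.u_mem j).1 (D.u_mem l).1, ?_, ?_⟩
  · rw [mul_assoc, hc l hli, ← mul_assoc, ← mul_assoc, hc j hji,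
      mul_assoc (u * D.u j) D.z, ← D.u_comm, mul_assoc (u * D.u j) (D.u l * D.z), mul_assoc (D.u l),
      D.z2, mul_one, mul_assoc]
  have key : ¬ (y * (D.u j * D.u l) * y⁻¹ = D.u j * D.u l ∨ y * (D.u j * D.u l) * y⁻¹ = D.u j * D.u l * D.z) := by
    intro h
    have hj := D.act ⟨y, D.mem_C.2 hy⟩ j
    have hl := D.act ⟨y, D.mem_C.2 hy⟩ l
    simp only [← D.psi_val, ← hσ] at hj hl
    set p := D.u (σ.1 j)
    set r := D.u (σ.1 l)
    have hjr : D.u j * r = r * D.u j * D.z := D.u_anti (Ne.symm h1)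
    have hlr : D.u l * r = r * D.u l * D.z := D.u_anti (Ne.symm h2)
    have hpr : p * r = r * p * D.z := D.u_anti (Ne.symm h3)
    have hjl : D.u j * D.u l * r = r * (D.u j * D.u l) := by
      rw [mul_assoc, hlr, ← mul_assoc, ← mul_assoc, hjr, mul_assoc (r * D.u j) D.z, ← D.u_comm,
        mul_assoc (r * D.u j) (D.u l * D.z), mul_assoc (D.u l), D.z2, mul_one, mul_assoc]
    have hz : ∀ w, w = 1 ∨ w = D.z → ∀ v ∈ D.Q, w * v = v * w := by
      rintro w (rfl | rfl) v hv
      · simp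
      · exact (D.hQ.zcomm v hv).symm
    obtain ⟨w, hw, e⟩ : ∃ w, (w = 1 ∨ w = D.z) ∧ D.u j * D.u l = p * r * w := by
      rw [← conj_mul] at h
      have hzr : D.z * r = r * D.z := hz D.z (Or.inr rfl) r (D.u_mem _).1
      have hz2 : ∀ x, x * D.z * D.z = x := fun x => by rw [mul_assoc, D.z2, mul_one]
      have hp : ∀ p' r', (p' = p ∨ p' = p * D.z) → (r' = r ∨ r' = r * D.z) →
          p' * r' = p * r ∨ p' * r' = p * r * D.z := by
        rintro p' r' (rfl | rfl) (rfl | rfl)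
        · exact Or.inl rfl
        · exact Or.inr (mul_assoc _ _ _).symm
        · exact Or.inr (by rw [mul_assoc, hzr, ← mul_assoc])
        · exact Or.inl (by rw [← mul_assoc, mul_assoc p, hzr, ← mul_assoc, hz2])
      rcases hp _ _ hj hl with a | a <;> rw [a] at h <;> rcases h with h | h
      · exact ⟨1, Or.inl rfl, by rw [mul_one]; exact h.symm⟩
      · exact ⟨D.z, Or.inr rfl, by rw [h, hz2]⟩
      · exact ⟨D.z, Or.inr rfl, h.symm⟩
      · exact ⟨1, Or.inl rfl, by rw [mul_one]; exact (mul_right_cancel h).symm⟩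
    rw [e] at hjl
    have h' : p * r * (r * w) = r * (p * r * w) := by rw [← hz w hw r (D.u_mem _).1, ← mul_assoc, hjl]
    rw [mul_assoc p r, ← mul_assoc r r, D.u_sq, one_mul] at h'
    have hpp : p * r * r = r * p * r := by
      refine mul_right_cancel (b := w) ?_
      rw [mul_assoc p r r, D.u_sq, mul_one, h']
      simp only [mul_assoc]
    rw [hpr] at hpp
    have h4 : r * p * D.z * r = r * p * r * 1 := by rw [mul_one]; exact hpp
    rw [mul_assoc (r * p), ← hz D.z (Or.inr rfl) r (D.u_mem _).1 |>.symm, ← mul_assoc] at h4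
    exact D.hQ.zne (mul_left_cancel h4)
  have hrel : ∀ w, D.u j * D.u l * y * (D.u j * D.u l)⁻¹ * y⁻¹ = w →
      y * (D.u j * D.u l) * y⁻¹ = w⁻¹ * (D.u j * D.u l) := by rintro w rfl; group
  refine ⟨fun h => key (Or.inl ?_), fun h => key (Or.inr ?_)⟩
  · rw [hrel _ h, inv_one, one_mul]
  · rw [hrel _ h, D.zinv, ← D.hQ.zcomm _ (mul_mem (D.u_mem j).1 (D.u_mem l).1)]

theorem card_cent_ge {u : G} (hu : u ∈ D.Q) :
    16 ≤ Nat.card (D.Q ⊓ centralizer ({u} : Set G) : Subgroup G) := by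
  have := card_le_two_mul D.Q (D.Q ⊓ centralizer ({u} : Set G)) inf_le_left fun a ha b hb han hbn => by
    have han' : a * u ≠ u * a := fun e => han ⟨ha, mem_centralizer_singleton_iff.2 e⟩
    have hbn' : b * u ≠ u * b := fun e => hbn ⟨hb, mem_centralizer_singleton_iff.2 e⟩
    refine ⟨mul_mem ha hb, mem_centralizer_singleton_iff.2 ?_⟩
    have h1 := (D.hQ.comm a ha u hu).resolve_left han'
    have h2 := (D.hQ.comm b hb u hu).resolve_left hbn'
    calc a * b * u = a * (u * b * D.z) := by rw [mul_assoc, h2]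
      _ = (a * u) * b * D.z := by group
      _ = u * a * (D.z * b) * D.z := by rw [h1]; group
      _ = u * a * b * (D.z * D.z) := by rw [← D.hQ.zcomm b hb]; group
      _ = u * (a * b) := by rw [D.z2, mul_one, mul_assoc]
  rw [D.hQ.card] at this
  omega

/-- An element of `Q` commuting with `u` with square `z`. -/
theorem exists_root {u : G} (hu : u ∈ invSet D.Q D.z) : ∃ q ∈ D.Q, q * u = u * q ∧ q * q = D.z := by
  by_contra h
  push Not at h
  have hle : ((D.Q ⊓ centralizer ({u} : Set G) : Subgroup G) : Set G) ⊆ four D.hQ hu := by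
    rintro q ⟨hq, hqu⟩
    have hqu' := mem_centralizer_singleton_iff.1 hqu
    show q = 1 ∨ q = D.z ∨ q = u ∨ q = u * D.z
    by_cases h1 : q = 1; · exact Or.inl h1
    by_cases h2 : q = D.z; · exact Or.inr (Or.inl h2)
    have hsq : q * q = 1 := (D.hQ.sq q hq).resolve_right (h q hq hqu')
    exact Or.inr (Or.inr (D.comm2 u hu q ⟨hq, hsq, h1, h2⟩ hqu'.symm))
  have := Subgroup.card_le_of_le hle
  rw [card_four] at this
  have := D.card_cent_ge hu.1
  omega

variable (hone : ∀ x y : G, orderOf x = 2 → orderOf y = 2 → IsConj x y)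
include hone

/-- An involution of `C(z)` outside `Q`. -/
theorem exists_outer : ∃ t, D.Outer t := by
  obtain ⟨g, hgQ, hgne⟩ := D.wc
  set u := g * D.z * g⁻¹ with hudef
  have hu : u ∈ invSet D.Q D.z := ⟨hgQ, by rw [conj_mul, D.z2, mul_one, mul_inv_cancel],
    fun h => D.hQ.zne (conj_eq_one_iff.1 h), hgne⟩
  by_contra hno
  push Not at hno
  -- the transported statement at `u`
  set e : MulAut G := MulAut.conj g
  have huz : D.z * u = u * D.z := (D.hQ.zcomm u hu.1).symm
  have hz' : g⁻¹ * D.z * g ∈ invSet D.Q D.z := by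
    have hc : g⁻¹ * D.z * g * D.z = D.z * (g⁻¹ * D.z * g) := by
      calc g⁻¹ * D.z * g * D.z = g⁻¹ * (D.z * u) * g := by rw [hudef]; group
        _ = g⁻¹ * (u * D.z) * g := by rw [huz]
        _ = D.z * (g⁻¹ * D.z * g) := by rw [hudef]; group
    rcases D.involution_cases hc (by
      calc g⁻¹ * D.z * g * (g⁻¹ * D.z * g) = g⁻¹ * (D.z * D.z) * g := by group
        _ = 1 := by rw [D.z2]; group) (fun h => D.hQ.zne (by
      calc D.z = g * (g⁻¹ * D.z * g) * g⁻¹ := by group
        _ = 1 := by rw [h]; group)) with h | h | h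
    · exfalso; apply hgne
      calc u = g * (g⁻¹ * D.z * g) * g⁻¹ := by rw [hudef, h]
        _ = D.z := by group
    · exact h
    · exact absurd h (hno _)
  have hconj : ∀ x y : G, g * x * g⁻¹ * (g * y * g⁻¹) = g * (x * y) * g⁻¹ := fun x y => by group
  obtain ⟨b, hbQ, hbu, hbb⟩ := D.exists_root hu
  have hbz : b * D.z = D.z * b := D.hQ.zcomm b hbQ
  set b' := g⁻¹ * b * g with hb'
  have hcomm' : ∀ x y : G, x * (g * y * g⁻¹) = g * y * g⁻¹ * x → g⁻¹ * x * g * y = y * (g⁻¹ * x * g) := by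
    intro x y h
    calc g⁻¹ * x * g * y = g⁻¹ * (x * (g * y * g⁻¹)) * g := by group
      _ = g⁻¹ * (g * y * g⁻¹ * x) * g := by rw [h]
      _ = y * (g⁻¹ * x * g) := by group
  obtain ⟨a', ha'Q, ha'z, hne1, hne2⟩ := D.exists_moved (u := g⁻¹ * D.z * g) (y := b') hz'
    (hcomm' b D.z hbu) (by
      calc b' * (g⁻¹ * D.z * g) = g⁻¹ * (b * D.z) * g := by rw [hb']; group
        _ = g⁻¹ * (D.z * b) * g := by rw [hbz]
        _ = _ := by rw [hb']; group) (by
      calc b' * b' = g⁻¹ * (b * b) * g := by rw [hb']; group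
        _ = _ := by rw [hbb])
  -- the element `y`
  set y := g * a' * g⁻¹ with hy
  have hyu : y * u = u * y := by rw [hy, hudef, hconj, hconj, D.hQ.zcomm a' ha'Q]
  have hyz : y * D.z = D.z * y := by
    calc y * D.z = g * (a' * (g⁻¹ * D.z * g)) * g⁻¹ := by rw [hy]; group
      _ = g * ((g⁻¹ * D.z * g) * a') * g⁻¹ := by rw [ha'z]
      _ = D.z * y := by rw [hy]; group
  have hyy : y * y = 1 ∨ y * y = u := by
    rcases D.hQ.sq a' ha'Q with h | h
    · left; rw [hy, hconj, h]; group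
    · right; rw [hy, hconj, h]
  have hyy' : y * y = u := by
    refine hyy.resolve_left fun h => ?_
    by_cases h1 : y = 1
    · refine hne1 ?_
      rw [show a' = 1 from conj_eq_one_iff.1 h1]; group
    rcases D.involution_cases hyz h h1 with e' | e' | e'
    · apply hne1
      have : a' = g⁻¹ * D.z * g := by rw [← e', hy]; group
      rw [this, show g⁻¹ * D.z * g * b' * (g⁻¹ * D.z * g)⁻¹ * b'⁻¹ = g⁻¹ * (D.z * b * D.z⁻¹ * b⁻¹) * g by
        rw [hb']; group, ← hbz]
      group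
    · rcases D.comm2 u hu y e' hyu.symm with e'' | e''
      · apply hne1
        have : a' = D.z := by
          calc a' = g⁻¹ * y * g := by rw [hy]; group
            _ = D.z := by rw [e'', hudef]; group
        have c1 : b' * D.z = D.z * b' := hcomm' b D.z hbu
        rw [this, ← c1]; group
      · apply hne1
        have : a' = D.z * (g⁻¹ * D.z * g) := by
          calc a' = g⁻¹ * y * g := by rw [hy]; group
            _ = _ := by rw [e'', hudef]; group
        rw [this]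
        have c1 : b' * D.z = D.z * b' := hcomm' b D.z hbu
        have c2 : b' * (g⁻¹ * D.z * g) = g⁻¹ * D.z * g * b' := by
          calc b' * (g⁻¹ * D.z * g) = g⁻¹ * (b * D.z) * g := by rw [hb']; group
            _ = g⁻¹ * (D.z * b) * g := by rw [hbz]
            _ = _ := by rw [hb']; group
        rw [show D.z * (g⁻¹ * D.z * g) * b' * (D.z * (g⁻¹ * D.z * g))⁻¹ * b'⁻¹ =
          D.z * (g⁻¹ * D.z * g * b' * (g⁻¹ * D.z * g)⁻¹) * D.z⁻¹ * b'⁻¹ by group, ← c2, mul_inv_cancel_right,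
          ← c1]
        group
    · exact absurd e' (hno y)
  obtain ⟨a, haQ, hau, hn1, hn2⟩ := D.exists_moved hu hyz hyu hyy'
  -- commutators of `y` with `C_Q(u)`
  have hfour : ∀ q ∈ D.Q, q * u = u * q →
      q * y * q⁻¹ * y⁻¹ = 1 ∨ q * y * q⁻¹ * y⁻¹ = D.z ∨ q * y * q⁻¹ * y⁻¹ = u ∨ q * y * q⁻¹ * y⁻¹ = u * D.z := by
    intro q hq hqu
    set w := q * y * q⁻¹ * y⁻¹ with hw
    have hwQ : w ∈ D.Q := by
      have := mul_mem hq (D.norm y hyz q⁻¹ (inv_mem hq))
      rwa [hw, show q * y * q⁻¹ * y⁻¹ = q * (y * q⁻¹ * y⁻¹) by group]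
    have hwQ' : g⁻¹ * w * g ∈ D.Q := by
      have h := mul_mem (D.norm (g⁻¹ * q * g) (hcomm' q D.z hqu) a' ha'Q) (inv_mem ha'Q)
      rwa [show g⁻¹ * q * g * a' * (g⁻¹ * q * g)⁻¹ * a'⁻¹ = g⁻¹ * w * g by rw [hw, hy]; group] at h
    have hwu : w * u = u * w := by
      have hqu' : q⁻¹ * u = u * q⁻¹ := (show Commute q u from hqu).inv_left.eq
      have hyu' : y⁻¹ * u = u * y⁻¹ := (show Commute y u from hyu).inv_left.eq
      calc w * u = q * y * q⁻¹ * (y⁻¹ * u) := by rw [hw]; group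
        _ = q * y * (q⁻¹ * u) * y⁻¹ := by rw [hyu']; group
        _ = q * (y * u) * q⁻¹ * y⁻¹ := by rw [hqu']; group
        _ = (q * u) * y * q⁻¹ * y⁻¹ := by rw [hyu]; group
        _ = u * w := by rw [hqu, hw]; group
    by_cases h1 : w = 1; · exact Or.inl h1
    by_cases h2 : w = D.z; · exact Or.inr (Or.inl h2)
    have hww : w * w = 1 := by
      rcases D.hQ.sq w hwQ with h | h
      · exact h
      rcases D.hQ.sq _ hwQ' with h' | h'
      · calc w * w = g * (g⁻¹ * w * g * (g⁻¹ * w * g)) * g⁻¹ := by group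
          _ = 1 := by rw [h']; group
      · exfalso; apply hgne
        calc u = g * (g⁻¹ * w * g * (g⁻¹ * w * g)) * g⁻¹ := by rw [h', hudef]
          _ = w * w := by group
          _ = D.z := h
    rcases D.comm2 u hu w ⟨hwQ, hww, h1, h2⟩ hwu.symm with e' | e'
    · exact Or.inr (Or.inr (Or.inl e'))
    · exact Or.inr (Or.inr (Or.inr e'))
  -- one of them is `u * z`
  obtain ⟨q, hq, hqu, hqy⟩ : ∃ q ∈ D.Q, q * u = u * q ∧ q * y * q⁻¹ * y⁻¹ = u * D.z := by
    rcases hfour a haQ hau with e1 | e1 | e1 | e1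
    · exact absurd e1 hn1
    · exact absurd e1 hn2
    · rcases hfour b hbQ hbu with e2 | e2 | e2 | e2
      · exfalso; apply hne1
        rw [show a' * b' * a'⁻¹ * b'⁻¹ = g⁻¹ * (b * y * b⁻¹ * y⁻¹)⁻¹ * g by rw [hb', hy]; group, e2]; group
      · refine ⟨a * b, mul_mem haQ hbQ, by rw [mul_assoc, hbu, ← mul_assoc, hau, mul_assoc], ?_⟩
        rw [show a * b * y * (a * b)⁻¹ * y⁻¹ = a * (b * y * b⁻¹ * y⁻¹) * a⁻¹ * (a * y * a⁻¹ * y⁻¹) by group,
          e2, e1, D.hQ.zcomm a haQ, mul_inv_cancel_right, huz]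
      · exfalso; apply hne2
        have hu' : u⁻¹ = u := inv_eq_of_mul_eq_one_right hu.2.1
        rw [show a' * b' * a'⁻¹ * b'⁻¹ = g⁻¹ * (b * y * b⁻¹ * y⁻¹)⁻¹ * g by rw [hb', hy]; group, e2, hu', hudef]
        group
      · exact ⟨b, hbQ, hbu, e2⟩
    · exact ⟨a, haQ, hau, e1⟩
  have hqq : q * q = D.z := by
    refine (D.hQ.sq q hq).resolve_left fun h => ?_
    have hq' : q = 1 ∨ q = D.z ∨ q = u ∨ q = u * D.z := by
      by_cases h1 : q = 1; · exact Or.inl h1
      by_cases h2 : q = D.z; · exact Or.inr (Or.inl h2)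
      exact Or.inr (Or.inr (D.comm2 u hu q ⟨hq, h, h1, h2⟩ hqu.symm))
    have hcy : q * y = y * q := by
      rcases hq' with rfl | rfl | rfl | rfl
      · simp
      · exact hyz.symm
      · exact hyu.symm
      · rw [mul_assoc, ← hyz, ← mul_assoc, ← hyu, mul_assoc]
    rw [show q * y * q⁻¹ * y⁻¹ = 1 by rw [hcy]; group] at hqy
    exact (mul_mem_invSet D.hQ hu).2.2.1 hqy.symm
  refine hno (q * y) ⟨D.mem_C.1 (mul_mem (D.le hq) (D.mem_C.2 hyz)), ?_, ?_⟩
  · have h1 : q * y = u * D.z * y * q := by rw [← hqy]; group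
    calc q * y * (q * y) = u * D.z * y * q * (q * y) := by rw [← h1]
      _ = u * D.z * y * (q * q) * y := by group
      _ = u * (D.z * (y * D.z)) * y := by rw [hqq]; group
      _ = u * (D.z * D.z) * (y * y) := by rw [hyz]; group
      _ = 1 := by rw [D.z2, mul_one, hyy', hu.2.1]
  · intro h
    have := mul_mem (inv_mem hq) h
    rw [inv_mul_cancel_left] at this
    rcases D.hQ.sq y this with e' | e' <;> rw [hyy'] at e'
    exacts [hu.2.2.1 e', hu.2.2.2 e']

end Data

end Cfsg.Agent.JThreeType
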