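import Cfsg.Agent.Lib.JThreeType.System
import Cfsg.Agent.Lib.JThreeType.Bound
import Cfsg.Agent.Lib.JThreeType.Model
import Cfsg.Agent.Lib.JankoThree.Central
import Cfsg.Agent.Lib.JankoThree.InvolutionCentralizer
import Cfsg.Agent.Lib.JankoThree.Commutant
import Cfsg.Agent.Lib.JTwoType.Pair

/-!
# Groups of type `J₃` are isomorphic to `J₃`

* `Data.exists_sub`: a subgroup isomorphic to `J₃`
* `Data.exists_iso`: it is the whole group
-/

set_option autoImplicit false
set_option linter.unusedSectionVars false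
set_option linter.style.haveILetI false
set_option maxHeartbeats 800000
set_option maxRecDepth 8000

namespace Cfsg.Agent.JThreeType

open Cfsg Subgroup OrderJTwo
open Table.Cert (val val_cons val_append val_nil)
open scoped Pointwise

/-- `card_map_of_injective` without the universe restriction. -/
theorem card_map_inj {A B : Type*} [Group A] [Group B] {f : A →* B} (hf : Function.Injective f)
    (H : Subgroup A) : Nat.card (H.map f) = Nat.card H :=
  (Nat.card_congr (H.equivMapOfInjective f hf).toEquiv).symm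

section Model

variable {F : Type*} [Field F] {ω : F} (h2 : (2 : F) = 0) (hω : ω ^ 2 + ω + 1 = 0)
include h2 hω

theorem finite_J3 : Finite (Spor.J3 F ω) :=
  Nat.finite_of_card_ne_zero (by rw [(JankoThree.simple_J3 h2 hω).2]; norm_num)

/-- The centraliser of an involution of `J₃` has order 1920. -/
theorem card_cent_involution {v : Spor.J3 F ω} (hv : orderOf v = 2) :
    Nat.card (centralizer ({v} : Set (Spor.J3 F ω))) = 1920 := by
  haveI := finite_J3 h2 hω
  obtain ⟨I⟩ := JankoThree.invData_exists h2 hω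
  rw [JTwoType.card_cent_isConj (I.invol v hv)]
  obtain ⟨-, Q, hQn, -, hQ, -, -, ⟨e⟩⟩ := I.centralizer_structure
  have h := Q.card_mul_index
  rw [hQ, index_eq_card, Nat.card_congr e.toEquiv, Nat.card_eq_fintype_card,
    show Fintype.card (alternatingGroup (Fin 5)) = 60 by decide +kernel] at h
  exact h.symm

/-- A subgroup of order 19 of `J₃` is its own centraliser. -/
theorem cent_nineteen {P : Subgroup (Spor.J3 F ω)} (hP : Nat.card P = 19) :
    centralizer (P : Set (Spor.J3 F ω)) = P ∧ Nat.card (normalizer (P : Set (Spor.J3 F ω))) ∣ 342 := by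
  haveI := finite_J3 h2 hω
  haveI : Fact (Nat.Prime 19) := ⟨by norm_num⟩
  set x0 := JankoThree.proj (JankoThree.genX h2 hω) with hx0
  have hcard := (JankoThree.simple_J3 h2 hω).2
  have hx19 : x0 ^ 19 = 1 := by rw [hx0, ← map_pow, JankoThree.genX_pow h2 hω, map_one]
  have hx1 : x0 ≠ 1 := by
    intro h
    have key : ∀ c : Spor.threeJ3 F ω, JankoThree.proj c = 1 := fun c => by
      have hc := JankoThree.centralizer_genX h2 hω (c := c) (by rw [← hx0, h]; exact Commute.one_right _)
      rw [← hx0, h, zpowers_one_eq_bot, mem_bot] at hc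
      exact hc
    have : Subsingleton (Spor.J3 F ω) := ⟨fun a b => by
      obtain ⟨a, rfl⟩ := QuotientGroup.mk'_surjective _ a
      obtain ⟨b, rfl⟩ := QuotientGroup.mk'_surjective _ b
      exact (key a).trans (key b).symm⟩
    rw [Nat.card_of_subsingleton (1 : Spor.J3 F ω)] at hcard
    norm_num at hcard
  have hxo : orderOf x0 = 19 := orderOf_eq_prime hx19 hx1
  have hcent0 : centralizer ((zpowers x0 : Subgroup _) : Set (Spor.J3 F ω)) = zpowers x0 := by
    refine le_antisymm (fun c hc => ?_) fun c hc => ?_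
    · obtain ⟨c, rfl⟩ := QuotientGroup.mk'_surjective _ c
      exact JankoThree.centralizer_genX h2 hω (mem_centralizer_iff.1 hc x0 (mem_zpowers x0)).symm
    · refine mem_centralizer_iff.2 fun y hy => ?_
      obtain ⟨i, rfl⟩ := mem_zpowers_iff.1 hc
      obtain ⟨j, rfl⟩ := mem_zpowers_iff.1 hy
      exact (Commute.zpow_zpow_self x0 j i).eq
  -- Sylow
  have h19 : ∀ T : Subgroup (Spor.J3 F ω), Nat.card T = 19 → ∃ S : Sylow 19 (Spor.J3 F ω), (S : Subgroup _) = T := by
    intro T hT
    refine ⟨(IsPGroup.of_card (n := 1) (by rw [hT, pow_one]) : IsPGroup 19 T).toSylow ?_, rfl⟩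
    intro h
    have := T.card_mul_index
    rw [hT, hcard] at this
    obtain ⟨i, hi⟩ := h
    omega
  obtain ⟨S, hS⟩ := h19 P hP
  obtain ⟨S0, hS0⟩ := h19 (zpowers x0) (by rw [Nat.card_zpowers, hxo])
  obtain ⟨c, hc⟩ := MulAction.exists_smul_eq (Spor.J3 F ω) S0 S
  have hPc : P = (zpowers x0).map (MulAut.conj c).toMonoidHom := by rw [← hS, ← hc, ← hS0]; rfl
  have hC : centralizer (P : Set (Spor.J3 F ω)) = P := by
    refine le_antisymm (fun y hy => ?_) fun y hy => ?_
    · have hy' : c⁻¹ * y * c ∈ zpowers x0 := by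
        rw [← hcent0]
        refine mem_centralizer_iff.2 fun u hu => ?_
        have hu' : c * u * c⁻¹ ∈ P := hPc ▸ mem_map_of_mem _ hu
        have h := mem_centralizer_iff.1 hy _ hu'
        calc u * (c⁻¹ * y * c) = c⁻¹ * ((c * u * c⁻¹) * y) * c := by group
          _ = (c⁻¹ * y * c) * u := by rw [h]; group
      rw [hPc]
      exact ⟨c⁻¹ * y * c, hy', by show c * (c⁻¹ * y * c) * c⁻¹ = y; group⟩
    · rw [hPc] at hy ⊢
      refine mem_centralizer_iff.2 fun u hu => ?_
      obtain ⟨a, ha, rfl⟩ := hu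
      obtain ⟨b, hb, rfl⟩ := hy
      obtain ⟨i, rfl⟩ := mem_zpowers_iff.1 ha
      obtain ⟨j, rfl⟩ := mem_zpowers_iff.1 hb
      rw [← map_mul, ← map_mul, (Commute.zpow_zpow_self x0 i j).eq]
  refine ⟨hC, ?_⟩
  haveI : IsCyclic P := isCyclic_of_prime_card (p := 19) hP
  have h1 := P.normalizerMonoidHom.ker.card_mul_index
  rw [index_ker, normalizerMonoidHom_ker,
    Nat.card_congr (subgroupOfEquivOfLe (Subgroup.centralizer_le_normalizer _)).toEquiv, hC, hP] at h1
  rw [← h1, show 342 = 19 * 18 from rfl]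
  refine mul_dvd_mul_left _ ?_
  have h2' := card_subgroup_dvd_card P.normalizerMonoidHom.range
  rwa [IsCyclic.card_mulAut, hP, Nat.totient_prime (by norm_num)] at h2'

end Model

variable {G : Type*} [Group G] [Finite G]
variable {F : Type} [Field F] {ω : F} (h2 : (2 : F) = 0) (hω : ω ^ 2 + ω + 1 = 0)
variable (hone : ∀ x y : G, orderOf x = 2 → orderOf y = 2 → IsConj x y)
include h2 hω hone

/-- A subgroup isomorphic to `J₃`. -/
theorem Data.exists_sub (D : Data G) : ∃ X : Subgroup G, Nonempty (X ≃* Spor.J3 F ω) := by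
  classical
  haveI := finite_J3 h2 hω
  obtain ⟨hsimp, hcard⟩ := JankoThree.simple_J3 h2 hω
  haveI := hsimp
  obtain ⟨g, hg, hg0⟩ := D.exists_sys hone
  obtain ⟨m, hm, hm0, hmtop⟩ := exists_model h2 hω
  let p : ℕ → G × Spor.J3 F ω := fun l => (g l, m l)
  have hval : ∀ r, val p r = (val g r, val m r) := by
    intro r
    induction r with
    | nil => rfl
    | cons a r ih => rw [val_cons, val_cons, val_cons, ih]; rfl
  have hp : Sys p := by
    obtain ⟨φ, a1, a2, a3⟩ := hg.coords
    obtain ⟨φ', b1, b2, b3⟩ := hm.coords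
    exact ⟨fun l hl => _root_.Prod.ext (hg.inv l hl) (hm.inv l hl),
      fun r hr => by rw [hval, hg.rels r hr, hm.rels r hr]; rfl,
      fun r hr => by rw [hval, hg.small r hr, hm.small r hr]; rfl,
      fun i => (φ i, φ' i), fun i j => _root_.Prod.ext (a1 i j) (b1 i j), _root_.Prod.ext a2 b2,
      fun l hl i => _root_.Prod.ext (a3 l hl i) (b3 l hl i)⟩
  set K := genAll p with hK
  have hK3 : Nat.card K ≤ 3 * 50232960 := hp.card_le
  set X := genAll g with hX
  let π : K →* Spor.J3 F ω := (MonoidHom.snd G _).comp K.subtype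
  let σ : K →* G := (MonoidHom.fst G (Spor.J3 F ω)).comp K.subtype
  have hπ : π.range = ⊤ := by
    rw [eq_top_iff, ← hmtop, closure_le]
    rintro _ ⟨l, hl, rfl⟩
    exact ⟨⟨p l, subset_closure ⟨l, hl, rfl⟩⟩, rfl⟩
  have hσ : σ.range = X := by
    rw [MonoidHom.range_comp, Subgroup.range_subtype, hK, genAll, MonoidHom.map_closure, hX, genAll, Set.image_image]
    rfl
  -- the kernel of the first projection is trivial
  have hX4 : 4 ≤ Nat.card X := by
    by_contra hX4
    have ha : g 0 ∈ X := subset_closure ⟨0, by norm_num, rfl⟩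
    have hb : g 1 ∈ X := subset_closure ⟨1, by norm_num, rfl⟩
    haveI : Fact (Nat.Prime 2) := ⟨Nat.prime_two⟩
    have haa : g 0 * g 0 = 1 := hg.inv 0 (by norm_num)
    have ho : orderOf (g 0) = 2 := orderOf_eq_prime (by rw [_root_.sq]; exact haa) hg0
    have hd : 2 ∣ Nat.card X := ho ▸ Subgroup.orderOf_dvd_natCard X ha
    have hX2 : Nat.card X = 2 := by
      have := Nat.card_pos (α := X)
      omega
    have hb1 : g 1 = 1 := by
      have h3 : g 1 ^ 3 = 1 := by
        rw [← hg.rels [1, 1, 1] (by decide +kernel)]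
        simp [val, pow_succ, mul_assoc]
      refine orderOf_eq_one_iff.1 (Nat.eq_one_of_dvd_coprimes (a := 3) (b := 2) (by norm_num)
        (orderOf_dvd_of_pow_eq_one h3) (hX2 ▸ Subgroup.orderOf_dvd_natCard X hb))
    have h5 := hg.rels [0, 1, 0, 1, 0, 1, 0, 1, 0, 1] (by decide +kernel)
    simp [val, hb1, haa] at h5
    exact hg0 h5
  have hLbot : σ.ker = ⊥ := by
    haveI : (σ.ker.map π).Normal := (MonoidHom.normal_ker σ).map π (MonoidHom.range_eq_top.1 hπ)
    rcases (inferInstance : (σ.ker.map π).Normal).eq_bot_or_eq_top with h | h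
    · refine (Subgroup.eq_bot_iff_forall _).2 fun y hy => Subtype.ext (_root_.Prod.ext hy ?_)
      have := mem_map_of_mem π hy
      rwa [h, mem_bot] at this
    · exfalso
      have h1 : 50232960 ≤ Nat.card σ.ker := by
        rw [← hcard, ← Nat.card_congr (Subgroup.topEquiv (G := Spor.J3 F ω)).toEquiv, ← h]
        exact Nat.card_le_card_of_surjective _ (MonoidHom.subgroupMap_surjective π σ.ker)
      have h2' := σ.ker.card_mul_index
      rw [index_ker, hσ] at h2'
      have := Nat.mul_le_mul h1 hX4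
      omega
  have hσinj : Function.Injective σ := (MonoidHom.ker_eq_bot_iff σ).1 hLbot
  have hKX : Nat.card K = Nat.card X := by
    rw [← hσ, Nat.card_congr (MonoidHom.ofInjective hσinj).toEquiv]
  -- the kernel of the second projection is trivial
  have hindex : Nat.card π.ker * 50232960 = Nat.card K := by
    rw [← π.ker.card_mul_index, index_ker, hπ, Subgroup.card_top, hcard]
  have hπinj : Function.Injective π := by
    rw [← MonoidHom.ker_eq_bot_iff, ← Subgroup.card_eq_one]
    have hpos : 0 < Nat.card π.ker := Nat.card_pos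
    have hle : Nat.card π.ker ≤ 3 := by omega
    set N := π.ker.map σ with hN
    have hNcard : Nat.card N = Nat.card π.ker := card_map_inj hσinj _
    have hNX : ∀ x ∈ X, ∀ n ∈ N, x * n * x⁻¹ ∈ N := by
      rintro x hx _ ⟨n, hn, rfl⟩
      obtain ⟨y, rfl⟩ := hσ.ge hx
      refine ⟨y * n * y⁻¹, (MonoidHom.normal_ker π).conj_mem n hn y, ?_⟩
      rw [map_mul, map_mul, map_inv]
    have hsmall : ∀ n : G, orderOf n = 2 ∨ orderOf n = 3 → (∀ x ∈ X, x * n * x⁻¹ = n ∨ x * n * x⁻¹ = n⁻¹) →
        False := by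
      intro n hn hconj
      -- `a` centralises `n`
      let S : Subgroup G :=
        { carrier := {x | x ∈ X ∧ x * n * x⁻¹ = n}
          one_mem' := ⟨one_mem X, by group⟩
          mul_mem' := fun {x y} hx hy => ⟨mul_mem hx.1 hy.1, by
            rw [show x * y * n * (x * y)⁻¹ = x * (y * n * y⁻¹) * x⁻¹ by group, hy.2, hx.2]⟩
          inv_mem' := fun {x} hx => ⟨inv_mem hx.1, by nth_rw 1 [← hx.2]; group⟩ }
      have hprod : ∀ x ∈ X, ∀ y ∈ X, x ∉ S → y ∉ S → x * y ∈ S := by
        intro x hx y hy hxS hyS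
        refine ⟨mul_mem hx hy, ?_⟩
        have e1 := (hconj x hx).resolve_left fun e => hxS ⟨hx, e⟩
        have e2 := (hconj y hy).resolve_left fun e => hyS ⟨hy, e⟩
        rw [show x * y * n * (x * y)⁻¹ = x * (y * n * y⁻¹) * x⁻¹ by group, e2, ← conj_inv, e1, inv_inv]
      have hodd : ∀ x ∈ X, ∀ r : ℕ, x ^ (2 * r + 1) = 1 → x ∈ S := by
        intro x hx r hr
        by_contra hxS
        have h2s : x * x ∈ S := hprod x hx x hx hxS hxS
        have e : x⁻¹ = (x * x) ^ r := inv_eq_of_mul_eq_one_right (by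
          rw [← _root_.sq, ← pow_mul, ← pow_succ']; exact hr)
        exact hxS (inv_mem_iff.1 (e ▸ pow_mem h2s r))
      have hgX : ∀ l < 7, g l ∈ X := fun l hl => subset_closure ⟨l, hl, rfl⟩
      have hbS : g 1 ∈ S := hodd _ (hgX 1 (by norm_num)) 1 (by
        rw [← hg.rels [1, 1, 1] (by decide +kernel)]; simp [val, pow_succ, mul_assoc])
      have habS : g 0 * g 1 ∈ S := hodd _ (mul_mem (hgX 0 (by norm_num)) (hgX 1 (by norm_num))) 2 (by
        rw [← hg.rels [0, 1, 0, 1, 0, 1, 0, 1, 0, 1] (by decide +kernel)]; simp [val, pow_succ, mul_assoc])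
      have haS : g 0 ∈ S := by simpa using mul_mem habS (inv_mem hbS)
      have ho : orderOf (g 0) = 2 :=
        orderOf_eq_prime (by rw [_root_.sq]; exact hg.inv 0 (by norm_num)) hg0
      -- so `X` is small
      have hcomm : n * g 0 = g 0 * n := (mul_inv_eq_iff_eq_mul.1 haS.2).symm
      obtain ⟨c, hc, hcle⟩ : ∃ c : ℕ, Nat.card (centralizer ({n} : Set G)) = c ∧ c ≤ 1920 := by
        rcases hn with hn | hn
        · exact ⟨_, rfl, by rw [JTwoType.card_cent_isConj (hone D.z n D.z_ord hn), D.card_C]⟩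
        · obtain ⟨t, ht⟩ := D.exists_outer hone
          obtain ⟨F', -⟩ := ht.exists_frame hone
          obtain ⟨u, hu⟩ := F'.three_conj hone hn ho hcomm
          refine ⟨_, rfl, ?_⟩
          obtain ⟨hk, -⟩ := F'.exists_psi hone
          have e : Nat.card (centralizer ({n} : Set G)) = Nat.card (centralizer ({F'.k} : Set G)) := by
            rcases hu with e | e
            · exact (JTwoType.card_cent_isConj (isConj_iff.2 ⟨u, e⟩)).symm
            · rw [← JTwoType.card_cent_isConj (isConj_iff.2 ⟨u, e⟩ : IsConj n F'.k⁻¹)]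
              congr 2
              ext y
              rw [mem_centralizer_singleton_iff, mem_centralizer_singleton_iff]
              exact ⟨fun h => by simpa using ((show Commute y F'.k⁻¹ from h).inv_right).eq,
                fun h => ((show Commute y F'.k from h).inv_right).eq⟩
          rw [e, hk]
          norm_num
      have hSc : Nat.card S ≤ 1920 := by
        refine le_trans (card_le_of_le fun x hx => ?_) (hc ▸ hcle)
        exact mem_centralizer_singleton_iff.2 (mul_inv_eq_iff_eq_mul.1 hx.2)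
      have hXS : Nat.card X ≤ 2 * Nat.card S := by
        by_cases hall : ∀ x ∈ X, x ∈ S
        · have := card_le_of_le (H := X) (K := S) hall
          omega
        push Not at hall
        obtain ⟨x0, hx0, hx0S⟩ := hall
        let f : X → S × Bool := fun x =>
          if h : (x : G) ∈ S then (⟨x, h⟩, true)
          else (⟨x0 * x, hprod x0 hx0 x x.2 hx0S h⟩, false)
        have hf : Function.Injective f := by
          intro x y e
          simp only [f] at e
          split_ifs at e with h1 h1' h1''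
          all_goals simp only [Prod.mk.injEq, Subtype.mk.injEq, Bool.false_eq_true, and_false, Bool.true_eq_false,
            and_true] at e
          · exact Subtype.ext e
          · exact Subtype.ext (mul_left_cancel e)
        have := Nat.card_le_card_of_injective f hf
        rw [Nat.card_prod, Nat.card_eq_fintype_card (α := Bool), Fintype.card_bool] at this
        omega
      omega
    interval_cases hcN : Nat.card π.ker
    · rfl
    · exfalso
      haveI : Fact (Nat.Prime 2) := ⟨Nat.prime_two⟩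
      obtain ⟨⟨n, hn⟩, hno⟩ := exists_prime_orderOf_dvd_card' (G := N) 2 (by rw [hNcard])
      rw [Subgroup.orderOf_mk] at hno
      refine hsmall n (Or.inl hno) fun x hx => ?_
      have hsub : zpowers n = N :=
        Subgroup.eq_of_le_of_card_ge (zpowers_le.2 hn) (by rw [hNcard, Nat.card_zpowers, hno])
      have hm' := hNX x hx n hn
      rw [← hsub] at hm'
      have h3 : n * n = 1 := by rw [← _root_.sq, ← hno, pow_orderOf_eq_one]
      obtain ⟨i, hi⟩ := (isOfFinOrder_of_finite n).mem_zpowers_iff_mem_range_orderOf.1 hm' |> Finset.mem_image.1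
      rw [hno, Finset.mem_range] at hi
      obtain ⟨hi, hie⟩ := hi
      interval_cases i
      · rw [pow_zero] at hie
        rw [conj_eq_one_iff.1 hie.symm, orderOf_one] at hno
        norm_num at hno
      · exact Or.inl (by rw [← hie, pow_one])
    · exfalso
      haveI : Fact (Nat.Prime 3) := ⟨Nat.prime_three⟩
      obtain ⟨⟨n, hn⟩, hno⟩ := exists_prime_orderOf_dvd_card' (G := N) 3 (by rw [hNcard])
      rw [Subgroup.orderOf_mk] at hno
      refine hsmall n (Or.inr hno) fun x hx => ?_
      have hsub : zpowers n = N :=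
        Subgroup.eq_of_le_of_card_ge (zpowers_le.2 hn) (by rw [hNcard, Nat.card_zpowers, hno])
      have hm' := hNX x hx n hn
      rw [← hsub] at hm'
      have h3 : n ^ 3 = 1 := hno ▸ pow_orderOf_eq_one n
      rcases JTwoType.mem_zpowers_three h3 hm' with r | r | r
      · rw [conj_eq_one_iff.1 r, orderOf_one] at hno
        norm_num at hno
      · exact Or.inl r
      · exact Or.inr (r.trans (inv_eq_of_mul_eq_one_right (by rw [← pow_succ', h3])).symm)
  exact ⟨X, ⟨((MulEquiv.subgroupCongr hσ).symm.trans (MonoidHom.ofInjective hσinj).symm).trans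
    (MulEquiv.ofBijective π ⟨hπinj, MonoidHom.range_eq_top.1 hπ⟩)⟩⟩

/-- The group is `J₃`. -/
theorem Data.exists_iso (D : Data G) : Nonempty (G ≃* Spor.J3 F ω) := by
  classical
  haveI := finite_J3 h2 hω
  haveI := Fintype.ofFinite G
  obtain ⟨-, hcard⟩ := JankoThree.simple_J3 h2 hω
  obtain ⟨X, ⟨e⟩⟩ := D.exists_sub h2 hω hone
  suffices hX : X = ⊤ by
    subst hX
    exact ⟨Subgroup.topEquiv.symm.trans e⟩
  by_contra hne
  have hXc : Nat.card X = 50232960 := by rw [Nat.card_congr e.toEquiv, hcard]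
  obtain ⟨I0⟩ := JankoThree.invData_exists h2 hω
  set I := I0.map e.symm with hI
  have hcG : ∀ v : G, orderOf v = 2 → Nat.card (centralizer ({v} : Set G)) = 1920 := fun v hv => by
    rw [JTwoType.card_cent_isConj (hone D.z v D.z_ord hv), D.card_C]
  have hcX : ∀ v : X, orderOf (v : G) = 2 → ∀ y : G, y * v = v * y → y ∈ X := by
    intro v hv y hy
    have hv' : orderOf (e v) = 2 := by rw [MulEquiv.orderOf_eq, ← hv, Subgroup.orderOf_coe]
    have h1 : Nat.card (centralizer ({v} : Set X)) = 1920 := by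
      rw [← card_cent_involution h2 hω hv']
      refine Nat.card_congr (Equiv.subtypeEquiv e.toEquiv fun a => ?_)
      show a ∈ centralizer ({v} : Set X) ↔ e a ∈ centralizer ({e v} : Set (Spor.J3 F ω))
      rw [mem_centralizer_singleton_iff, mem_centralizer_singleton_iff, ← map_mul, ← map_mul, e.injective.eq_iff]
    have h2' : (centralizer ({v} : Set X)).map X.subtype = centralizer ({(v : G)} : Set G) := by
      refine Subgroup.eq_of_le_of_card_ge ?_ (by rw [card_map_inj X.subtype_injective, h1, hcG _ hv])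
      rintro _ ⟨a, ha, rfl⟩
      exact mem_centralizer_singleton_iff.2 (congrArg Subtype.val (mem_centralizer_singleton_iff.1 ha))
    obtain ⟨a, -, rfl⟩ := h2'.ge (mem_centralizer_singleton_iff.2 hy)
    exact a.2
  have honeX : ∀ u v : X, orderOf (u : G) = 2 → orderOf (v : G) = 2 → IsConj u v := fun u v hu hv =>
    (I.invol u (by rw [← Subgroup.orderOf_coe]; exact hu)).symm.trans (I.invol v (by rw [← Subgroup.orderOf_coe]; exact hv))
  -- the involutions of `G` and of `X`
  set S := Finset.univ.filter fun s : G => orderOf s = 2 with hS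
  have hScard : S.card * 1920 = Nat.card G := by
    rw [← Char.card_conjugates_mul_card_centralizer D.z, D.card_C]
    congr 1
    rw [hS, ← Fintype.card_subtype, ← Nat.card_eq_fintype_card]
    refine Nat.card_congr (Equiv.subtypeEquivRight fun s => ⟨fun hs => hone D.z s D.z_ord hs, fun hs => ?_⟩)
    obtain ⟨c, rfl⟩ := isConj_iff.1 hs
    exact (MulEquiv.orderOf_eq (MulAut.conj c) D.z).trans D.z_ord
  have hSX : (S.filter fun s => s ∈ X).card * 1920 = 50232960 := by
    obtain ⟨u, hu⟩ : ∃ u : X, orderOf (u : G) = 2 := ⟨I.q JankoThree.tIdx, by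
      rw [Subgroup.orderOf_coe]; exact I.t_order⟩
    have hcu : Nat.card (centralizer ({u} : Set X)) = 1920 := by
      rw [← card_map_inj X.subtype_injective (centralizer ({u} : Set X)), ← hcG _ hu]
      congr 2
      refine le_antisymm ?_ fun y hy => ⟨⟨y, hcX u hu y (mem_centralizer_singleton_iff.1 hy)⟩,
        mem_centralizer_singleton_iff.2 (Subtype.ext (mem_centralizer_singleton_iff.1 hy)), rfl⟩
      rintro _ ⟨a, ha, rfl⟩
      exact mem_centralizer_singleton_iff.2 (congrArg Subtype.val (mem_centralizer_singleton_iff.1 ha))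
    rw [← hXc, ← Char.card_conjugates_mul_card_centralizer u, hcu]
    congr 1
    rw [← Fintype.card_coe, ← Nat.card_eq_fintype_card]
    refine Nat.card_congr
      { toFun := fun s => ⟨⟨s.1, (Finset.mem_filter.1 s.2).2⟩, honeX _ _ hu
          (Finset.mem_filter.1 (Finset.mem_filter.1 s.2).1).2⟩
        invFun := fun s => ⟨(s.1 : G), Finset.mem_filter.2 ⟨Finset.mem_filter.2 ⟨Finset.mem_univ _, ?_⟩, s.1.2⟩⟩
        left_inv := fun s => rfl
        right_inv := fun s => rfl }
    obtain ⟨c, hc⟩ := isConj_iff.1 s.2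
    rw [Subgroup.orderOf_coe, ← hc]
    exact (MulEquiv.orderOf_eq (MulAut.conj c) u).trans (by rw [← Subgroup.orderOf_coe]; exact hu)
  have hS26 : (S.filter fun s => s ∈ X).card = 26163 := by omega
  have hSidx : S.card = X.index * 26163 := by
    have := X.card_mul_index
    rw [hXc, ← hScard] at this
    omega
  -- a coset with many involutions
  haveI : Fintype (G ⧸ X) := Fintype.ofFinite _
  obtain ⟨t, ht, htX, hbig⟩ : ∃ t : G, orderOf t = 2 ∧ t ∉ X ∧
      26163 ≤ (S.filter fun s => t⁻¹ * s ∈ X).card := by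
    by_contra hcon
    push Not at hcon
    have h1 := Finset.card_eq_sum_card_fiberwise (s := S) (t := (Finset.univ : Finset (G ⧸ X)))
      (f := fun s => (QuotientGroup.mk s : G ⧸ X)) (fun _ _ => Finset.mem_univ _)
    have hfib : ∀ t : G, (S.filter fun s => (QuotientGroup.mk s : G ⧸ X) = QuotientGroup.mk t) =
        S.filter fun s => t⁻¹ * s ∈ X := fun t => Finset.filter_congr fun s _ => by
      rw [eq_comm, QuotientGroup.eq]
    have hsmall : ∀ q : G ⧸ X, (S.filter fun s => (QuotientGroup.mk s : G ⧸ X) = q).card ≤ 26163 ∧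
        (q ≠ QuotientGroup.mk 1 → (S.filter fun s => (QuotientGroup.mk s : G ⧸ X) = q).card < 26163) := by
      intro q
      have hlt : q ≠ QuotientGroup.mk 1 → (S.filter fun s => (QuotientGroup.mk s : G ⧸ X) = q).card < 26163 := by
        intro hq
        rcases (S.filter fun s => (QuotientGroup.mk s : G ⧸ X) = q).eq_empty_or_nonempty with h | ⟨t, ht⟩
        · rw [h]; norm_num
        · rw [Finset.mem_filter, hS, Finset.mem_filter] at ht
          obtain ⟨⟨-, ht2⟩, rfl⟩ := ht
          rw [hfib]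
          exact hcon t ht2 fun htX => hq (QuotientGroup.eq.2 (by simpa using htX))
      refine ⟨?_, hlt⟩
      by_cases hq : q = QuotientGroup.mk 1
      · rw [hq, hfib]
        simp [hS26]
      · exact (hlt hq).le
    obtain ⟨q0, hq0⟩ : ∃ q : G ⧸ X, q ≠ QuotientGroup.mk 1 := by
      by_contra h
      push Not at h
      exact hne ((Subgroup.eq_top_iff' X).2 fun y => by simpa using QuotientGroup.eq.1 (h ↑y).symm)
    have h3 : ∑ q : G ⧸ X, (S.filter fun s => (QuotientGroup.mk s : G ⧸ X) = q).card < ∑ q : G ⧸ X, 26163 :=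
      Finset.sum_lt_sum (fun q _ => (hsmall q).1) ⟨q0, Finset.mem_univ _, (hsmall q0).2 hq0⟩
    rw [← h1, Finset.sum_const, Finset.card_univ, ← Nat.card_eq_fintype_card, ← index_eq_card, smul_eq_mul,
      ← hSidx] at h3
    exact lt_irrefl _ h3
  have htt : t * t = 1 := by rw [← _root_.sq, ← ht, pow_orderOf_eq_one]
  have hti : t⁻¹ = t := inv_eq_of_mul_eq_one_right htt
  set Dd := X ⊓ X.map (MulAut.conj t).toMonoidHom with hDd
  set T := (S.filter fun s => t⁻¹ * s ∈ X).image fun s => t * s with hT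
  have hTD : ∀ y ∈ T, y ∈ Dd ∧ t * y * t⁻¹ = y⁻¹ := by
    intro y hy
    obtain ⟨s, hs, rfl⟩ := Finset.mem_image.1 hy
    rw [Finset.mem_filter, hS, Finset.mem_filter] at hs
    obtain ⟨⟨-, hs2⟩, hsX⟩ := hs
    rw [hti] at hsX
    have hss : s * s = 1 := by rw [← _root_.sq, ← hs2, pow_orderOf_eq_one]
    have hinv : (t * s)⁻¹ = t * (t * s) * t := by
      rw [mul_inv_rev, inv_eq_of_mul_eq_one_right hss, hti, ← mul_assoc t t s, htt, one_mul]
    refine ⟨⟨hsX, (t * s)⁻¹, inv_mem hsX, ?_⟩, by rw [hti, ← hinv]⟩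
    show t * (t * s)⁻¹ * t⁻¹ = t * s
    rw [hinv, hti]
    calc t * (t * (t * s) * t) * t = (t * t) * (t * s) * (t * t) := by group
      _ = t * s := by rw [htt, one_mul, mul_one]
  have hTcard : 26163 ≤ T.card := by
    rw [hT, Finset.card_image_of_injective _ (mul_right_injective t)]
    exact hbig
  have hTle : T.card ≤ Nat.card Dd := by
    rw [← Fintype.card_coe, ← Nat.card_eq_fintype_card]
    exact Nat.card_le_card_of_injective (fun y => (⟨y.1, (hTD y.1 y.2).1⟩ : Dd))
      fun a b h => Subtype.ext (Subtype.mk.inj h)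
  have hodd : ¬ 2 ∣ Nat.card Dd := by
    intro h
    haveI : Fact (Nat.Prime 2) := ⟨Nat.prime_two⟩
    obtain ⟨⟨v, hvD⟩, hv⟩ := exists_prime_orderOf_dvd_card' (G := Dd) 2 h
    obtain ⟨hvX, hvm⟩ := mem_inf.1 hvD
    obtain ⟨u, huX, huv⟩ := mem_map.1 hvm
    rw [Subgroup.orderOf_mk] at hv
    change t * u * t⁻¹ = v at huv
    have hu : orderOf u = 2 := by
      rw [← hv, ← huv]; exact (MulEquiv.orderOf_eq (MulAut.conj t) u).symm
    obtain ⟨c, hc⟩ := isConj_iff.1 (honeX ⟨u, huX⟩ ⟨v, hvX⟩ hu hv)
    have hc' : (c : G) * u * (c : G)⁻¹ = v := congrArg Subtype.val hc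
    refine htX ?_
    have := hcX ⟨u, huX⟩ hu ((c : G)⁻¹ * t) (mul_inv_eq_iff_eq_mul.1 (by
      calc (c : G)⁻¹ * t * u * ((c : G)⁻¹ * t)⁻¹ = (c : G)⁻¹ * (t * u * t⁻¹) * c := by group
        _ = u := by rw [huv, ← hc']; group))
    simpa using mul_mem c.2 this
  have hdvd : Nat.card Dd ∣ 392445 := by
    have h1 : Nat.card Dd ∣ 2 ^ 7 * 392445 := by
      rw [show 2 ^ 7 * 392445 = 50232960 from rfl, ← hXc]; exact card_dvd_of_le inf_le_left
    exact (((Nat.prime_two.coprime_iff_not_dvd).2 hodd).symm.pow_right 7).dvd_of_dvd_mul_left h1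
  have h26 : 26163 ≤ Nat.card Dd := hTcard.trans hTle
  have hcases : Nat.card Dd ∈ [392445, 130815, 78489, 43605, 26163] := by
    obtain ⟨d, hd⟩ := hdvd
    have hd15 : d ≤ 15 := by nlinarith
    interval_cases d <;> simp only [List.mem_cons, List.not_mem_nil, or_false] <;> omega
  -- a Sylow subgroup of order 19
  haveI : Fact (Nat.Prime 19) := ⟨by norm_num⟩
  let P : Sylow 19 Dd := default
  set f : Dd →* Spor.J3 F ω := e.toMonoidHom.comp (Subgroup.inclusion inf_le_left) with hf
  have hfinj : Function.Injective f := e.injective.comp (Subgroup.inclusion_injective _)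
  have hP19 : Nat.card P = 19 := by
    rw [P.card_eq_multiplicity]
    have h19 : 19 ∣ Nat.card Dd ∧ ¬ 19 ^ 2 ∣ Nat.card Dd := by
      simp only [List.mem_cons, List.not_mem_nil, or_false] at hcases
      rcases hcases with h | h | h | h | h <;> rw [h] <;> norm_num
    have h0 : Nat.card Dd ≠ 0 := by omega
    have : (Nat.card Dd).factorization 19 = 1 := by
      refine le_antisymm ?_ ((Nat.Prime.dvd_iff_one_le_factorization (by norm_num) h0).1 h19.1)
      by_contra h
      exact h19.2 (((Nat.Prime.pow_dvd_iff_le_factorization (by norm_num) h0).2 (by omega)))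
    rw [this, pow_one]
  set P' := (P : Subgroup Dd).map f with hP'
  obtain ⟨hcP, hnP⟩ := cent_nineteen h2 hω (P := P') (by rw [hP', card_map_inj hfinj]; exact hP19)
  have hN342 : Nat.card (normalizer ((P : Subgroup Dd) : Set Dd)) ∣ 342 := by
    refine dvd_trans ?_ hnP
    rw [← card_map_inj hfinj (normalizer ((P : Subgroup Dd) : Set Dd))]
    refine card_dvd_of_le ?_
    rintro _ ⟨y, hy, rfl⟩
    refine mem_normalizer_iff.2 fun z => ⟨?_, ?_⟩
    · rintro ⟨w, hw, rfl⟩
      exact ⟨y * w * y⁻¹, (mem_normalizer_iff.1 hy w).1 hw, by simp⟩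
    · rintro ⟨w, hw, hwz⟩
      exact ⟨y⁻¹ * w * y, (mem_normalizer_iff''.1 hy w).1 hw, by simp [hwz, mul_assoc]⟩
  have hn : Nat.card (Sylow 19 Dd) * Nat.card (normalizer ((P : Subgroup Dd) : Set Dd)) = Nat.card Dd := by
    rw [P.card_eq_index_normalizer, mul_comm]; exact card_mul_index _
  have hmod := card_sylow_modEq_one 19 Dd
  set N := Nat.card (normalizer ((P : Subgroup Dd) : Set Dd)) with hN
  simp only [List.mem_cons, List.not_mem_nil, or_false] at hcases
  have key : ∀ C ∈ [392445, 130815, 78489, 43605], ∀ N < 343, N ∣ 342 → 19 ∣ N → ∀ _ : N ∣ C, (C / N) % 19 ≠ 1 := by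
    decide +kernel
  have hN19 : 19 ∣ N := hP19 ▸ card_dvd_of_le (le_normalizer)
  have hNle : N < 343 := Nat.lt_succ_of_le (Nat.le_of_dvd (by norm_num) hN342)
  have hbad : Nat.card Dd = 26163 := by
    by_contra hne'
    refine key (Nat.card Dd) (by simp only [List.mem_cons, List.not_mem_nil, or_false]; tauto) N hNle hN342 hN19
      ⟨_, by rw [← hn, mul_comm]⟩ ?_
    rw [← hn, Nat.mul_div_cancel _ (Nat.card_pos)]
    exact hmod
  -- then the whole group is inverted and abelian
  have hall : ∀ y ∈ Dd, t * y * t⁻¹ = y⁻¹ := by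
    intro y hy
    have hbij := ((Nat.bijective_iff_injective_and_card (fun y : T => (⟨y.1, (hTD y.1 y.2).1⟩ : Dd))).2
      ⟨fun a b h => Subtype.ext (Subtype.mk.inj h), by
        rw [Nat.card_eq_fintype_card, Fintype.card_coe]; omega⟩)
    obtain ⟨y', hy'⟩ := hbij.2 ⟨y, hy⟩
    have := (hTD y'.1 y'.2).2
    rwa [show (y'.1 : G) = y from congrArg Subtype.val hy'] at this
  have hab : ∀ y y' : Dd, y * y' = y' * y := fun y y' => Subtype.ext (by
    show (y : G) * y' = y' * y
    have h := hall _ (mul_mem y.2 y'.2)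
    rw [show t * ((y : G) * y') * t⁻¹ = (t * y * t⁻¹) * (t * y' * t⁻¹) by group, hall _ y.2, hall _ y'.2,
      ← mul_inv_rev, inv_inj] at h
    exact h.symm)
  have hle : Nat.card Dd ≤ 19 := by
    rw [← Nat.card_congr (Subgroup.topEquiv (G := Dd)).toEquiv, ← card_map_inj hfinj ((⊤ : Subgroup Dd)),
      show (19 : ℕ) = Nat.card P' by rw [hP', card_map_inj hfinj]; exact hP19.symm]
    refine card_le_of_le ?_
    rintro _ ⟨y, -, rfl⟩
    rw [← hcP]
    refine mem_centralizer_iff.2 ?_
    rintro _ ⟨z, -, rfl⟩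
    rw [← map_mul, ← map_mul, hab]
  omega

end Cfsg.Agent.JThreeType
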