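import Cfsg.Agent.Lib.JThreeType.Setup
import Cfsg.Agent.Lib.JTwoType.WeakClosure

/-!
# Groups of type `J₃`: the extraspecial subgroup is self-centralising

* `exists_comm_pair`: the centraliser of an element in an extraspecial group of order 32 is not abelian
* `centralizer_le`: in a simple group, if `z` is central in a Sylow 2-subgroup then `C_C(Q) ≤ Q`
* `two_central_of_one_class`
-/

set_option autoImplicit false
set_option linter.style.haveILetI false

namespace Cfsg.Agent.JThreeType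

open Cfsg Subgroup OrderJTwo
open scoped Pointwise commutatorElement

variable {G : Type*} [Group G] [Finite G]

theorem exists_comm_pair {H : Type*} [Group H] [Finite H] (hES : PGroup.IsES 2 H) (hcard : Nat.card H = 32)
    (q : H) : ∃ a b : H, Commute a q ∧ Commute b q ∧ a * b ≠ b * a := by
  classical
  by_contra hno
  push Not at hno
  set Z := center H
  have hZ2 : Nat.card Z = 2 := hES.card_center
  have hcm : ∀ x y : H, x * y * x⁻¹ * y⁻¹ ∈ Z := fun x y => by
    simpa [commutatorElement_def] using hES.comm_mem x y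
  obtain ⟨zz, hzz⟩ : ∃ zz : H, ∀ w ∈ Z, w = 1 ∨ w = zz := by
    have h := (Nat.card_eq_two_iff' (1 : Z)).1 hZ2
    obtain ⟨w0, hw0, -⟩ := id h
    refine ⟨w0, fun w hw => ?_⟩
    by_cases h1 : (⟨w, hw⟩ : Z) = 1
    · exact Or.inl (congrArg Subtype.val h1)
    · exact Or.inr (congrArg Subtype.val (h.unique h1 hw0))
  -- products of two elements not commuting with `y`
  have hmul : ∀ y a b : H, a * y ≠ y * a → b * y ≠ y * b → a * b * y = y * (a * b) := by
    intro y a b ha hb
    have h1 : a * y * a⁻¹ * y⁻¹ = zz := (hzz _ (hcm a y)).resolve_left fun e => ha (by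
      rwa [mul_inv_eq_one, mul_inv_eq_iff_eq_mul] at e)
    have h2 : b * y * b⁻¹ * y⁻¹ = zz := (hzz _ (hcm b y)).resolve_left fun e => hb (by
      rwa [mul_inv_eq_one, mul_inv_eq_iff_eq_mul] at e)
    have hzc : ∀ x : H, x * zz = zz * x := by
      have hz : zz ∈ Z := h1 ▸ hcm a y
      exact fun x => mem_center_iff.1 hz x
    have hzsq : zz * zz = 1 := by
      have := hES.pow_eq_one (h1 ▸ hcm a y : zz ∈ Z)
      rwa [pow_two] at this
    calc a * b * y = a * (b * y * b⁻¹ * y⁻¹) * y * b := by group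
      _ = zz * (a * y * a⁻¹ * y⁻¹) * y * a * b := by rw [h2, hzc a]; group
      _ = zz * zz * y * a * b := by rw [h1]
      _ = _ := by rw [hzsq, one_mul, mul_assoc]
  -- the centraliser of `q` has index at most two
  set A := centralizer ({q} : Set H)
  have hA : ∀ a, a ∈ A ↔ a * q = q * a := fun a => mem_centralizer_singleton_iff
  have hA16 : 16 ≤ Nat.card A := by
    have := card_le_two_mul (⊤ : Subgroup H) A le_top fun a _ b _ ha hb =>
      (hA _).2 (hmul q a b (fun e => ha ((hA _).2 e)) fun e => hb ((hA _).2 e))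
    rw [card_top, hcard] at this
    omega
  have hab : ∀ a ∈ A, ∀ b ∈ A, a * b = b * a := fun a ha b hb => hno a b ((hA a).1 ha) ((hA b).1 hb)
  have hZA : Z ≤ A := fun w hw => (hA w).2 (mem_center_iff.1 hw q).symm
  by_cases htop : A = ⊤
  · have hZtop : Z = ⊤ := eq_top_iff.2 fun w _ => mem_center_iff.2 fun v =>
      hab v (htop ▸ mem_top v) w (htop ▸ mem_top w)
    rw [hZtop, card_top, hcard] at hZ2
    norm_num at hZ2
  obtain ⟨y, hy⟩ : ∃ y, y ∉ A := by
    by_contra h
    push Not at h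
    exact htop (eq_top_iff.2 fun w _ => h w)
  -- an element of `A` commuting with `y` is central
  have hcen : ∀ a ∈ A, a * y = y * a → a ∈ Z := fun a ha hay => by
    have hle : A ⊔ zpowers y ≤ centralizer ({a} : Set H) := sup_le
      (fun b hb => mem_centralizer_singleton_iff.2 (hab b hb a ha))
      (zpowers_le.2 (mem_centralizer_singleton_iff.2 hay.symm))
    have hlt : A < A ⊔ zpowers y := lt_of_le_of_ne le_sup_left fun e => hy
      (e ▸ mem_sup_right (mem_zpowers y))
    have h32 : Nat.card (A ⊔ zpowers y : Subgroup H) ∣ 32 := hcard ▸ card_subgroup_dvd_card _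
    have hd := card_dvd_of_le (le_sup_left : A ≤ A ⊔ zpowers y)
    have hne : Nat.card A ≠ Nat.card (A ⊔ zpowers y : Subgroup H) := fun e =>
      hlt.ne (Subgroup.eq_of_le_of_card_ge le_sup_left e.ge)
    obtain ⟨i, hi, hi'⟩ := (Nat.dvd_prime_pow Nat.prime_two).1 (show _ ∣ 2 ^ 5 from h32)
    have hA32 := Nat.le_of_dvd (by rw [hi']; positivity) hd
    have h' : Nat.card (A ⊔ zpowers y : Subgroup H) = 32 := by
      rw [hi'] at hne hA32 ⊢
      interval_cases i <;> omega
    have htp : A ⊔ zpowers y = ⊤ := Subgroup.eq_top_of_card_eq _ (h'.trans hcard.symm)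
    exact mem_center_iff.2 fun v => mem_centralizer_singleton_iff.1 (hle (htp ▸ mem_top v))
  have := card_le_two_mul A Z hZA fun a ha b hb han hbn => hcen _ (mul_mem ha hb)
    (hmul y a b (fun e => han (hcen a ha e)) fun e => hbn (hcen b hb e))
  omega

/-- With one class every involution is central in a Sylow 2-subgroup. -/
theorem two_central_of_one_class (hone : ∀ x y : G, orderOf x = 2 → orderOf y = 2 → IsConj x y) (t : G)
    (ht : orderOf t = 2) : IsTwoCentralInvolution t := by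
  classical
  haveI : Fact (Nat.Prime 2) := ⟨Nat.prime_two⟩
  obtain ⟨P⟩ : Nonempty (Sylow 2 G) := inferInstance
  have h2 : 2 ∣ Nat.card (P : Subgroup G) := P.dvd_card_of_dvd_card (ht ▸ orderOf_dvd_natCard t)
  haveI : Nontrivial (P : Subgroup G) := by
    by_contra h
    rw [not_nontrivial_iff_subsingleton] at h
    rw [Nat.card_of_subsingleton (1 : (P : Subgroup G))] at h2
    norm_num at h2
  haveI := P.isPGroup'.center_nontrivial
  have hd : 2 ∣ Nat.card (center (P : Subgroup G)) := by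
    obtain ⟨i, hi⟩ := IsPGroup.iff_card.1 (P.isPGroup'.to_subgroup (center (P : Subgroup G)))
    rw [hi]
    rcases i with _ | i
    · exfalso
      have := Finite.one_lt_card (α := center (P : Subgroup G))
      rw [hi] at this
      norm_num at this
    · exact dvd_pow_self 2 (by omega)
  obtain ⟨c, hc⟩ := exists_prime_orderOf_dvd_card' 2 hd
  have hcG : orderOf ((c : (P : Subgroup G)) : G) = 2 := by rw [Subgroup.orderOf_coe, Subgroup.orderOf_coe, hc]
  obtain ⟨g, hg⟩ := isConj_iff.1 (hone _ t hcG ht)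
  have hmem : ∀ x, x ∈ (g • P : Sylow 2 G) → ∃ p ∈ (P : Subgroup G), x = g * p * g⁻¹ := by
    intro x hx
    obtain ⟨p, hp, rfl⟩ := (hx : x ∈ MulAut.conj g • (P : Subgroup G))
    exact ⟨p, hp, rfl⟩
  refine ⟨ht, g • P, ?_, fun x hx => ?_⟩
  · show t ∈ MulAut.conj g • (P : Subgroup G)
    exact ⟨_, (c : (P : Subgroup G)).2, hg⟩
  · obtain ⟨p, hp, rfl⟩ := hmem x hx
    rw [← hg, conj_mul, conj_mul]
    exact congrArg (fun w => g * w * g⁻¹) (congrArg Subtype.val (mem_center_iff.1 c.2 ⟨p, hp⟩))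

/-- `Q` is self-centralising. -/
theorem centralizer_le [IsSimpleGroup G] (z : G) (hz : IsTwoCentralInvolution z)
    (Qc : Subgroup (centralizer ({z} : Set G))) [Qc.Normal]
    (hex : Cfsg.IsExtraspecial 2 Qc) (hcard : Nat.card Qc = 32)
    (eA : (centralizer ({z} : Set G)) ⧸ Qc ≃* alternatingGroup (Fin 5)) :
    centralizer (Qc : Set (centralizer ({z} : Set G))) ≤ Qc := by
  classical
  haveI : Fact (Nat.Prime 2) := ⟨Nat.prime_two⟩
  obtain ⟨hzo, P0, hzP0, hP0c⟩ := hz
  have hz2 : z * z = 1 := by rw [← pow_two, ← hzo, pow_orderOf_eq_one]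
  have hz1 : z ≠ 1 := fun h => by simp [h] at hzo
  have hCmem : ∀ x, x ∈ (centralizer ({z} : Set G)) ↔ x * z = z * x := fun x => mem_centralizer_singleton_iff
  have hP0C : (P0 : Subgroup G) ≤ centralizer ({z} : Set G) := fun x hx => (hCmem x).2 (hP0c x hx)
  let π : (centralizer ({z} : Set G)) →* alternatingGroup (Fin 5) := eA.toMonoidHom.comp (QuotientGroup.mk' Qc)
  have hπ : ∀ c : (centralizer ({z} : Set G)), π c = 1 ↔ c ∈ Qc := fun c => by
    show eA (QuotientGroup.mk' Qc c) = 1 ↔ _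
    rw [map_eq_one_iff _ eA.injective]; exact QuotientGroup.eq_one_iff c
  have hπs : Function.Surjective π := eA.surjective.comp (QuotientGroup.mk'_surjective Qc)
  set zC : centralizer ({z} : Set G) := ⟨z, (hCmem z).2 rfl⟩ with hzC
  have hzcen : ∀ c : centralizer ({z} : Set G), c * zC = zC * c := fun c => Subtype.ext ((hCmem c).1 c.2)
  have hzQ : zC ∈ Qc := by
    rw [← hπ]
    refine (show ∀ σ : alternatingGroup (Fin 5), (∀ τ, σ * τ = τ * σ) → σ = 1 by decide +kernel) _ fun τ => ?_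
    obtain ⟨c, rfl⟩ := hπs τ
    rw [← map_mul, ← map_mul, hzcen]
  have hES : PGroup.IsES 2 ↥Qc := PGroup.isES_of_isExtraspecial hex
  have hQcen : ∀ r : Qc, r ∈ center Qc → ((r : centralizer ({z} : Set G)) = 1 ∨
      (r : centralizer ({z} : Set G)) = zC) := by
    intro r hr
    have hzc : (⟨zC, hzQ⟩ : Qc) ∈ center Qc := mem_center_iff.2 fun g => Subtype.ext (hzcen g)
    have huniq := (Nat.card_eq_two_iff' (1 : center Qc)).mp hES.card_center
    by_cases h : (⟨r, hr⟩ : center Qc) = 1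
    · exact Or.inl (congrArg (fun w : center Qc => ((w : Qc) : centralizer ({z} : Set G))) h)
    · refine Or.inr (congrArg (fun w : center Qc => ((w : Qc) : centralizer ({z} : Set G)))
        (huniq.unique h (y₂ := ⟨⟨zC, hzQ⟩, hzc⟩) fun h' => hz1 ?_))
      exact congrArg (fun w : center Qc => (((w : Qc) : centralizer ({z} : Set G)) : G)) h'
  by_contra hKQ
  set K := centralizer (Qc : Set (centralizer ({z} : Set G))) with hK
  haveI hKn : K.Normal := inferInstance
  -- `C = Q K`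
  have hKtop : K.map π = ⊤ := by
    haveI : IsSimpleGroup (alternatingGroup (Fin 5)) := alternatingGroup.isSimpleGroup_five
    rcases (Normal.map hKn π hπs).eq_bot_or_eq_top with h | h
    · exact absurd (fun c hc => (hπ c).1 ((Subgroup.eq_bot_iff_forall _).1 h _ ⟨c, hc, rfl⟩)) hKQ
    · exact h
  have hdec : ∀ c : centralizer ({z} : Set G), ∃ k ∈ K, ∃ q ∈ Qc, c = k * q := by
    intro c
    obtain ⟨k, hk, hke⟩ := hKtop.ge (mem_top (π c))
    exact ⟨k, hk, k⁻¹ * c, (hπ _).1 (by rw [map_mul, map_inv, hke, inv_mul_cancel]), by group⟩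
  have hKc : ∀ k ∈ K, ∀ q ∈ Qc, k * q = q * k := fun k hk q hq => (mem_centralizer_iff.1 hk q hq).symm
  -- commutators in a Sylow subgroup of `C` lie in `⟨z⟩`
  have hcomm : ∀ p ∈ (P0 : Subgroup G), ∀ r ∈ (P0 : Subgroup G),
      p * r * p⁻¹ * r⁻¹ = 1 ∨ p * r * p⁻¹ * r⁻¹ = z := by
    intro p hp r hr
    set pC : centralizer ({z} : Set G) := ⟨p, hP0C hp⟩
    set rC : centralizer ({z} : Set G) := ⟨r, hP0C hr⟩
    have hab : π pC * π rC = π rC * π pC := by
      have h4 : ∀ σ τ : alternatingGroup (Fin 5), σ ^ 4 = 1 → τ ^ 4 = 1 → (σ * τ) ^ 4 = 1 → σ * τ = τ * σ := by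
        decide +kernel
      have hp4 : ∀ c : centralizer ({z} : Set G), (c : G) ∈ (P0 : Subgroup G) → π c ^ 4 = 1 := by
        intro c hc
        obtain ⟨n, hn⟩ := P0.isPGroup' ⟨c, hc⟩
        have hc1 : c ^ 2 ^ n = 1 := Subtype.ext (by
          rw [Subgroup.coe_pow]; exact congrArg Subtype.val hn)
        have h1 : orderOf (π c) ∣ 2 ^ n := orderOf_dvd_of_pow_eq_one (by rw [← map_pow, hc1, map_one])
        obtain ⟨i, -, hi⟩ := (Nat.dvd_prime_pow Nat.prime_two).1 h1
        have h2 : orderOf (π c) ∣ 60 := by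
          have := orderOf_dvd_natCard (π c)
          rwa [Nat.card_eq_fintype_card, show Fintype.card (alternatingGroup (Fin 5)) = 60 from rfl] at this
        refine orderOf_dvd_iff_pow_eq_one.1 ?_
        rw [hi] at h2 ⊢
        rcases Nat.lt_or_ge i 3 with hlt | hge
        · exact Nat.pow_dvd_pow 2 (by omega : i ≤ 2)
        · exact absurd ((Nat.pow_dvd_pow 2 hge).trans h2) (by norm_num)
      refine h4 _ _ (hp4 pC hp) (hp4 rC hr) ?_
      rw [← map_mul]
      exact hp4 (pC * rC) (mul_mem hp hr)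
    obtain ⟨k1, hk1, q1, hq1, e1⟩ := hdec pC
    obtain ⟨k2, hk2, q2, hq2, e2⟩ := hdec rC
    have hkk : k1 * k2 * k1⁻¹ * k2⁻¹ ∈ Qc := (hπ _).1 (by
      have p1 : π pC = π k1 := by rw [e1, map_mul, (hπ q1).2 hq1, mul_one]
      have p2 : π rC = π k2 := by rw [e2, map_mul, (hπ q2).2 hq2, mul_one]
      simp only [map_mul, map_inv, ← p1, ← p2, hab, mul_inv_cancel_right, mul_inv_cancel])
    have hkc : k1 * k2 * k1⁻¹ * k2⁻¹ = 1 ∨ k1 * k2 * k1⁻¹ * k2⁻¹ = zC :=
      hQcen ⟨_, hkk⟩ (mem_center_iff.2 fun q => Subtype.ext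
        (hKc _ (mul_mem (mul_mem (mul_mem hk1 hk2) (inv_mem hk1)) (inv_mem hk2)) q q.2).symm)
    have hqc : q1 * q2 * q1⁻¹ * q2⁻¹ = 1 ∨ q1 * q2 * q1⁻¹ * q2⁻¹ = zC :=
      hQcen ⟨_, mul_mem (mul_mem (mul_mem hq1 hq2) (inv_mem hq1)) (inv_mem hq2)⟩ (by
        have := hES.comm_mem ⟨q1, hq1⟩ ⟨q2, hq2⟩
        rw [commutatorElement_def] at this
        exact this)
    have he : pC * rC * pC⁻¹ * rC⁻¹ = (k1 * k2 * k1⁻¹ * k2⁻¹) * (q1 * q2 * q1⁻¹ * q2⁻¹) := by
      have c12 := hKc k2 hk2 q1 hq1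
      have c11 := hKc k1 hk1 q2 hq2
      have ci : ∀ k ∈ K, ∀ q ∈ Qc, k⁻¹ * q = q * k⁻¹ := fun k hk q hq => hKc _ (inv_mem hk) q hq
      rw [e1, e2]
      calc k1 * q1 * (k2 * q2) * (k1 * q1)⁻¹ * (k2 * q2)⁻¹
          = k1 * (q1 * k2) * (q2 * q1⁻¹) * (k1⁻¹ * q2⁻¹) * k2⁻¹ := by group
        _ = k1 * k2 * q1 * (q2 * q1⁻¹) * (q2⁻¹ * k1⁻¹) * k2⁻¹ := by
          rw [← c12, ci k1 hk1 _ (inv_mem hq2)]; group
        _ = k1 * k2 * ((q1 * q2 * q1⁻¹ * q2⁻¹) * (k1⁻¹ * k2⁻¹)) := by group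
        _ = k1 * k2 * ((k1⁻¹ * k2⁻¹) * (q1 * q2 * q1⁻¹ * q2⁻¹)) := by
          rw [hKc _ (mul_mem (inv_mem hk1) (inv_mem hk2)) _
            (mul_mem (mul_mem (mul_mem hq1 hq2) (inv_mem hq1)) (inv_mem hq2))]
        _ = _ := by group
    have hval : p * r * p⁻¹ * r⁻¹ = ((pC * rC * pC⁻¹ * rC⁻¹ : centralizer ({z} : Set G)) : G) := rfl
    rw [hval, he]
    rcases hkc with h | h <;> rcases hqc with h' | h' <;> rw [h, h']
    · left; simp
    · right; simp [hzC]
    · right; simp [hzC]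
    · left; simp [hzC, hz2]
  -- a Sylow subgroup containing a given 2-subgroup of `C`
  have hinto : ∀ R : Subgroup G, IsPGroup 2 R → R ≤ centralizer ({z} : Set G) →
      ∃ c ∈ centralizer ({z} : Set G), ∀ x ∈ R, c * x * c⁻¹ ∈ (P0 : Subgroup G) := by
    intro R hR hRC
    let S0 : Sylow 2 (centralizer ({z} : Set G)) := P0.subtype hP0C
    obtain ⟨S1, hS1⟩ := (hR.comap_of_injective (centralizer ({z} : Set G)).subtype Subtype.val_injective).exists_le_sylow
    obtain ⟨c, hc⟩ := MulAction.exists_smul_eq (centralizer ({z} : Set G)) S1 S0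
    refine ⟨c, c.2, fun x hx => ?_⟩
    have h1 : (⟨x, hRC hx⟩ : centralizer ({z} : Set G)) ∈ (S1 : Subgroup _) := hS1 (show x ∈ R from hx)
    have h2 : c * ⟨x, hRC hx⟩ * c⁻¹ ∈ (S0 : Subgroup _) := by
      rw [← hc]; exact ⟨_, h1, rfl⟩
    exact h2
  -- a conjugate of `z` commuting with it
  obtain ⟨g, hgC, hgne⟩ : ∃ g : G, g * z * g⁻¹ ∈ (centralizer ({z} : Set G)) ∧ g * z * g⁻¹ ≠ z := by
    by_contra hh
    have hiso : IsIsolatedInvolution z := ⟨hzo, fun g hg => by
      by_contra hne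
      exact hh ⟨g, (hCmem _).2 hg.eq.symm, hne⟩⟩
    have hzs := ZStar.zStar_of_brauerSuzuki ZStar.uniqueInvolution hiso
    rcases (Cores.pPrimeCore_normal 2 G).eq_bot_or_eq_top with hb | ht
    · have hcen : z ∈ center G := mem_center_iff.2 fun g => by
        have h1 := hzs g
        rw [hb, mem_bot] at h1
        calc g * z = (z * g * z⁻¹ * g⁻¹) * (g * z) := by rw [h1, one_mul]
          _ = z * g := by group
      have htop : center G = ⊤ := (inferInstance : (center G).Normal).eq_bot_or_eq_top.resolve_left fun hb' =>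
        hz1 (mem_bot.1 (hb' ▸ hcen))
      obtain ⟨σ, τ, hστ⟩ : ∃ σ τ : alternatingGroup (Fin 5), σ * τ ≠ τ * σ := by decide +kernel
      obtain ⟨c, rfl⟩ := hπs σ
      obtain ⟨d, rfl⟩ := hπs τ
      apply hστ
      rw [← map_mul, ← map_mul]
      exact congrArg π (Subtype.ext ((mem_center_iff.1 (htop.ge (mem_top (d : G))) c)))
    · have h1 := Cores.coprime_card_pPrimeCore (G := G) 2
      rw [ht, Subgroup.card_top] at h1
      have h2 : 2 ∣ Nat.card G := hzo ▸ orderOf_dvd_natCard z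
      have := Nat.eq_one_of_dvd_coprimes h1 h2 dvd_rfl
      norm_num at this
  -- two non-commuting elements of `Q` centralising it
  set u := g * z * g⁻¹ with hu
  obtain ⟨k0, hk0, q0, hq0, e0⟩ := hdec ⟨u, hgC⟩
  obtain ⟨a, b, ha, hb, hne⟩ := exists_comm_pair hES hcard ⟨q0, hq0⟩
  let aG : G := ((a : centralizer ({z} : Set G)) : G)
  let bG : G := ((b : centralizer ({z} : Set G)) : G)
  have hcu : ∀ c : Qc, Commute c (⟨q0, hq0⟩ : Qc) →
      g⁻¹ * ((c : centralizer ({z} : Set G)) : G) * g ∈ centralizer ({z} : Set G) := by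
    intro c hc
    have h1 : (c : centralizer ({z} : Set G)) * ⟨u, hgC⟩ = ⟨u, hgC⟩ * c := by
      rw [e0, ← mul_assoc, ← hKc k0 hk0 c c.2, mul_assoc, mul_assoc]
      exact congrArg (k0 * ·) (congrArg Subtype.val hc.eq)
    have h2 : ((c : centralizer ({z} : Set G)) : G) * u = u * ((c : centralizer ({z} : Set G)) : G) :=
      congrArg Subtype.val h1
    rw [hCmem]
    calc g⁻¹ * ((c : centralizer ({z} : Set G)) : G) * g * z
        = g⁻¹ * (((c : centralizer ({z} : Set G)) : G) * u) * g := by rw [hu]; group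
      _ = g⁻¹ * (u * ((c : centralizer ({z} : Set G)) : G)) * g := by rw [h2]
      _ = _ := by rw [hu]; group
  -- the commutator of `a` and `b` is `z`
  have habz : aG * bG * aG⁻¹ * bG⁻¹ = z := by
    have hm := hES.comm_mem a b
    rcases hQcen _ hm with h | h
    · exfalso
      apply hne
      have : ⁅a, b⁆ = 1 := Subtype.ext h
      rwa [commutatorElement_eq_one_iff_mul_comm] at this
    · have := congrArg (fun w : centralizer ({z} : Set G) => (w : G)) h
      simpa [commutatorElement_def, aG, bG, hzC] using this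
  -- the images in `C`
  set R : Subgroup G := (closure ({a, b} : Set Qc)).map
    ((MulAut.conj g⁻¹).toMonoidHom.comp ((centralizer ({z} : Set G)).subtype.comp Qc.subtype)) with hRdef
  have hRp : IsPGroup 2 R := ((IsPGroup.of_card (n := 5) (hcard.trans rfl)).to_subgroup _).map _
  have hRC : R ≤ centralizer ({z} : Set G) := by
    rw [hRdef, MonoidHom.map_closure, closure_le]
    rintro _ ⟨c, hc, rfl⟩
    rcases hc with rfl | rfl
    · simpa using hcu c ha
    · simpa using hcu c hb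
  obtain ⟨c, hc, hcP⟩ := hinto R hRp hRC
  have hA : c * (g⁻¹ * aG * g) * c⁻¹ ∈ (P0 : Subgroup G) := hcP _ ⟨a, subset_closure (by simp), by simp [aG]⟩
  have hB : c * (g⁻¹ * bG * g) * c⁻¹ ∈ (P0 : Subgroup G) := hcP _ ⟨b, subset_closure (by simp), by simp [bG]⟩
  have key : c * (g⁻¹ * z * g) * c⁻¹ = 1 ∨ c * (g⁻¹ * z * g) * c⁻¹ = z := by
    have e := hcomm _ hA _ hB
    rwa [show c * (g⁻¹ * aG * g) * c⁻¹ * (c * (g⁻¹ * bG * g) * c⁻¹) * (c * (g⁻¹ * aG * g) * c⁻¹)⁻¹ *
      (c * (g⁻¹ * bG * g) * c⁻¹)⁻¹ = c * (g⁻¹ * (aG * bG * aG⁻¹ * bG⁻¹) * g) * c⁻¹ by group, habz] at e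
  rcases key with h | h
  · exact hz1 (by
      calc z = g * (c⁻¹ * (c * (g⁻¹ * z * g) * c⁻¹) * c) * g⁻¹ := by group
        _ = 1 := by rw [h]; group)
  · apply hgne
    have h' : c * (g⁻¹ * z * g) = c * z := by
      rw [(hCmem c).1 hc]; exact mul_inv_eq_iff_eq_mul.1 h
    have h'' := mul_left_cancel h'
    calc g * z * g⁻¹ = g * (g⁻¹ * z * g) * g⁻¹ := by rw [h'']
      _ = z := by group

end Cfsg.Agent.JThreeType
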