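import Cfsg.Prelude.Def_SporadicB
import Cfsg.Agent.Lib.JThreeType.Recog
import Cfsg.Agent.Lib.JThreeType.SelfCent
import Cfsg.Agent.Lib.JTwoType.WeakClosure
import Cfsg.Agent.Lib.U62Cover.Field

/-!
# Simple groups of type `J₃`

* `exists_iso_of_simple`, `isoJ3_of_simple`, `isJ3_of_simple`
-/

set_option autoImplicit false
set_option linter.style.haveILetI false

namespace Cfsg.Agent.JThreeType

open Cfsg Subgroup

variable {G : Type*} [Group G] [Finite G] [IsSimpleGroup G]

theorem exists_data_of_simple (t : G) (hS : IsTwoCentralInvolution t) (ht : orderOf t = 2)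
    (Q : Subgroup (centralizer ({t} : Set G))) [Q.Normal] (hQ : Cfsg.IsExtraspecial 2 Q) (hcard : Nat.card Q = 32)
    (e : (centralizer ({t} : Set G)) ⧸ Q ≃* alternatingGroup (Fin 5)) : ∃ D : Data G, D.z = t := by
  have hc : Nat.card Q = 2 ^ 5 := by rw [hcard]; rfl
  have h2c := centralizer_le t hS Q hQ hcard e
  have hminus := no_elementary_eight t ht Q h2c hQ hc e
  exact exists_data t ht Q h2c hQ hc e (JTwoType.exists_conj_mem t ht Q hQ hcard hminus h2c e)

theorem exists_iso_of_simple {F : Type} [Field F] {ω : F} (h2 : (2 : F) = 0) (hω : ω ^ 2 + ω + 1 = 0)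
    (hone : ∀ x y : G, orderOf x = 2 → orderOf y = 2 → IsConj x y) (t : G) (ht : orderOf t = 2)
    (Q : Subgroup (centralizer ({t} : Set G))) [Q.Normal] (hQ : Cfsg.IsExtraspecial 2 Q) (hcard : Nat.card Q = 32)
    (e : (centralizer ({t} : Set G)) ⧸ Q ≃* alternatingGroup (Fin 5)) : Nonempty (G ≃* Spor.J3 F ω) := by
  obtain ⟨D, -⟩ := exists_data_of_simple t (two_central_of_one_class hone t ht) ht Q hQ hcard e
  exact D.exists_iso h2 hω hone

/-- The field with four elements. -/
theorem exists_field : ∃ (F : Type) (_ : Field F) (_ : Fintype F) (ω : F),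
    Fintype.card F = 4 ∧ (2 : F) = 0 ∧ ω ^ 2 + ω + 1 = 0 := by
  have hc : Nat.card (GaloisField 2 2) = 4 := by rw [GaloisField.card 2 2 (by norm_num)]; norm_num
  haveI : Finite (GaloisField 2 2) := Nat.finite_of_card_ne_zero (by omega)
  letI : Fintype (GaloisField 2 2) := Fintype.ofFinite _
  have hF : Fintype.card (GaloisField 2 2) = 4 := by rw [← Nat.card_eq_fintype_card, hc]
  have h2 : (2 : GaloisField 2 2) = 0 := U62Cover.two_eq_zero hF
  obtain ⟨w, -, hw⟩ := U62Cover.exists_omega hF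
  exact ⟨GaloisField 2 2, inferInstance, inferInstance, w, hF, h2, by linear_combination hw + (w + 1) * h2⟩

theorem isoJ3_of_simple (hone : ∀ x y : G, orderOf x = 2 → orderOf y = 2 → IsConj x y) (t : G) (ht : orderOf t = 2)
    (Q : Subgroup (centralizer ({t} : Set G))) [Q.Normal] (hQ : Cfsg.IsExtraspecial 2 Q) (hcard : Nat.card Q = 32)
    (e : (centralizer ({t} : Set G)) ⧸ Q ≃* alternatingGroup (Fin 5)) : Cfsg.Spor.IsoJ3 G := by
  obtain ⟨F, _, _, ω, hF, h2, hω⟩ := exists_field
  exact ⟨F, inferInstance, inferInstance, ω, hF, hω, exists_iso_of_simple h2 hω hone t ht Q hQ hcard e⟩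

theorem isJ3_of_simple (hone : ∀ x y : G, orderOf x = 2 → orderOf y = 2 → IsConj x y) (t : G) (ht : orderOf t = 2)
    (Q : Subgroup (centralizer ({t} : Set G))) [Q.Normal] (hQ : Cfsg.IsExtraspecial 2 Q) (hcard : Nat.card Q = 32)
    (e : (centralizer ({t} : Set G)) ⧸ Q ≃* alternatingGroup (Fin 5)) : Cfsg.IsJ3 G := by
  obtain ⟨F, _, _, ω, -, h2, hω⟩ := exists_field
  obtain ⟨f⟩ := exists_iso_of_simple h2 hω hone t ht Q hQ hcard e
  exact ⟨inferInstance, by rw [Nat.card_congr f.toEquiv, (JankoThree.simple_J3 h2 hω).2]⟩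

end Cfsg.Agent.JThreeType
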