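import Cfsg.Agent.Lib.JThreeType.Conj

/-!
# Groups of type `J₃`: the elementary group of order sixteen and its spread

* `Data.Outer.E_sq`, `Data.Outer.E_self`
* `Data.Outer.reframe`: every involution of `E` may serve as the central one
* `Data.Outer.line`: the five lines
* `Data.Outer.card_norm`: `|N(E)| = 2880`
-/

set_option autoImplicit false
set_option linter.unusedSectionVars false
set_option linter.style.haveILetI false

namespace Cfsg.Agent.JThreeType

open Cfsg Subgroup OrderJTwo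
open scoped commutatorElement Pointwise

variable {G : Type*} [Group G] [Finite G]

namespace Data

variable {D : Data G}

theorem fix_unique {v : G} (hv : D.Outer v) {i j : Fin 5}
    (hi : (D.psi ⟨v, D.mem_C.2 hv.comm⟩).1 i = i) (hj : (D.psi ⟨v, D.mem_C.2 hv.comm⟩).1 j = j) : i = j := by
  obtain ⟨k, -, huniq⟩ := JTwoType.Alt5.one_fixed _ hv.psi_sq.1 hv.psi_sq.2
  exact (huniq i hi).trans (huniq j hj).symm

theorem four_le_Q (i : Fin 5) : four D.hQ (D.u_mem i) ≤ D.Q := by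
  rintro x (rfl | rfl | rfl | rfl)
  exacts [one_mem _, D.hQ.zmem, (D.u_mem i).1, mul_mem (D.u_mem i).1 D.hQ.zmem]

theorem E_comm_z {t x : G} (hx : x ∈ D.E t) : x * D.z = D.z * x := (mem_E.1 hx).1

theorem Outer.z_mem {t : G} (ht : D.Outer t) : D.z ∈ D.E t := mem_E.2 ⟨rfl, ht.comm.symm⟩

theorem Outer.t_mem {t : G} (ht : D.Outer t) : t ∈ D.E t := mem_E.2 ⟨ht.comm, rfl⟩

theorem Outer.exists_four {t : G} (ht : D.Outer t) : ∃ i : Fin 5,
    (D.psi ⟨t, D.mem_C.2 ht.comm⟩).1 i = i ∧ four D.hQ (D.u_mem i) ≤ D.E t ∧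
    ∀ q ∈ D.E t, q ∈ D.Q → q ∈ four D.hQ (D.u_mem i) := by
  obtain ⟨i, hi, hti, hC, -⟩ := ht.spec
  refine ⟨i, hi, ?_, fun q hq hqQ => hC q hqQ (mul_inv_eq_iff_eq_mul.2 (mem_E.1 hq).2.symm)⟩
  have hu : D.u i ∈ D.E t := mem_E.2 ⟨D.u_comm, hti.symm⟩
  rintro x (rfl | rfl | rfl | rfl)
  exacts [one_mem _, ht.z_mem, hu, mul_mem hu ht.z_mem]

/-- The pair of an outer involution is fixed by anything commuting with it. -/
theorem Outer.comm_u {t : G} (ht : D.Outer t) {i : Fin 5} (hi : (D.psi ⟨t, D.mem_C.2 ht.comm⟩).1 i = i)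
    {r : G} (hr : r ∈ D.E t) : r * D.u i = D.u i * r := by
  obtain ⟨j, hj, hu, hq⟩ := ht.exists_four
  obtain rfl := fix_unique ht hj hi
  obtain ⟨hrz, hrt⟩ := mem_E.1 hr
  have hfour : ∀ x ∈ four D.hQ (D.u_mem j), x * D.u j = D.u j * x := by
    rintro x (rfl | rfl | rfl | rfl)
    · simp
    · exact D.u_comm.symm
    · rfl
    · rw [mul_assoc, ← D.u_comm, ← mul_assoc]
  by_cases hrQ : r ∈ D.Q
  · exact hfour r (hq r hr hrQ)
  set g : centralizer ({D.z} : Set G) := ⟨r, D.mem_C.2 hrz⟩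
  obtain ⟨hr2, hrfix⟩ := JTwoType.Alt5.commuting _ (D.psi g) ht.psi_sq.1 ht.psi_sq.2 (by
    rw [← map_mul, ← map_mul]; exact congrArg D.psi (Subtype.ext hrt))
  have hgi : D.φ g j = j := hrfix j hj
  have hact := D.act g j
  rw [hgi] at hact
  rcases hact with h | h
  · exact mul_inv_eq_iff_eq_mul.1 h
  exfalso
  have h' : r * D.u j * r⁻¹ = D.u j * D.z := h
  have hne : r * D.u j * r⁻¹ ≠ D.u j := fun e =>
    D.hQ.zne (mul_left_cancel ((h'.symm.trans e).trans (mul_one _).symm))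
  have hrr : r * r ∈ D.Q := (D.psi_ker (g * g)).1 (by rw [map_mul, hr2])
  have hfix : ∀ v (hv : D.Outer v), D.φ ⟨v, D.mem_C.2 hv.comm⟩ j = j → v * D.u j = D.u j * v := fun v hv hvj => by
    obtain ⟨k, hk, hvk, -, -⟩ := hv.spec
    obtain rfl := fix_unique hv hk hvj
    exact hvk
  have hself : r * (r * r) * r⁻¹ = r * r := by group
  have hcase : r * r = 1 ∨ r * r = D.z := by
    rcases hq _ (mul_mem hr hr) hrr with e | e | e | e
    · exact Or.inl e
    · exact Or.inr e
    · exact absurd (e ▸ hself) hne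
    · exfalso
      rw [e, D.conj_mul_z hrz] at hself
      exact hne (mul_right_cancel hself)
  rcases hcase with e | e
  · exact hne (mul_inv_eq_iff_eq_mul.2 (hfix r ⟨hrz, e, hrQ⟩ hgi))
  · have hv : D.Outer (r * D.u j) := ⟨D.mem_C.1 (mul_mem g.2 (D.le (D.u_mem j).1)), by
      calc r * D.u j * (r * D.u j) = (r * D.u j * r⁻¹) * (r * r) * D.u j := by group
        _ = D.u j * (D.z * D.z) * D.u j := by rw [h', e]; group
        _ = 1 := by rw [D.z2, mul_one, D.u_sq],
      fun hh => hrQ (by simpa using mul_mem hh (inv_mem (D.u_mem j).1))⟩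
    have h2 := hfix _ hv (by
      show D.φ (g * ⟨D.u j, D.le (D.u_mem j).1⟩) j = j
      rw [map_mul, (D.ker ⟨D.u j, _⟩).2 (D.u_mem j).1, mul_one, hgi])
    refine hne (mul_inv_eq_iff_eq_mul.2 ?_)
    have e1 : r = D.u j * r * D.u j := by
      rw [mul_assoc r, D.u_sq, mul_one, ← mul_assoc] at h2
      exact h2
    calc r * D.u j = D.u j * r * D.u j * D.u j := by rw [← e1]
      _ = D.u j * r := by rw [mul_assoc (D.u j * r), D.u_sq, mul_one]

theorem Outer.E_comm {t : G} (ht : D.Outer t) : ∀ x ∈ D.E t, ∀ y ∈ D.E t, x * y = y * x := by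
  classical
  haveI : Fact (Nat.Prime 2) := ⟨Nat.prime_two⟩
  obtain ⟨i, hi, hu, -⟩ := ht.exists_four
  set Z := center (D.E t)
  have hU : Subgroup.closure ({D.z, D.u i, t} : Set G) ≤ D.E t := (closure_le _).2 (by
    rintro x (rfl | rfl | rfl)
    exacts [ht.z_mem, hu (Or.inr (Or.inr (Or.inl rfl))), ht.t_mem])
  have hcen : (Subgroup.closure ({D.z, D.u i, t} : Set G)).subgroupOf (D.E t) ≤ Z := by
    intro x hx
    refine mem_center_iff.2 fun r => Subtype.ext ?_
    have hle : Subgroup.closure ({D.z, D.u i, t} : Set G) ≤ centralizer ({(r : G)} : Set G) := (closure_le _).2 (by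
      rintro y (rfl | rfl | rfl) <;> refine mem_centralizer_singleton_iff.2 ?_
      exacts [(mem_E.1 r.2).1.symm, (ht.comm_u hi r.2).symm, (mem_E.1 r.2).2.symm])
    exact (mem_centralizer_singleton_iff.1 (hle hx)).symm
  have h5 : 5 ≤ Nat.card Z := by
    have h1 : four D.hQ (D.u_mem i) ≤ Subgroup.closure ({D.z, D.u i, t} : Set G) := by
      rintro x (rfl | rfl | rfl | rfl)
      exacts [one_mem _, subset_closure (by simp), subset_closure (by simp),
        mul_mem (subset_closure (by simp)) (subset_closure (by simp))]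
    have h2 : four D.hQ (D.u_mem i) < Subgroup.closure ({D.z, D.u i, t} : Set G) := lt_of_le_of_ne h1 fun e =>
      ht.out (four_le_Q i (e ▸ subset_closure (by simp)))
    have h3 : Nat.card (four D.hQ (D.u_mem i)) < Nat.card (Subgroup.closure ({D.z, D.u i, t} : Set G)) := by
      refine lt_of_le_of_ne (Subgroup.card_le_of_le h1) fun e => h2.ne (Subgroup.eq_of_le_of_card_ge h1 e.ge)
    have h4 := Subgroup.card_le_of_le hcen
    rw [Nat.card_congr (subgroupOfEquivOfLe hU).toEquiv] at h4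
    rw [card_four] at h3
    omega
  have hd : Nat.card Z ∣ 2 ^ 4 := by
    have := card_subgroup_dvd_card Z
    rwa [ht.card_E] at this
  obtain ⟨k, hk, hk'⟩ := (Nat.dvd_prime_pow Nat.prime_two).1 hd
  have hmul := Z.card_mul_index
  rw [ht.card_E, hk'] at hmul
  rw [hk'] at h5
  have hidx : Z.index ≤ 2 := by interval_cases k <;> omega
  haveI : IsCyclic (D.E t ⧸ Z) := by
    rcases (show Z.index = 1 ∨ Z.index = 2 by have := Z.index_ne_zero_of_finite; omega) with h | h
    · haveI : Subsingleton (D.E t ⧸ Z) := (Nat.card_eq_one_iff_unique.1 h).1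
      infer_instance
    · exact isCyclic_of_prime_card (p := 2) h
  intro x hx y hy
  exact congrArg Subtype.val (commutative_of_cyclic_center_quotient (QuotientGroup.mk' Z)
    (by rw [QuotientGroup.ker_mk']) ⟨x, hx⟩ ⟨y, hy⟩)

theorem Outer.sq_mem_Q {t x : G} (ht : D.Outer t) (hx : x ∈ D.E t) : x * x ∈ D.Q := by
  refine (D.psi_ker ⟨x * x, D.mem_C.2 (E_comm_z (mul_mem hx hx))⟩).1 ?_
  have h := (JTwoType.Alt5.commuting _ (D.psi ⟨x, D.mem_C.2 (E_comm_z hx)⟩) ht.psi_sq.1 ht.psi_sq.2 (by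
    rw [← map_mul, ← map_mul]; exact congrArg D.psi (Subtype.ext (mem_E.1 hx).2))).1
  rw [← h, ← map_mul]
  rfl

/-- An element of `E` lying in `Q` is in the line of `z`. -/
theorem inLine_of_mem_Q (hone : ∀ x y : G, orderOf x = 2 → orderOf y = 2 → IsConj x y) {u : G}
    (hu : u ∈ invSet D.Q D.z) : InLine D.z u := by
  refine ⟨(D.hQ.zcomm u hu.1).symm, fun h => ?_⟩
  obtain ⟨v, hv, hvu⟩ := exists_outer_fixing hone hu
  have hle : D.Q ⊓ centralizer ({u} : Set G) ≤ centralizer ({D.z} : Set G) ⊓ centralizer ({u} : Set G) :=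
    inf_le_inf_right _ D.le
  have heq := Subgroup.eq_of_le_of_card_ge hle (by rw [h]; exact D.card_cent_ge hu.1)
  exact hv.out (heq.ge ⟨D.mem_C.2 hv.comm, mem_centralizer_singleton_iff.2 hvu⟩).1

theorem Outer.not_inLine {v : G} (hv : D.Outer v) : ¬ InLine D.z v := fun h => h.2 hv.card_E

variable (hone : ∀ x y : G, orderOf x = 2 → orderOf y = 2 → IsConj x y)
include hone

/-- Two commuting involutions in the line of `u`. -/
theorem inLine_unique {u a b : G} (hu : orderOf u = 2) (ha : InLine u a) (hb : InLine u b) (ha2 : a * a = 1)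
    (hb2 : b * b = 1) (ha1 : a ≠ 1) (hb1 : b ≠ 1) (hau : a ≠ u) (hbu : b ≠ u) (hab : a * b = b * a)
    (D : Data G) : b = a ∨ b = a * u := by
  obtain ⟨D', rfl⟩ := D.exists_at hone hu
  have key : ∀ x, InLine D'.z x → x * x = 1 → x ≠ 1 → x ≠ D'.z → x ∈ invSet D'.Q D'.z := by
    intro x hx h2 h1 hz
    rcases D'.involution_cases hx.1.eq.symm h2 h1 with e | e | e
    · exact absurd e hz
    · exact e
    · exact absurd hx e.not_inLine
  exact D'.comm2 a (key a ha ha2 ha1 hau) b (key b hb hb2 hb1 hbu) hab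

theorem Outer.E_sq {t : G} (ht : D.Outer t) {x : G} (hx : x ∈ D.E t) : x * x = 1 := by
  set e := x * x with he
  by_contra hne
  have heE : e ∈ D.E t := mul_mem hx hx
  have heQ : e ∈ D.Q := ht.sq_mem_Q hx
  obtain ⟨D', hD'⟩ := D.exists_at hone ht.ord
  have hz' : D'.Outer D.z := by
    rcases D'.involution_cases (x := D.z) (by rw [hD']; exact ht.comm.symm) D.z2 D.hQ.zne with h | h | h
    · exact absurd (h.trans hD') (fun h' => ht.out (h' ▸ D.hQ.zmem))
    · exact absurd (hD' ▸ D'.inLine_of_mem_Q hone h).symm ht.not_inLine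
    · exact h
  have hxE' : x ∈ D'.E D.z := by
    obtain ⟨h1, h2⟩ := mem_E.1 hx
    exact mem_E.2 ⟨by rw [hD']; exact h2, h1⟩
  obtain ⟨i, hi, -, hq⟩ := ht.exists_four
  have heinv : e * e = 1 := by
    rcases hq e heE heQ with h | h | h | h <;> rw [h]
    exacts [one_mul 1, D.z2, D.u_sq i, (mul_mem_invSet D.hQ (D.u_mem i)).2.1]
  have heQ' : e ∈ D'.Q := hz'.sq_mem_Q hxE'
  have hez : e ≠ D.z := fun h => hz'.out (h ▸ heQ')
  have het : e ≠ t := fun h => ht.out (h ▸ heQ)
  have l1 : InLine D.z e := D.inLine_of_mem_Q hone ⟨heQ, heinv, hne, hez⟩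
  have l2 : InLine t e := hD' ▸ D'.inLine_of_mem_Q hone ⟨heQ', heinv, hne, fun h => het (h.trans hD')⟩
  have ht1 : t ≠ 1 := fun h => ht.out (h ▸ one_mem _)
  rcases inLine_unique hone (orderOf_eq_prime (by rw [pow_two]; exact heinv) hne) l1.symm l2.symm D.z2 ht.sq
    D.hQ.zne ht1 hez.symm het.symm ht.comm.symm D with h | h
  · exact ht.out (h ▸ D.hQ.zmem)
  · exact ht.out (h ▸ mul_mem D.hQ.zmem heQ)

theorem Outer.E_self {t : G} (ht : D.Outer t) {x : G} (hx : ∀ y ∈ D.E t, x * y = y * x) : x ∈ D.E t :=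
  mem_E.2 ⟨hx _ ht.z_mem, hx _ ht.t_mem⟩

/-- Every involution of `E` may serve as the central one. -/
theorem Outer.reframe {t : G} (ht : D.Outer t) {a : G} (ha : a ∈ D.E t) (ha1 : a ≠ 1) :
    ∃ (D' : Data G) (t' : G), D'.z = a ∧ D'.Outer t' ∧ D'.E t' = D.E t := by
  have ha2 := ht.E_sq hone ha
  obtain ⟨D', hD'⟩ := D.exists_at hone (orderOf_eq_prime (by rw [pow_two]; exact ha2) ha1)
  obtain ⟨t', ht'E, ht'⟩ : ∃ t' ∈ D.E t, D'.Outer t' := by
    have mk : ∀ b ∈ D.E t, b ≠ 1 → b ≠ a → ¬ InLine a b → ∃ t' ∈ D.E t, D'.Outer t' := by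
      intro b hb hb1 hba hl
      refine ⟨b, hb, ?_⟩
      rcases D'.involution_cases (x := b) (by rw [hD']; exact ht.E_comm b hb a ha) (ht.E_sq hone hb) hb1 with
        h | h | h
      · exact absurd (h.trans hD') hba
      · exact absurd (hD' ▸ D'.inLine_of_mem_Q hone h) hl
      · exact h
    by_cases haz : a = D.z
    · subst haz
      exact mk t ht.t_mem (fun h => ht.out (h ▸ one_mem _)) (fun h => ht.out (h ▸ D.hQ.zmem)) ht.not_inLine
    rcases D.involution_cases (E_comm_z ha) ha2 ha1 with h | h | h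
    · exact absurd h haz
    · have hta : t ≠ a := fun e => ht.out (e ▸ h.1)
      refine mk t ht.t_mem (fun h' => ht.out (h' ▸ one_mem _)) hta fun hl => ?_
      rcases inLine_unique hone (orderOf_eq_prime (by rw [pow_two]; exact ha2) ha1)
        (D.inLine_of_mem_Q hone h).symm hl D.z2 ht.sq D.hQ.zne (fun h' => ht.out (h' ▸ one_mem _))
        (Ne.symm haz) hta ht.comm.symm D with e | e
      · exact ht.out (e ▸ D.hQ.zmem)
      · exact ht.out (e ▸ mul_mem D.hQ.zmem h.1)
    · exact mk D.z ht.z_mem D.hQ.zne (Ne.symm haz) fun hl => h.not_inLine hl.symm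
  refine ⟨D', t', hD', ht', (Subgroup.eq_of_le_of_card_ge (fun y hy => mem_E.2
    ⟨by rw [hD']; exact ht.E_comm y hy a ha, ht.E_comm y hy t' ht'E⟩) ?_).symm⟩
  rw [ht'.card_E, ht.card_E]

end Data

end Cfsg.Agent.JThreeType
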