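import Cfsg.Agent.Lib.JThreeType.Bound
import Cfsg.Agent.Lib.JThreeType.FieldSixteen
import Cfsg.Agent.Lib.GLOrder.Torus

/-!
# The subgroup of order 8160 is an extension of `SL(2, 16)` by a group of order 2

* `Sys.exists_sl_two`
-/

set_option autoImplicit false
set_option linter.unusedSectionVars false
set_option linter.style.haveILetI false
set_option maxRecDepth 20000
set_option maxHeartbeats 800000

namespace Cfsg.Agent.JThreeType

open Subgroup OnePoint
open Table.Cert (val val_cons val_append val_nil)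
open scoped MatrixGroups

namespace SubEight

/-- The images of the seven letters on 17 points. -/
def imgs : List (List ℕ) := [[0, 2, 1, 4, 3, 11, 13, 12, 14, 10, 9, 5, 7, 6, 8, 16, 15], [0, 1, 4, 2, 3, 9, 10, 5, 6, 7, 8, 16, 13, 15, 11, 12, 14], [0, 1, 3, 4, 2, 7, 8, 9, 10, 5, 6, 14, 15, 12, 16, 13, 11], [1, 0, 2, 4, 3, 5, 6, 9, 10, 7, 8, 16, 12, 15, 14, 13, 11], [0, 1, 6, 8, 10, 2, 14, 3, 16, 4, 11, 13, 5, 9, 12, 7, 15], [0, 1, 5, 7, 9, 12, 2, 15, 3, 13, 4, 10, 14, 11, 6, 16, 8], [0, 1, 2, 3, 4, 6, 5, 8, 7, 10, 9, 13, 14, 11, 12, 16, 15]]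

def ivS (a : ℕ) : ℕ := [0, 2, 1, 3, 5, 4, 6].getD a 0

def app (a : ℕ) (i : Fin 17) : Fin 17 := Fin.ofNat 17 ((imgs.getD a []).getD i.val i.val)

theorem app_inv : ∀ a < 7, ∀ i, app (ivS a) (app a i) = i := by decide +kernel

/-- The seven letters as permutations. -/
def sig (a : ℕ) : Equiv.Perm (Fin 17) :=
  if h : a < 7 then ⟨app a, app (ivS a), app_inv a h, fun i => by
    have := app_inv (ivS a) (by
      have : ∀ b < 7, ivS b < 7 ∧ ivS (ivS b) = b := by decide +kernel
      exact (this a h).1) i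
    rwa [show ivS (ivS a) = a by
      have : ∀ b < 7, ivS b < 7 ∧ ivS (ivS b) = b := by decide +kernel
      exact (this a h).2] at this⟩
  else 1

theorem sig_apply {a : ℕ} (h : a < 7) (i : Fin 17) : sig a i = app a i := by
  simp [sig, h]

theorem app_table : ∀ a < 7, ∀ i : Fin 17,
    (app a i).val = Table.smallCert.T (Table.smallCert.iv a) i.val := by decide +kernel

def labT : List ℕ := [1, 2, 9, 10, 15, 16, 3, 4, 14, 8, 6, 13, 5, 11, 7, 12, 0]

def posT : List ℕ := [16, 0, 1, 6, 7, 12, 10, 14, 9, 2, 3, 13, 15, 11, 8, 4, 5]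

instance instDecEqPoint : DecidableEq (OnePoint K16) := inferInstanceAs (DecidableEq (Option K16))

/-- The labels of the projective line. -/
def lbl : OnePoint K16 ≃ Fin 17 where
  toFun x := x.elim 0 fun t => Fin.ofNat 17 (labT.getD t.v.val 0)
  invFun j := if j = 0 then ∞ else ((⟨Fin.ofNat 16 (posT.getD j.val 0)⟩ : K16) : OnePoint K16)
  left_inv x := by
    cases x with
    | infty => rfl
    | coe t =>
      revert t
      decide +kernel
  right_inv j := by
    revert j
    decide +kernel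

/-- A Möbius transformation. -/
def mob (a b c d : K16) (x : OnePoint K16) : OnePoint K16 :=
  x.elim (if c = 0 then ∞ else ((a * c⁻¹ : K16) : OnePoint K16))
    (fun t => if c * t + d = 0 then ∞ else (((a * t + b) * (c * t + d)⁻¹ : K16) : OnePoint K16))

/-- `SL(2, 16)` on 17 points. -/
noncomputable def psi : SL(2, K16) →* Equiv.Perm (Fin 17) :=
  lbl.permCongrHom.toMonoidHom.comp
    ((MulAction.toPermHom (GL (Fin 2) K16) (OnePoint K16)).comp Matrix.SpecialLinearGroup.toGL)

theorem psi_apply (M : SL(2, K16)) (j : Fin 17) :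
    psi M j = lbl (mob (M 0 0) (M 0 1) (M 1 0) (M 1 1) (lbl.symm j)) := by
  show lbl ((Matrix.SpecialLinearGroup.toGL M) • lbl.symm j) = _
  congr 1
  generalize lbl.symm j = x
  cases x with
  | infty =>
    rw [smul_infty_eq_ite]
    simp [mob, div_eq_mul_inv]
  | coe t =>
    rw [smul_some_eq_ite]
    simp [mob, div_eq_mul_inv]

def up (b : K16) : SL(2, K16) := ⟨!![1, b; 0, 1], by simp [Matrix.det_fin_two]⟩

def low (b : K16) : SL(2, K16) := ⟨!![1, 0; b, 1], by simp [Matrix.det_fin_two]⟩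

/-- Words for the upper transvections. -/
def uWords : List (List ℕ) := [[], [0], [5, 1, 0, 4, 2], [4, 1, 0, 5, 2], [4, 1, 0, 5, 0, 2], [5, 1, 0, 4, 0, 2], [2, 0, 1], [1, 0, 2], [4, 4, 0, 5, 5], [4, 2, 0, 5, 1], [4, 0, 5], [4, 0, 5, 0], [5, 0, 4], [5, 0, 4, 0], [5, 2, 0, 4, 1], [5, 5, 0, 4, 4]]

/-- Words for the lower transvections. -/
def lWords : List (List ℕ) := [[], [3, 0, 3], [4, 3, 1, 0, 5, 3, 1], [5, 3, 1, 0, 4, 3, 1], [5, 3, 1, 0, 4, 0, 3, 1], [4, 3, 1, 0, 5, 0, 3, 1], [3, 2, 0, 3, 2], [3, 1, 0, 3, 1], [5, 5, 3, 0, 4, 4, 3], [5, 3, 2, 0, 4, 3, 2], [5, 3, 0, 4, 3], [5, 3, 0, 4, 0, 3], [4, 3, 0, 5, 3], [4, 3, 0, 5, 0, 3], [4, 3, 2, 0, 5, 3, 2], [4, 4, 3, 0, 5, 5, 3]]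

def evalW : List ℕ → Fin 17 → Fin 17
  | [], i => i
  | a :: w, i => app a (evalW w i)

theorem val_sig : ∀ w : List ℕ, (∀ a ∈ w, a < 7) → ∀ i, val sig w i = evalW w i := by
  intro w
  induction w with
  | nil => intro _ i; rfl
  | cons a w ih =>
    intro hw i
    rw [val_cons, Equiv.Perm.mul_apply, ih (fun b hb => hw b (List.mem_cons_of_mem _ hb)),
      sig_apply (hw a List.mem_cons_self)]
    rfl

theorem words_lt : (∀ i < 16, ∀ a ∈ uWords.getD i [], a < 7) ∧ (∀ i < 16, ∀ a ∈ lWords.getD i [], a < 7) := by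
  decide +kernel

theorem up_word : ∀ (b : K16) (j : Fin 17), lbl (mob 1 b 0 1 (lbl.symm j)) = evalW (uWords.getD b.v.val []) j := by
  decide +kernel

theorem low_word : ∀ (b : K16) (j : Fin 17), lbl (mob 1 0 b 1 (lbl.symm j)) = evalW (lWords.getD b.v.val []) j := by
  decide +kernel

theorem two : (2 : K16) = 0 := by
  rw [← one_add_one_eq_two]
  decide +kernel

/-- The transvections generate. -/
theorem closure_transvections (M : SL(2, K16)) : M ∈ closure (Set.range up ∪ Set.range low) := by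
  have hU : ∀ b, up b ∈ closure (Set.range up ∪ Set.range low) := fun b => subset_closure (Or.inl ⟨b, rfl⟩)
  have hL : ∀ b, low b ∈ closure (Set.range up ∪ Set.range low) := fun b => subset_closure (Or.inr ⟨b, rfl⟩)
  have main : ∀ N : SL(2, K16), N 1 0 ≠ 0 → N ∈ closure (Set.range up ∪ Set.range low) := by
    intro N hc
    have hdet : N 0 0 * N 1 1 - N 0 1 * N 1 0 = 1 := by
      have := N.2
      rwa [Matrix.det_fin_two] at this
    have e : N = up ((N 0 0 - 1) / N 1 0) * low (N 1 0) * up ((N 1 1 - 1) / N 1 0) := by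
      apply Subtype.ext
      show N.1 = !![1, (N 0 0 - 1) / N 1 0; 0, 1] * !![1, 0; N 1 0, 1] * !![1, (N 1 1 - 1) / N 1 0; 0, 1]
      ext i j
      fin_cases i <;> fin_cases j <;> simp [Matrix.mul_apply, Fin.sum_univ_two]
      · field_simp; ring
      · field_simp
        linear_combination -hdet
      · field_simp; ring
    rw [e]
    exact mul_mem (mul_mem (hU _) (hL _)) (hU _)
  by_cases hc : M 1 0 = 0
  · have ha : M 0 0 ≠ 0 := by
      intro ha
      have := M.2
      rw [Matrix.det_fin_two, ha, hc] at this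
      simp at this
    have h : low 1 * M ∈ closure (Set.range up ∪ Set.range low) := main _ (by
      show ((!![1, 0; 1, 1] : Matrix (Fin 2) (Fin 2) K16) * M.1) 1 0 ≠ 0
      simp [Matrix.mul_apply, Fin.sum_univ_two, hc, ha])
    simpa using mul_mem (inv_mem (hL 1)) h
  · exact main M hc

theorem psi_inj : Function.Injective psi := by
  rw [injective_iff_map_eq_one]
  intro M hM
  have h : ∀ j : Fin 17, lbl (mob (M 0 0) (M 0 1) (M 1 0) (M 1 1) (lbl.symm j)) = j := fun j => by
    rw [← psi_apply, hM]; rfl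
  have hfix : ∀ x : OnePoint K16, mob (M 0 0) (M 0 1) (M 1 0) (M 1 1) x = x := fun x => by
    simpa using lbl.injective ((h (lbl x)).trans rfl)
  have hdet := M.2
  rw [Matrix.det_fin_two] at hdet
  have hc : M 1 0 = 0 := by
    by_contra hc
    have := hfix ∞
    simp [mob, hc] at this
  rw [hc, mul_zero, sub_zero] at hdet
  have hd : M 1 1 ≠ 0 := right_ne_zero_of_mul_eq_one hdet
  have hb : M 0 1 = 0 := by
    have := hfix (0 : K16)
    simpa [mob, hc, hd] using this
  have ha : M 0 0 = M 1 1 := by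
    have := hfix (1 : K16)
    simpa [mob, hc, hd, hb, mul_inv_eq_iff_eq_mul₀ hd] using this
  have key : ∀ a : K16, a * a = 1 → a = 1 := by decide +kernel
  have ha1 := key _ (by rw [← ha] at hdet; exact hdet)
  ext i j
  fin_cases i <;> fin_cases j <;> simp [hc, hb, ha1, ← ha]

theorem outer_key : ∀ a b : K16, a ≠ 0 → ∃ j, lbl (mob a b 0 a⁻¹ (lbl.symm j)) ≠ app 6 j := by decide +kernel

theorem outer : sig 6 ∉ psi.range := by
  rintro ⟨M, hM⟩
  have h : ∀ j : Fin 17, lbl (mob (M 0 0) (M 0 1) (M 1 0) (M 1 1) (lbl.symm j)) = app 6 j := fun j => by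
    rw [← psi_apply, hM, sig_apply (by norm_num)]
  have hdet := M.2
  rw [Matrix.det_fin_two] at hdet
  have hc : M 1 0 = 0 := by
    by_contra hc
    have := h 0
    simp only [show lbl.symm (0 : Fin 17) = ∞ from rfl, show app 6 0 = lbl ∞ from rfl, lbl.injective.eq_iff] at this
    simp [mob, hc] at this
  rw [hc, mul_zero, sub_zero] at hdet
  obtain ⟨j, hj⟩ := outer_key (M 0 0) (M 0 1) (left_ne_zero_of_mul_eq_one hdet)
  exact hj (by rw [← eq_inv_of_mul_eq_one_right hdet, ← hc]; exact h j)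

/-- From a point to `0`, and from another point to `app 3 0`. -/
theorem two_trans : ∀ i j : Fin 17, i ≠ j → ∃ a b : K16, ∃ c d : K16, lbl (mob a b c d (lbl.symm i)) = 0 ∧
    lbl (mob a b c d (lbl.symm j)) = app 3 0 ∧ a * d - b * c = 1 := by
  intro i j hij
  have hd : app 3 0 = lbl ((0 : K16) : OnePoint K16) := by decide +kernel
  have h0 : (0 : Fin 17) = lbl ∞ := rfl
  suffices h : ∀ x y : OnePoint K16, x ≠ y → ∃ a b c d : K16, mob a b c d x = ∞ ∧
      mob a b c d y = ((0 : K16) : OnePoint K16) ∧ a * d - b * c = 1 by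
    obtain ⟨a, b, c, d, e1, e2, e3⟩ := h _ _ (lbl.symm.injective.ne hij)
    exact ⟨a, b, c, d, by rw [e1, h0], by rw [e2, hd], e3⟩
  intro x y hxy
  cases x with
  | infty =>
    cases y with
    | infty => exact absurd rfl hxy
    | coe t => exact ⟨1, -t, 0, 1, by simp [mob], by simp [mob], by ring⟩
  | coe s =>
    cases y with
    | infty => exact ⟨0, -1, 1, -s, by simp [mob], by simp [mob], by ring⟩
    | coe t =>
      have hst : s - t ≠ 0 := sub_ne_zero.2 fun h => hxy (by rw [h])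
      refine ⟨(s - t)⁻¹ * -1, (s - t)⁻¹ * t, 1, -s, by simp [mob], ?_, ?_⟩
      · have hts : t + -s ≠ 0 := by rw [← sub_eq_add_neg]; exact sub_ne_zero.2 fun h => hxy (by rw [h])
        simp [mob, hts]
      · field_simp

theorem psi_mem {X : Subgroup (Equiv.Perm (Fin 17))} (hX : ∀ a < 7, sig a ∈ X) : psi.range ≤ X := by
  rintro _ ⟨M, rfl⟩
  have hw : ∀ w : List ℕ, (∀ a ∈ w, a < 7) → val sig w ∈ X := by
    intro w
    induction w with
    | nil => intro _; exact one_mem X
    | cons a w ih =>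
      intro hw
      rw [val_cons]
      exact mul_mem (hX a (hw a List.mem_cons_self)) (ih fun b hb => hw b (List.mem_cons_of_mem _ hb))
  have hM := closure_transvections M
  show M ∈ X.comap psi
  refine (closure_le _).2 ?_ hM
  rintro _ (⟨b, rfl⟩ | ⟨b, rfl⟩)
  · show psi (up b) ∈ X
    rw [show psi (up b) = val sig (uWords.getD b.v.val []) from Equiv.ext fun j => by
      rw [psi_apply, val_sig _ (words_lt.1 _ b.v.isLt), ← up_word]
      simp [up]]
    exact hw _ (words_lt.1 _ b.v.isLt)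
  · show psi (low b) ∈ X
    rw [show psi (low b) = val sig (lWords.getD b.v.val []) from Equiv.ext fun j => by
      rw [psi_apply, val_sig _ (words_lt.2 _ b.v.isLt), ← low_word]
      simp [low]]
    exact hw _ (words_lt.2 _ b.v.isLt)

theorem card_sl : Nat.card SL(2, K16) = 4080 := by
  rw [GLOrder.card_SL_two', Nat.card_eq_fintype_card, K16.card]

end SubEight

open SubEight

variable {Γ : Type*} [Group Γ] [Finite Γ] {g : ℕ → Γ}

/-- `d` lies outside the Borel subgroup. -/
theorem Sys.not_mem_borel (S : Sys g) (hg0 : g 0 ≠ 1) : g 6 ∉ borel g := by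
  intro hd
  obtain ⟨φ, hxor, h1, hconj⟩ := S.coords
  have h0 : φ 0 = 1 := mul_eq_left.1 (hxor 0 0).symm
  have hsq : ∀ m, φ m * φ m = 1 := fun m => by rw [← hxor, Nat.xor_self, h0]
  let P : Subgroup Γ :=
    { carrier := Set.range φ
      one_mem' := ⟨0, h0⟩
      mul_mem' := by rintro _ _ ⟨m, rfl⟩ ⟨n, rfl⟩; exact ⟨_, hxor m n⟩
      inv_mem' := by rintro _ ⟨m, rfl⟩; exact ⟨m, (inv_eq_of_mul_eq_one_right (hsq m)).symm⟩ }
  have hfin : (P : Set Γ).Finite := Set.toFinite _
  have hl : ∀ l < 5, g l ∈ normalizer (P : Set Γ) := by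
    intro l hl
    rw [← inv_inv (g l)]
    refine inv_mem ?_
    haveI : Finite P := inferInstance
    refine Subgroup.mem_normalizer_iff.2 fun y => ⟨?_, ?_⟩
    · rintro ⟨m, rfl⟩
      exact ⟨_, by rw [inv_inv, hconj l hl]⟩
    · rintro ⟨m, hm⟩
      obtain ⟨hl', -⟩ := ivOf_lt l hl
      refine ⟨Action.act (ivOf l) m, ?_⟩
      rw [← hconj _ hl' m, hm, inv_inv, eq_inv_of_mul_eq_one_left (S.inv l (by omega))]
      group
  have hval : ∀ w : List ℕ, (∀ a ∈ w, a < 5) → val g w ∈ normalizer (P : Set Γ) := by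
    intro w
    induction w with
    | nil => intro _; exact one_mem _
    | cons a w ih =>
      intro hw
      rw [val_cons]
      exact mul_mem (hl a (hw a List.mem_cons_self)) (ih fun b hb => hw b (List.mem_cons_of_mem _ hb))
  have he : g 5 ∈ P := ⟨1, h1⟩
  have hbN : borel g ≤ normalizer (P : Set Γ) := by
    refine (closure_le _).2 ?_
    rintro y (rfl | rfl | rfl | rfl)
    · exact le_normalizer he
    · exact hl 3 (by norm_num)
    · exact mul_mem (hl 0 (by norm_num)) (hl 1 (by norm_num))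
    · exact hval _ (by decide)
  set x := g 0 * g 1 with hx
  set w := val g [1, 0, 1, 0, 2, 0, 2] with hw
  have hxN : x ∈ normalizer (P : Set Γ) := hbN (subset_closure (by simp [hx]))
  have hwN : w ∈ normalizer (P : Set Γ) := hbN (subset_closure (by simp [hw]))
  let π := QuotientGroup.mk' (P.subgroupOf (normalizer (P : Set Γ)))
  set D := π ⟨g 6, hbN hd⟩ with hD
  set X := π ⟨x, hxN⟩ with hX
  set W := π ⟨w, hwN⟩ with hW
  have hE : π ⟨g 5, le_normalizer he⟩ = 1 := (QuotientGroup.eq_one_iff _).2 he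
  have hsm := S.small
  have hinv0 : g 0 * g 0 = 1 := S.inv 0 (by norm_num)
  have h21 : g 2 * g 1 = 1 := S.inv 1 (by norm_num)
  have hX' : g 2 * g 0 = x⁻¹ := by
    rw [eq_inv_of_mul_eq_one_left h21, eq_inv_of_mul_eq_one_left hinv0, hx, mul_inv_rev]
  have hdd : D * D = 1 := by
    rw [hD, ← map_mul, show (⟨g 6, hbN hd⟩ : normalizer (P : Set Γ)) * ⟨g 6, hbN hd⟩ = 1 from
      Subtype.ext (S.inv 6 (by norm_num)), map_one]
  have r1 : g 5 * g 6 * (g 5 * g 6) * (g 5 * g 6) * w = 1 := by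
    rw [← hsm [5, 6, 5, 6, 5, 6, 1, 0, 1, 0, 2, 0, 2] (by decide +kernel)]
    simp [val, hw, mul_assoc]
  have r2 : g 6 * x⁻¹ * g 6 * x = 1 := by
    rw [← hsm [6, 2, 0, 6, 0, 1] (by decide +kernel)]
    rw [← hX']
    simp [val, hx, mul_assoc]
  have r3 : w * x * w * x = 1 := by
    rw [← hsm [1, 0, 1, 0, 2, 0, 2, 0, 1, 1, 0, 1, 0, 2, 0, 2, 0, 1] (by decide +kernel)]
    simp [val, hw, hx, mul_assoc]
  have r4 : w * w = 1 := by rw [hw, ← val_append]; exact hsm _ (by decide +kernel)
  have q1 : D * D * D * W = 1 := by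
    have h := congrArg π (show (⟨g 5, le_normalizer he⟩ : normalizer (P : Set Γ)) * ⟨g 6, hbN hd⟩ *
      (⟨g 5, le_normalizer he⟩ * ⟨g 6, hbN hd⟩) * (⟨g 5, le_normalizer he⟩ * ⟨g 6, hbN hd⟩) * ⟨w, hwN⟩ = 1 from
        Subtype.ext r1)
    simpa only [map_mul, map_one, hE, one_mul] using h
  have q2 : D * X⁻¹ * D * X = 1 := by
    have h := congrArg π (show (⟨g 6, hbN hd⟩ : normalizer (P : Set Γ)) * ⟨x, hxN⟩⁻¹ * ⟨g 6, hbN hd⟩ * ⟨x, hxN⟩ = 1
      from Subtype.ext r2)
    simpa only [map_mul, map_inv, map_one] using h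
  have q3 : W * X * W * X = 1 := by
    have h := congrArg π (show (⟨w, hwN⟩ : normalizer (P : Set Γ)) * ⟨x, hxN⟩ * ⟨w, hwN⟩ * ⟨x, hxN⟩ = 1
      from Subtype.ext r3)
    simpa only [map_mul, map_one] using h
  rw [hdd, one_mul] at q1
  have hW' : W = D⁻¹ := eq_inv_of_mul_eq_one_right q1
  rw [hW', inv_eq_of_mul_eq_one_right hdd] at q3
  have a1 : D * X⁻¹ * D = X⁻¹ := eq_inv_of_mul_eq_one_left q2
  have a2 : D * X * D = X⁻¹ := eq_inv_of_mul_eq_one_left q3
  have hXX : X * X = 1 := by
    have e : X⁻¹ = X := mul_left_cancel (mul_right_cancel (a1.trans a2.symm))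
    rw [← mul_inv_cancel X, e]
  have hx5 : x ^ 5 = 1 := by
    rw [← hsm [0, 1, 0, 1, 0, 1, 0, 1, 0, 1] (by decide +kernel)]
    simp [val, hx, pow_succ, mul_assoc]
  have hX1 : X = 1 := by
    have h := congrArg π (show (⟨x, hxN⟩ : normalizer (P : Set Γ)) ^ 5 = 1 from Subtype.ext hx5)
    rw [map_pow, map_one, ← hX, show (5 : ℕ) = 2 + 2 + 1 from rfl, pow_add, pow_add, pow_one, pow_two, hXX,
      one_mul, one_mul] at h
    exact h
  obtain ⟨m, hm⟩ : x ∈ P := (QuotientGroup.eq_one_iff (⟨x, hxN⟩ : normalizer (P : Set Γ))).1 hX1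
  have hxx : x * x = 1 := by rw [← hm]; exact hsq m
  have hx1 : x = 1 := by
    rw [show (5 : ℕ) = 2 + 2 + 1 from rfl, pow_add, pow_add, pow_one, pow_two, hxx, one_mul, one_mul] at hx5
    exact hx5
  have hb : g 1 = g 0 := by
    rw [← one_mul (g 1), ← hinv0, mul_assoc, ← hx, hx1, mul_one]
  have h3 : g 1 * (g 1 * g 1) = 1 := by
    rw [← S.rels [1, 1, 1] (by decide +kernel)]
    simp [val]
  rw [hb, hinv0, mul_one] at h3
  exact hg0 h3

/-- The subgroup of order 8160 with its normal `SL(2, 16)`. -/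
theorem Sys.exists_sl_two (S : Sys g) (hg0 : g 0 ≠ 1) :
    ∃ (H : Subgroup Γ) (N : Subgroup H), N.Normal ∧ N.index = 2 ∧ Nonempty (N ≃* SL(2, K16)) := by
  classical
  set h : ℕ → Γ := fun l => val g (smallSub.getD l []) with hh
  obtain ⟨hinv, hrel, hsub, -⟩ := S.small_facts h hh
  set C := Table.smallCert with hC
  have hk : C.k = 7 := rfl
  set H := closure (h '' {a | a < C.k}) with hH
  have hHcard : Nat.card H ≤ 8160 := by
    refine (Table.Cert.card_le (borel g) Table.smallCert_facts hinv hrel hsub).trans ?_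
    exact le_trans (Nat.mul_le_mul_left _ S.card_borel_le) (by norm_num [show Table.smallCert.n = 17 from rfl])
  let e : ℕ → H := fun a => if ha : a < C.k then ⟨h a, subset_closure ⟨a, ha, rfl⟩⟩ else 1
  have he : ∀ a < C.k, (e a : Γ) = h a := fun a ha => by simp [e, ha]
  have hval : ∀ w : List ℕ, (∀ a ∈ w, a < C.k) → ((val e w : H) : Γ) = val h w := by
    intro w
    induction w with
    | nil => intro _; rfl
    | cons a w ih =>
      intro hw
      rw [val_cons, val_cons, Subgroup.coe_mul, he a (hw a List.mem_cons_self),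
        ih fun b hb => hw b (List.mem_cons_of_mem _ hb)]
  have hf := Table.smallCert_facts
  set B := (borel g).subgroupOf H with hB
  have einv : ∀ a < C.k, e (C.iv a) * e a = 1 := fun a ha => Subtype.ext (by
    rw [Subgroup.coe_mul, he a ha, he _ (hf.iv_lt a ha), hinv a ha]; rfl)
  have erel : ∀ r ∈ C.rels, val e r = 1 := fun r hr => Subtype.ext (by
    rw [hval r (hf.rels_lt r hr), hrel r hr]; rfl)
  have subs_lt : ∀ s ∈ C.subs, ∀ a ∈ s, a < C.k := by rw [hk, hC]; decide
  have esub : ∀ s ∈ C.subs, val e s ∈ B := fun s hs => by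
    rw [hB, mem_subgroupOf, hval s (subs_lt s hs)]
    exact hsub s hs
  -- the cosets
  let pt : Fin 17 → H ⧸ B := fun i => QuotientGroup.mk (C.r e i.val)⁻¹
  have hstep : ∀ a < 7, ∀ i : Fin 17, e a • pt i = pt (app a i) := by
    intro a ha i
    show QuotientGroup.mk (e a * (C.r e i.val)⁻¹) = QuotientGroup.mk (C.r e (app a i).val)⁻¹
    rw [QuotientGroup.eq, app_table a ha i]
    have m := Table.Cert.edge_mem B hf einv erel esub _ (C.iv a) i.val rfl (hf.iv_lt a ha) i.isLt
    rw [← hC, mul_inv_rev, inv_inv, ← eq_inv_of_mul_eq_one_left (einv a ha)]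
    exact m
  have hsurj : Function.Surjective pt := by
    intro q
    obtain ⟨y, rfl⟩ := QuotientGroup.mk_surjective q
    have hy : y⁻¹ ∈ Subgroup.closure (e '' {a | a < C.k}) := by
      have : (Subgroup.closure (e '' {a | a < C.k})).map H.subtype = H := by
        rw [MonoidHom.map_closure, ← Set.image_comp]
        exact congrArg Subgroup.closure (Set.image_congr fun a ha => he a ha)
      obtain ⟨z, hz, hzy⟩ := this.ge y⁻¹.2
      rwa [← Subtype.ext (a1 := z) (a2 := y⁻¹) hzy]
    obtain ⟨i, hi, hm⟩ := Table.Cert.cover B hf einv erel esub hy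
    refine ⟨⟨i, hi⟩, QuotientGroup.eq.2 ?_⟩
    simpa using inv_mem hm
  have hword : ∀ w : List ℕ, (∀ a ∈ w, a < 7) → ∀ i, val e w • pt i = pt (evalW w i) := by
    intro w
    induction w with
    | nil => intro _ i; simp [val_nil, evalW]
    | cons a w ih =>
      intro hw i
      rw [val_cons, mul_smul, ih (fun b hb => hw b (List.mem_cons_of_mem _ hb)), hstep a (hw a List.mem_cons_self)]
      rfl
  -- a group containing every letter contains `SL(2, 16)`
  have hlift : ∀ M : SL(2, K16), ∃ y : H, ∀ i, y • pt i = pt (psi M i) := by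
    let X : Subgroup (Equiv.Perm (Fin 17)) :=
      { carrier := {σ | ∃ y : H, ∀ i, y • pt i = pt (σ i)}
        one_mem' := ⟨1, fun i => by simp⟩
        mul_mem' := by
          rintro σ τ ⟨y, hy⟩ ⟨y', hy'⟩
          exact ⟨y * y', fun i => by rw [mul_smul, hy', hy]; rfl⟩
        inv_mem' := by
          rintro σ ⟨y, hy⟩
          exact ⟨y⁻¹, fun i => by rw [inv_smul_eq_iff, hy, Equiv.Perm.coe_inv, Equiv.apply_symm_apply]⟩ }
    exact fun M => psi_mem (X := X) (fun a ha => ⟨e a, fun i => by rw [hstep a ha, sig_apply ha]⟩) ⟨M, rfl⟩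
  have hpt0 : pt 0 = QuotientGroup.mk 1 := by
    show QuotientGroup.mk (C.r e 0)⁻¹ = _
    rw [Table.Cert.r_zero, inv_one]
  have hinj : Function.Injective pt := by
    intro i j hij
    by_contra hne
    obtain ⟨a, b, c, d, h1, h2, hdet⟩ := two_trans i j hne
    obtain ⟨y, hy⟩ := hlift ⟨!![a, b; c, d], by simpa [Matrix.det_fin_two] using hdet⟩
    have ei : y • pt i = pt (lbl (mob a b c d (lbl.symm i))) := (hy i).trans (congrArg pt (psi_apply _ i))
    have ej : y • pt j = pt (lbl (mob a b c d (lbl.symm j))) := (hy j).trans (congrArg pt (psi_apply _ j))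
    rw [h1] at ei
    rw [h2, ← hij, ei, ← hstep 3 (by norm_num), hpt0] at ej
    have hm : e 3 ∈ B := by
      have := QuotientGroup.eq.1 ej
      simpa using this
    rw [hB, mem_subgroupOf, he 3 (by rw [hk]; norm_num)] at hm
    exact S.not_mem_borel hg0 (by simpa [hh, smallSub, val] using hm)
  let E : Fin 17 ≃ H ⧸ B := Equiv.ofBijective pt ⟨hinj, hsurj⟩
  let f : H →* Equiv.Perm (Fin 17) := E.symm.permCongrHom.toMonoidHom.comp (MulAction.toPermHom H (H ⧸ B))
  have hf' : ∀ y i, f y i = E.symm (y • pt i) := fun y i => rfl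
  have hfe : ∀ a < 7, f (e a) = sig a := fun a ha => Equiv.ext fun i => by
    rw [hf', hstep a ha, sig_apply ha]
    exact E.symm_apply_apply _
  have hle : psi.range ≤ f.range := psi_mem fun a ha => ⟨e a, hfe a ha⟩
  have hlt : psi.range < f.range := lt_of_le_of_ne hle fun hEq => outer (hEq ▸ ⟨e 6, hfe 6 (by norm_num)⟩)
  have hcpsi : Nat.card psi.range = 4080 := by
    rw [← Nat.card_congr (MonoidHom.ofInjective psi_inj).toEquiv, card_sl]
  have h8160 : 8160 ≤ Nat.card f.range := by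
    obtain ⟨m, hm⟩ := card_dvd_of_le hle
    rw [hcpsi] at hm
    have : Nat.card psi.range ≠ Nat.card f.range := fun hEq => hlt.ne (Subgroup.eq_of_le_of_card_ge hle hEq.ge)
    have hm2 : 2 ≤ m := by
      by_contra hm2
      interval_cases m
      · exact (Nat.card_pos (α := f.range)).ne' (hm.trans (Nat.mul_zero _))
      · exact this (hcpsi.trans ((Nat.mul_one _).symm.trans hm.symm))
    exact le_of_le_of_eq (Nat.mul_le_mul_left 4080 hm2) hm.symm
  have hsr : Nat.card f.range ≤ Nat.card H := Nat.card_le_card_of_surjective _ f.rangeRestrict_surjective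
  have hfinj : Function.Injective f := by
    have hb := (Nat.bijective_iff_surjective_and_card f.rangeRestrict).2 ⟨f.rangeRestrict_surjective, by omega⟩
    exact fun a b hab => hb.1 (Subtype.ext hab)
  let N : Subgroup H := psi.range.comap f
  have hNmap : N.map f = psi.range := by rw [map_comap_eq, inf_eq_right.2 hle]
  let i1 : N ≃* psi.range := (N.equivMapOfInjective f hfinj).trans (MulEquiv.subgroupCongr hNmap)
  have hidx : N.index = 2 := by
    have := N.card_mul_index
    rw [Nat.card_congr i1.toEquiv, hcpsi] at this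
    have h2 : Nat.card H = 8160 := by omega
    rw [h2] at this
    omega
  exact ⟨H, N, normal_of_index_eq_two hidx, hidx, ⟨i1.trans (MonoidHom.ofInjective psi_inj).symm⟩⟩

end Cfsg.Agent.JThreeType
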