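import Cfsg.Agent.Lib.JThreeType.SimpleHyp

/-!
# Normalisers of Sylow subgroups of orders 17 and 19 in groups of type `J₃`

* `nineteen`, `seventeen`
-/

set_option autoImplicit false
set_option linter.unusedSectionVars false
set_option linter.style.haveILetI false
set_option maxHeartbeats 800000

namespace Cfsg.Agent.JThreeType

open Cfsg Subgroup OrderJTwo

variable {G : Type*} [Group G] [Finite G]

theorem a5_sixteen : ∀ σ : Equiv.Perm (Fin 5), Equiv.Perm.sign σ = 1 → σ ^ 16 = 1 → σ ^ 2 = 1 := by decide +kernel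

/-- No element has order 16. -/
theorem Data.no_sixteen (D : Data G) (hone : ∀ x y : G, orderOf x = 2 → orderOf y = 2 → IsConj x y) (g : G) :
    orderOf g ≠ 16 := by
  intro hg
  haveI : Fact (Nat.Prime 2) := ⟨Nat.prime_two⟩
  have hv : orderOf (g ^ 8) = 2 := by
    rw [orderOf_pow' g (by norm_num), hg]
    norm_num
  obtain ⟨c, hc⟩ := isConj_iff.1 (hone _ D.z hv D.z_ord)
  set x := c * g * c⁻¹ with hx
  have hx8 : x ^ 8 = D.z := by rw [hx, conj_pow, hc]
  have hxz : x ∈ centralizer ({D.z} : Set G) := by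
    rw [mem_centralizer_singleton_iff, ← hx8]
    exact (Commute.self_pow x 8).eq
  set xc : centralizer ({D.z} : Set G) := ⟨x, hxz⟩ with hxc
  have hxc16 : xc ^ 16 = 1 := Subtype.ext (by
    show x ^ 16 = 1
    rw [show 16 = 8 * 2 from rfl, pow_mul, hx8, _root_.sq, D.z2])
  have hsgn : Equiv.Perm.sign (D.φ xc) = 1 := by
    rw [← Equiv.Perm.mem_alternatingGroup, ← D.range]
    exact ⟨xc, rfl⟩
  have h2 := a5_sixteen _ hsgn (by rw [← map_pow, hxc16, map_one])
  have hQ : (x ^ 2 : G) ∈ D.Q := by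
    rw [← map_pow] at h2
    exact (D.ker _).1 h2
  refine D.hQ.zne ?_
  rw [← hx8, show 8 = 2 * 2 * 2 from rfl, pow_mul, pow_mul]
  rcases D.hQ.sq _ hQ with h | h
  · rw [_root_.sq (x ^ 2), h, one_pow]
  · rw [_root_.sq (x ^ 2), h, _root_.sq, D.z2]

/-- A group isomorphic to `J₃` inherits the fact on subgroups of order 19. -/
theorem cent_nineteen_of_iso {F : Type} [Field F] {ω : F} (h2 : (2 : F) = 0) (hω : ω ^ 2 + ω + 1 = 0)
    (e : G ≃* Spor.J3 F ω) {P : Subgroup G} (hP : Nat.card P = 19) :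
    centralizer (P : Set G) = P := by
  obtain ⟨h, -⟩ := cent_nineteen h2 hω (P := P.map e.toMonoidHom)
    (by rw [card_map_inj (f := e.toMonoidHom) e.injective]; exact hP)
  ext y
  have key : y ∈ centralizer (P : Set G) ↔ e y ∈ centralizer ((P.map e.toMonoidHom : Subgroup _) : Set (Spor.J3 F ω)) := by
    rw [mem_centralizer_iff, mem_centralizer_iff]
    refine ⟨?_, fun hy u hu => ?_⟩
    · rintro hy _ ⟨u, hu, rfl⟩
      show e u * e y = e y * e u
      rw [← map_mul, hy u hu, map_mul]
    · refine e.injective ?_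
      rw [map_mul, map_mul]
      exact hy _ ⟨u, hu, rfl⟩
  rw [key, h]
  exact mem_map_iff_mem (f := e.toMonoidHom) e.injective

/-- The quotient of the normaliser of a self-centralising subgroup of prime order. -/
theorem quot_facts {p : ℕ} [Fact p.Prime] {P : Subgroup G} (hP : Nat.card P = p)
    (hC : centralizer (P : Set G) = P) :
    Nat.card (normalizer (P : Set G)) = p * Nat.card P.normalizerMonoidHom.range ∧
      Nat.card P.normalizerMonoidHom.range ∣ p - 1 ∧
      ∃ _h : (P.subgroupOf (normalizer (P : Set G))).Normal,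
        IsCyclic (↥(normalizer (P : Set G)) ⧸ P.subgroupOf _) ∧
        Nat.card (↥(normalizer (P : Set G)) ⧸ P.subgroupOf _) = Nat.card P.normalizerMonoidHom.range := by
  haveI : IsCyclic P := isCyclic_of_prime_card hP
  have hker : P.normalizerMonoidHom.ker = P.subgroupOf (normalizer (P : Set G)) := by
    rw [normalizerMonoidHom_ker, hC]
  haveI hn : (P.subgroupOf (normalizer (P : Set G))).Normal := normal_in_normalizer
  have e : (↥(normalizer (P : Set G)) ⧸ P.subgroupOf (normalizer (P : Set G))) ≃* P.normalizerMonoidHom.range :=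
    (QuotientGroup.quotientMulEquivOfEq hker.symm).trans (QuotientGroup.quotientKerEquivRange _)
  have hcyc : IsCyclic (MulAut P) := by
    haveI : IsCyclic (ZMod (Nat.card P))ˣ := by rw [hP]; infer_instance
    exact isCyclic_of_surjective (IsCyclic.mulAutMulEquiv P).symm (IsCyclic.mulAutMulEquiv P).symm.surjective
  refine ⟨?_, ?_, hn, ?_, Nat.card_congr e.toEquiv⟩
  · rw [card_eq_card_quotient_mul_card_subgroup (P.subgroupOf (normalizer (P : Set G))), Nat.card_congr e.toEquiv,
      Nat.card_congr (subgroupOfEquivOfLe le_normalizer).toEquiv, hP, mul_comm]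
  · have h := card_subgroup_dvd_card P.normalizerMonoidHom.range
    rwa [IsCyclic.card_mulAut, hP, Nat.totient_prime Fact.out] at h
  · exact isCyclic_of_surjective e.symm e.symm.surjective

theorem sylow_card {p : ℕ} [Fact p.Prime] (hd : p ∣ Nat.card G) (hnd : ¬ p ^ 2 ∣ Nat.card G) (X : Sylow p G) :
    Nat.card (X : Subgroup G) = p := by
  rw [X.card_eq_multiplicity]
  have h0 : Nat.card G ≠ 0 := Nat.card_pos.ne'
  have : (Nat.card G).factorization p = 1 := by
    refine le_antisymm ?_ ((Nat.Prime.dvd_iff_one_le_factorization Fact.out h0).1 hd)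
    by_contra h
    exact hnd (((Nat.Prime.pow_dvd_iff_le_factorization Fact.out h0).2 (by omega)))
  rw [this, pow_one]

theorem factorization_three : (17 * 1215).factorization 3 = 5 ∧ (50232960).factorization 3 = 5 := by
  refine ⟨?_, ?_⟩
  · rw [show 17 * 1215 = 85 * 3 ^ 5 from rfl, Nat.factorization_mul (by norm_num) (by norm_num),
      Nat.Prime.factorization_pow Nat.prime_three, Finsupp.add_apply,
      Nat.factorization_eq_zero_of_not_dvd (by norm_num), Finsupp.single_eq_same]
  · rw [show 50232960 = 206720 * 3 ^ 5 from rfl, Nat.factorization_mul (by norm_num) (by norm_num),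
      Nat.Prime.factorization_pow Nat.prime_three, Finsupp.add_apply,
      Nat.factorization_eq_zero_of_not_dvd (by norm_num), Finsupp.single_eq_same]

theorem sylow_count {p : ℕ} [Fact p.Prime] (hp : 1 < p) (X : Sylow p G) :
    Nat.card (normalizer ((X : Subgroup G) : Set G)) ∣ Nat.card G ∧
      Nat.card G / Nat.card (normalizer ((X : Subgroup G) : Set G)) % p = 1 := by
  refine ⟨card_subgroup_dvd_card _, ?_⟩
  have h := card_mul_index (normalizer ((X : Subgroup G) : Set G))
  rw [← h, Nat.mul_div_cancel_left _ Nat.card_pos, show (normalizer ((X : Subgroup G) : Set G)).index = Nat.card (Sylow p G) from X.card_eq_index_normalizer.symm]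
  have := card_sylow_modEq_one p G
  rwa [Nat.ModEq, Nat.mod_eq_of_lt hp] at this

theorem arith_nineteen {d : ℕ} (h : d ∣ 18) (h1 : 19 * d ∣ 50232960) (h2 : 50232960 / (19 * d) % 19 = 1) :
    d = 9 := by
  have : d ∈ Nat.divisors 18 := Nat.mem_divisors.2 ⟨h, by norm_num⟩
  have hl : Nat.divisors 18 = {1, 2, 3, 6, 9, 18} := by decide +kernel
  simp only [hl, Finset.mem_insert, Finset.mem_singleton] at this
  rcases this with rfl | rfl | rfl | rfl | rfl | rfl <;> first | rfl | norm_num at h2

theorem arith_seventeen {K d : ℕ} (hK : K ∣ 1215) (hd : d ∣ 16) (h1 : 17 * K * d ∣ 50232960)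
    (h2 : 50232960 / (17 * K * d) % 17 = 1) : K = 1 ∧ d = 8 ∨ d = 16 ∨ K = 1215 := by
  obtain ⟨a, b, ha, hb, rfl⟩ := (Nat.dvd_mul (k := K) (m := 243) (n := 5)).1 hK
  obtain ⟨i, hi, rfl⟩ := (Nat.dvd_prime_pow Nat.prime_three).1 (show a ∣ 3 ^ 5 from ha)
  obtain ⟨j, hj, rfl⟩ := (Nat.dvd_prime_pow (show Nat.Prime 5 by norm_num)).1 (show b ∣ 5 ^ 1 by simpa using hb)
  obtain ⟨l, hl, rfl⟩ := (Nat.dvd_prime_pow Nat.prime_two).1 (show d ∣ 2 ^ 4 from hd)
  interval_cases i <;> interval_cases j <;> interval_cases l <;> first | (norm_num; done) | norm_num at h2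

/-- Sylow subgroups of order 19. -/
theorem nineteen {F : Type} [Field F] {ω : F} (h2 : (2 : F) = 0) (hω : ω ^ 2 + ω + 1 = 0)
    (e : G ≃* Spor.J3 F ω) (hcard : Nat.card G = 50232960) [Fact (Nat.Prime 19)] (X : Sylow 19 G) :
    centralizer ((X : Subgroup G) : Set G) = X ∧
      ∃ _h : ((X : Subgroup G).subgroupOf (normalizer ((X : Subgroup G) : Set G))).Normal,
        IsCyclic (↥(normalizer ((X : Subgroup G) : Set G)) ⧸ (X : Subgroup G).subgroupOf _) ∧
        Nat.card (↥(normalizer ((X : Subgroup G) : Set G)) ⧸ (X : Subgroup G).subgroupOf _) = 9 := by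
  have hX := sylow_card (by rw [hcard]; norm_num) (by rw [hcard]; norm_num) X
  have hC := cent_nineteen_of_iso h2 hω e hX
  obtain ⟨hN, hd, hn, hcyc, hq⟩ := quot_facts hX hC
  obtain ⟨h1, h2'⟩ := sylow_count (by norm_num) X
  rw [hN, hcard] at h1 h2'
  exact ⟨hC, hn, hcyc, hq.trans (arith_nineteen hd h1 h2')⟩

/-- Sylow subgroups of order 17. -/
theorem seventeen {F : Type} [Field F] {ω : F} (h2 : (2 : F) = 0) (hω : ω ^ 2 + ω + 1 = 0)
    (e : G ≃* Spor.J3 F ω) (D : Data G) (hone : ∀ x y : G, orderOf x = 2 → orderOf y = 2 → IsConj x y)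
    (hcard : Nat.card G = 50232960) [Fact (Nat.Prime 17)] (Y : Sylow 17 G) :
    centralizer ((Y : Subgroup G) : Set G) = Y ∧
      ∃ _h : ((Y : Subgroup G).subgroupOf (normalizer ((Y : Subgroup G) : Set G))).Normal,
        IsCyclic (↥(normalizer ((Y : Subgroup G) : Set G)) ⧸ (Y : Subgroup G).subgroupOf _) ∧
        Nat.card (↥(normalizer ((Y : Subgroup G) : Set G)) ⧸ (Y : Subgroup G).subgroupOf _) = 8 := by
  haveI : Fact (Nat.Prime 2) := ⟨Nat.prime_two⟩
  have hY := sylow_card (by rw [hcard]; norm_num) (by rw [hcard]; norm_num) Y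
  set Y' : Subgroup G := (Y : Subgroup G) with hY'
  set C := centralizer (Y' : Set G) with hC
  haveI : IsCyclic Y' := isCyclic_of_prime_card hY
  have hYC : Y' ≤ C := fun y hy => mem_centralizer_iff.2 fun u hu =>
    congrArg Subtype.val ((IsCyclic.isMulCommutative (α := Y')).is_comm.comm ⟨u, hu⟩ ⟨y, hy⟩)
  have hcomm : ∀ v ∈ C, Y' ≤ centralizer ({v} : Set G) := fun v hv y hy =>
    mem_centralizer_singleton_iff.2 (mem_centralizer_iff.1 hv y hy)
  obtain ⟨K, hK⟩ : 17 ∣ Nat.card C := hY ▸ card_dvd_of_le hYC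
  have hCdvd : Nat.card C ∣ 50232960 := hcard ▸ card_subgroup_dvd_card C
  -- no involution
  have hodd : ¬ 2 ∣ Nat.card C := by
    intro h
    obtain ⟨⟨v, hv⟩, hvo⟩ := exists_prime_orderOf_dvd_card' 2 h
    rw [Subgroup.orderOf_mk] at hvo
    have h17 := card_dvd_of_le (hcomm v hv)
    rw [hY, JTwoType.card_cent_isConj (hone D.z v D.z_ord hvo), D.card_C] at h17
    norm_num at h17
  -- no element of order 19
  have h19 : ¬ 19 ∣ Nat.card C := by
    intro h
    haveI : Fact (Nat.Prime 19) := ⟨by norm_num⟩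
    obtain ⟨⟨v, hv⟩, hvo⟩ := exists_prime_orderOf_dvd_card' 19 h
    rw [Subgroup.orderOf_mk] at hvo
    have hP : Nat.card (zpowers v) = 19 := by rw [Nat.card_zpowers, hvo]
    have hle : Y' ≤ zpowers v := by
      refine le_trans ?_ (cent_nineteen_of_iso h2 hω e hP).le
      intro y hy
      refine mem_centralizer_iff.2 fun u hu => ?_
      obtain ⟨i, rfl⟩ := mem_zpowers_iff.1 hu
      exact ((show Commute v y from (mem_centralizer_singleton_iff.1 (hcomm v hv hy)).symm).zpow_left i).eq
    have := card_dvd_of_le hle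
    rw [hY, hP] at this
    norm_num at this
  have hK1215 : K ∣ 1215 := by
    have h1 : K ∣ 2 ^ 7 * 19 * 1215 := by
      have := Nat.dvd_of_mul_dvd_mul_left (k := 17) (by norm_num)
        (show 17 * K ∣ 17 * (2 ^ 7 * 19 * 1215) from hK ▸ hCdvd.trans (by norm_num))
      exact this
    have hc2 : Nat.Coprime K (2 ^ 7) := ((Nat.prime_two.coprime_iff_not_dvd.2 fun h =>
      hodd (hK ▸ dvd_mul_of_dvd_right h 17)).symm).pow_right 7
    have hc19 : Nat.Coprime K 19 := ((show Nat.Prime 19 by norm_num).coprime_iff_not_dvd.2 fun h =>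
      h19 (hK ▸ dvd_mul_of_dvd_right h 17)).symm
    exact (hc2.mul_right hc19).dvd_of_dvd_mul_left h1
  -- the normaliser
  set f := Y'.normalizerMonoidHom with hf
  set d := Nat.card f.range with hd'
  have hN : Nat.card (normalizer (Y' : Set G)) = 17 * K * d := by
    rw [← f.ker.card_mul_index, index_ker, normalizerMonoidHom_ker,
      Nat.card_congr (subgroupOfEquivOfLe (centralizer_le_normalizer _)).toEquiv, ← hC, hK]
  have hd16 : d ∣ 16 := by
    have h := card_subgroup_dvd_card f.range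
    rwa [IsCyclic.card_mulAut, hY, Nat.totient_prime (by norm_num)] at h
  obtain ⟨h1, h2'⟩ := sylow_count (by norm_num) Y
  rw [hN, hcard] at h1 h2'
  obtain ⟨hK1, hd8⟩ : K = 1 ∧ d = 8 := by
    rcases arith_seventeen hK1215 hd16 h1 h2' with h | h | h
    · exact h
    · exfalso
      haveI hcyc : IsCyclic (MulAut Y') := by
        haveI : IsCyclic (ZMod (Nat.card Y'))ˣ := by rw [hY]; infer_instance
        exact isCyclic_of_surjective (IsCyclic.mulAutMulEquiv Y').symm (IsCyclic.mulAutMulEquiv Y').symm.surjective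
      obtain ⟨γ, hγ⟩ := IsCyclic.exists_generator (α := f.range)
      obtain ⟨n, hn⟩ := f.rangeRestrict_surjective γ
      have hγo : orderOf γ = 16 := by rw [orderOf_eq_card_of_forall_mem_zpowers hγ, ← hd', h]
      have hdiv : 16 ∣ orderOf n := hγo ▸ hn ▸ orderOf_map_dvd f.rangeRestrict n
      refine D.no_sixteen hone ((n : G) ^ (orderOf n / 16)) ?_
      have hno : orderOf (n : G) = orderOf n := Subgroup.orderOf_coe n
      have hpos : 0 < orderOf n := orderOf_pos n
      rw [orderOf_pow' _ (Nat.div_pos (Nat.le_of_dvd hpos hdiv) (by norm_num)).ne', hno,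
        Nat.gcd_eq_right (Nat.div_dvd_of_dvd hdiv), Nat.div_div_self hdiv hpos.ne']
    · exfalso
      obtain ⟨t, ht⟩ := D.exists_outer hone
      obtain ⟨F', -⟩ := ht.exists_frame hone
      obtain ⟨hk, -⟩ := F'.exists_psi hone
      haveI : Fact (Nat.Prime 3) := ⟨Nat.prime_three⟩
      obtain ⟨S⟩ : Nonempty (Sylow 3 C) := inferInstance
      obtain ⟨R, hR⟩ := (IsPGroup.of_card (p := 3) (n := 1) (G := zpowers F'.k)
        (by rw [Nat.card_zpowers, F'.k_ord, pow_one])).exists_le_sylow
      -- the Sylow group of `C` is one of `G`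
      have hS : Nat.card (S : Subgroup C) = 3 ^ 5 := by
        rw [S.card_eq_multiplicity, hK, h]
        rw [factorization_three.1]
      have hS3 : IsPGroup 3 ((S : Subgroup C).map C.subtype) := S.isPGroup'.map _
      have hR' : Nat.card (R : Subgroup G) = 3 ^ 5 := by
        rw [R.card_eq_multiplicity, hcard]
        rw [factorization_three.2]
      obtain ⟨R', hR''⟩ := hS3.exists_le_sylow
      obtain ⟨c, hc⟩ := MulAction.exists_smul_eq G R R'
      have hmapeq : (S : Subgroup C).map C.subtype = (R' : Subgroup G) := by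
        refine Subgroup.eq_of_le_of_card_ge hR'' ?_
        rw [card_map_inj C.subtype_injective, hS, ← hR', ← hc]
        exact (Nat.card_congr (Subgroup.equivSMul (MulAut.conj c) (R : Subgroup G)).toEquiv).ge
      have hmem : c * F'.k * c⁻¹ ∈ (S : Subgroup C).map C.subtype := by
        rw [hmapeq, ← hc]
        exact ⟨F'.k, hR (mem_zpowers _), rfl⟩
      obtain ⟨v, -, hv⟩ := hmem
      have h17 := card_dvd_of_le (hcomm _ v.2)
      rw [hY, show (v : G) = c * F'.k * c⁻¹ from hv, JTwoType.card_cent_isConj (isConj_iff.2 ⟨c, rfl⟩), hk] at h17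
      norm_num at h17
  have hCY : C = Y' := (Subgroup.eq_of_le_of_card_ge hYC (by rw [hK, hK1, hY])).symm
  obtain ⟨-, -, hn, hcyc, hq⟩ := quot_facts hY hCY
  exact ⟨hCY, hn, hcyc, hq.trans hd8⟩

end Cfsg.Agent.JThreeType
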