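import Cfsg.Agent.Lib.JThreeType.BigRels
import Cfsg.Agent.Lib.JThreeType.Action

/-!
# Seven elements satisfying the relations of `J₃`

* `Sys`
-/

set_option autoImplicit false

namespace Cfsg.Agent.JThreeType

open Table.Cert (val)

/-- The inverses of the seven letters. -/
def ivOf (l : ℕ) : ℕ := [0, 2, 1, 4, 3, 5, 6].getD l 0

/-- The relators of the small table in the seven letters. -/
def smallRels : List (List ℕ) :=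
  [[5, 5],
    [3, 3, 3],
    [6, 6],
    [0, 1, 0, 1, 0, 1, 0, 1, 0, 1],
    [1, 0, 1, 0, 2, 0, 2, 1, 0, 1, 0, 2, 0, 2],
    [1, 0, 1, 0, 2, 0, 2, 0, 1, 1, 0, 1, 0, 2, 0, 2, 0, 1],
    [4, 2, 0, 3, 0, 1],
    [4, 1, 0, 1, 0, 2, 0, 2, 3, 1, 0, 1, 0, 2, 0, 2],
    [3, 6, 3, 6],
    [6, 2, 0, 6, 0, 1],
    [6, 1, 0, 1, 0, 2, 0, 2, 6, 1, 0, 1, 0, 2, 0, 2],
    [5, 1, 0, 1, 0, 2, 0, 2, 5, 1, 0, 1, 0, 2, 0, 2],
    [5, 6, 5, 6, 5, 6, 1, 0, 1, 0, 2, 0, 2],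
    [5, 3, 5, 3, 5, 3],
    [5, 2, 0, 5, 0, 1, 5, 2, 0, 5, 0, 1],
    [5, 2, 0, 4, 5, 3, 0, 1, 5, 2, 0, 4, 5, 3, 0, 1],
    [2, 0, 2, 0, 5, 0, 1, 0, 1, 5, 2, 0, 4, 5, 3, 0, 1]]

/-- Seven elements satisfying the relations. -/
structure Sys {Γ : Type*} [Group Γ] (g : ℕ → Γ) : Prop where
  inv : ∀ l < 7, g (ivOf l) * g l = 1
  rels : ∀ r ∈ Table.bigRels, val g r = 1
  small : ∀ r ∈ smallRels, val g r = 1
  coords : ∃ φ : ℕ → Γ, (∀ m n, φ (m ^^^ n) = φ m * φ n) ∧ φ 1 = g 5 ∧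
    ∀ l < 5, ∀ m, (g l)⁻¹ * φ m * g l = φ (Action.act l m)

end Cfsg.Agent.JThreeType
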