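import Cfsg.Agent.Lib.JThreeType.ThreeCent
import Cfsg.Agent.Lib.JThreeType.Letters
import Cfsg.Agent.Lib.JThreeType.AltSix

/-!
# Groups of type `J₃`: `C(k)` splits, and the involution `d`

* `Frame16.exists_d`: an involution inverting `k` and centralising an element of order five and its inverter
* `Frame16.exists_six`: generators `a, b` of `B` and `d`, with the relations inside `C(k)`
-/

set_option autoImplicit false
set_option linter.unusedSectionVars false
set_option linter.style.haveILetI false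
set_option maxHeartbeats 1600000

namespace Cfsg.Agent.JThreeType

open Cfsg Subgroup OrderJTwo
open scoped commutatorElement
open Table.Cert (val val_cons val_append val_nil)

theorem val_hom {H K : Type*} [Group H] [Group K] (φ : H →* K) (g : ℕ → H) (w : List ℕ) :
    φ (val g w) = val (fun l => φ (g l)) w := by
  rw [val, map_list_prod, List.map_map]; rfl

variable {G : Type*} [Group G] [Finite G]

namespace Frame16

variable {D : Data G} (F : Frame16 D)
variable (hone : ∀ x y : G, orderOf x = 2 → orderOf y = 2 → IsConj x y)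
include hone

/-- A power of `k` fixed by an element inverting `k` is trivial. -/
theorem fixed_power {g q : G} (hg : g * F.k * g⁻¹ = F.k⁻¹) (hq : q ∈ zpowers F.k) (hgq : g * q * g⁻¹ = q) :
    q = 1 := by
  refine F.zpowers_sq hq ?_
  obtain ⟨n, hn⟩ := mem_zpowers_iff.1 hq
  rw [← hn, ← conj_zpow, hg, inv_zpow] at hgq
  rw [← hn]
  exact mul_eq_one_iff_eq_inv.2 hgq.symm

/-- An involution inverting `k` and centralising `x` and its inverter. -/
theorem exists_d (hcard : Nat.card F.CK = 1080) {ψ : F.CK →* Equiv.Perm (Fin 6)}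
    (hker : ∀ c, ψ c = 1 ↔ (c : G) ∈ zpowers F.k) (hrange : ψ.range = alternatingGroup (Fin 6))
    {x w : F.CK} (hψx : ψ x = AltSix.x6) (hx : (x : G) ^ 5 = 1) (hw : (w : G) * w = 1) (hw1 : (w : G) ≠ 1)
    (hwx : (w : G) * x * w = (x : G)⁻¹) :
    ∃ d : G, d * d = 1 ∧ d * F.k * d⁻¹ = F.k⁻¹ ∧ d * x = x * d ∧ d * w = w * d := by
  classical
  obtain ⟨-, -, -, -, -, -, hx6, -, -, -⟩ := AltSix.basic
  have hx1 : (x : G) ≠ 1 := fun h => hx6 (by rw [← hψx, show x = 1 from Subtype.ext h, map_one])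
  have hx5 : orderOf (x : G) = 5 := by
    haveI : Fact (Nat.Prime 5) := ⟨Nat.prime_five⟩
    exact orderOf_eq_prime hx hx1
  have hsign : ∀ c : F.CK, Equiv.Perm.sign (ψ c) = 1 := fun c =>
    Equiv.Perm.mem_alternatingGroup.1 (hrange.le ⟨c, rfl⟩)
  have hcomm : ∀ c : F.CK, Commute (c : G) F.k := fun c => mem_centralizer_singleton_iff.1 c.2
  have hwinv : (w : G)⁻¹ = w := inv_eq_of_mul_eq_one_right hw
  -- an involution inverting `k`
  obtain ⟨D', hD'⟩ := D.exists_at hone (orderOf_eq_prime (by rw [_root_.sq, hw]) hw1 : orderOf (w : G) = 2)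
  obtain ⟨v, hv, hvk⟩ := D'.exists_inverter hone F.k_ord (by rw [hD']; exact (hcomm w).eq.symm)
  -- adjusted to normalise `⟨x⟩`
  haveI : Fact (Nat.Prime 5) := ⟨Nat.prime_five⟩
  have hnorm : ∀ g : G, g * F.k * g⁻¹ = F.k⁻¹ → ∀ c : F.CK, g * (c : G) * g⁻¹ ∈ F.CK := by
    intro g hg c
    refine mem_centralizer_singleton_iff.2 (?_ : Commute (g * (c : G) * g⁻¹) F.k)
    have h : Commute (g * (c : G) * g⁻¹) (g * F.k * g⁻¹) := (hcomm c).map (MulAut.conj g).toMonoidHom
    rw [hg] at h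
    exact inv_inv F.k ▸ h.inv_right
  obtain ⟨R, hR⟩ := (IsPGroup.of_card (p := 5) (n := 1) (G := zpowers x) (by
    rw [Nat.card_zpowers, ← Subgroup.orderOf_coe, hx5, pow_one])).exists_le_sylow
  have hRx : (R : Subgroup F.CK) = zpowers x := by
    refine (Subgroup.eq_of_le_of_card_ge hR ?_).symm
    rw [Nat.card_zpowers, ← Subgroup.orderOf_coe, hx5]
    obtain ⟨n, hn⟩ := IsPGroup.iff_card.1 R.isPGroup'
    have hd := card_subgroup_dvd_card (R : Subgroup F.CK)
    rw [hn, hcard] at hd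
    rw [hn]
    rcases Nat.lt_or_ge n 2 with h | h
    · exact (Nat.pow_le_pow_right (by norm_num) (show n ≤ 1 by omega)).trans (by norm_num)
    · exact absurd ((Nat.pow_dvd_pow 5 h).trans hd) (by norm_num)
  obtain ⟨h, hh⟩ := JTwoType.conj_into_sylow R ⟨v * x * v⁻¹, hnorm v hvk x⟩ ⟨1, by
    rw [pow_one, Subgroup.orderOf_mk]
    exact (MulEquiv.orderOf_eq (MulAut.conj v) (x : G)).trans hx5⟩
  rw [hRx, mem_zpowers_iff_mem_range_orderOf, Finset.mem_image] at hh
  obtain ⟨i, hi, hie⟩ := hh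
  rw [Finset.mem_range, ← Subgroup.orderOf_coe, hx5] at hi
  set g := (h : G) * v with hg
  have hgk : g * F.k * g⁻¹ = F.k⁻¹ := by
    calc g * F.k * g⁻¹ = (h : G) * (v * F.k * v⁻¹) * (h : G)⁻¹ := by rw [hg]; group
      _ = F.k⁻¹ := by rw [hvk, ((hcomm h).inv_right).eq, mul_inv_cancel_right]
  have hgx : g * x * g⁻¹ = (x : G) ^ i := by
    have e := congrArg Subtype.val hie
    rw [Subgroup.coe_pow] at e
    rw [e, hg, Subgroup.coe_mul, Subgroup.coe_mul, Subgroup.coe_inv]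
    group
  have hgg : Commute (g * g) F.k := by
    refine mul_inv_eq_iff_eq_mul.1 ?_
    calc g * g * F.k * (g * g)⁻¹ = g * (g * F.k * g⁻¹) * g⁻¹ := by group
      _ = F.k := by rw [hgk, ← conj_inv, hgk, inv_inv]
  have hggx : g * g * x * (g * g)⁻¹ = (x : G) ^ (i * i) := by
    calc g * g * x * (g * g)⁻¹ = g * (g * x * g⁻¹) * g⁻¹ := by group
      _ = _ := by rw [hgx, ← conj_pow, hgx, ← pow_mul]
  -- an element centralising `x`
  obtain ⟨g0, hg0k, hg0x⟩ : ∃ g0 : G, g0 * F.k * g0⁻¹ = F.k⁻¹ ∧ g0 * x * g0⁻¹ = x := by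
    interval_cases i
    · exfalso
      rw [pow_zero, conj_eq_one_iff] at hgx
      exact hx1 hgx
    · exact ⟨g, hgk, by rw [hgx, pow_one]⟩
    · exfalso
      rw [show (x : G) ^ (2 * 2) = (x : G)⁻¹ from eq_inv_of_mul_eq_one_left (by rw [← pow_succ, hx])] at hggx
      set c : F.CK := ⟨g * g, mem_centralizer_singleton_iff.2 hgg.eq⟩
      have h2 := AltSix.inv_x (ψ c) (hsign c) (by
        rw [← hψx, ← map_inv, ← map_inv, ← map_mul, ← map_mul]
        exact congrArg ψ (Subtype.ext hggx))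
      have h4 : g * g * (g * g) = 1 := F.fixed_power hone hgk ((hker (c * c)).1 (by rw [map_mul]; exact h2))
        (by group)
      have hne : g * g ≠ 1 := fun h => by
        rw [h, one_mul, inv_one, mul_one] at hggx
        have : orderOf (x : G) ∣ 2 := orderOf_dvd_of_pow_eq_one (by rw [_root_.sq]; exact mul_eq_one_iff_eq_inv.2 hggx)
        rw [hx5] at this; norm_num at this
      obtain ⟨D'', hD''⟩ := D.exists_at hone (orderOf_eq_prime (by rw [_root_.sq, h4]) hne : orderOf (g * g) = 2)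
      exact D''.no_root hone F.k_ord (by rw [hD'']; exact hgg.eq.symm) hgk hD''.symm
    · exfalso
      rw [show (x : G) ^ (3 * 3) = (x : G)⁻¹ from eq_inv_of_mul_eq_one_left (by
        rw [← pow_succ, show 3 * 3 + 1 = 5 * 2 from rfl, pow_mul, hx, one_pow])] at hggx
      set c : F.CK := ⟨g * g, mem_centralizer_singleton_iff.2 hgg.eq⟩
      have h2 := AltSix.inv_x (ψ c) (hsign c) (by
        rw [← hψx, ← map_inv, ← map_inv, ← map_mul, ← map_mul]
        exact congrArg ψ (Subtype.ext hggx))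
      have h4 : g * g * (g * g) = 1 := F.fixed_power hone hgk ((hker (c * c)).1 (by rw [map_mul]; exact h2))
        (by group)
      have hne : g * g ≠ 1 := fun h => by
        rw [h, one_mul, inv_one, mul_one] at hggx
        have : orderOf (x : G) ∣ 2 := orderOf_dvd_of_pow_eq_one (by rw [_root_.sq]; exact mul_eq_one_iff_eq_inv.2 hggx)
        rw [hx5] at this; norm_num at this
      obtain ⟨D'', hD''⟩ := D.exists_at hone (orderOf_eq_prime (by rw [_root_.sq, h4]) hne : orderOf (g * g) = 2)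
      exact D''.no_root hone F.k_ord (by rw [hD'']; exact hgg.eq.symm) hgk hD''.symm
    · refine ⟨(w : G) * g, ?_, ?_⟩
      · calc (w : G) * g * F.k * ((w : G) * g)⁻¹ = w * (g * F.k * g⁻¹) * (w : G)⁻¹ := by group
          _ = F.k⁻¹ := by rw [hgk, ((hcomm w).inv_right).eq, mul_inv_cancel_right]
      · calc (w : G) * g * x * ((w : G) * g)⁻¹ = w * (g * x * g⁻¹) * (w : G)⁻¹ := by group
          _ = ((w : G) * x * (w : G)⁻¹) ^ 4 := by rw [hgx, conj_pow]
          _ = x := by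
            rw [hwinv, hwx, inv_pow]
            exact inv_eq_of_mul_eq_one_right (by rw [← pow_succ, hx])
  -- its fifth power
  have hg02 : Commute (g0 * g0) F.k := by
    refine mul_inv_eq_iff_eq_mul.1 ?_
    calc g0 * g0 * F.k * (g0 * g0)⁻¹ = g0 * (g0 * F.k * g0⁻¹) * g0⁻¹ := by group
      _ = F.k := by rw [hg0k, ← conj_inv, hg0k, inv_inv]
  have hg0x' : Commute g0 (x : G) := mul_inv_eq_iff_eq_mul.1 hg0x
  set c0 : F.CK := ⟨g0 * g0, mem_centralizer_singleton_iff.2 hg02.eq⟩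
  have hc05 : (g0 * g0) ^ 5 = 1 := by
    obtain ⟨j, hj⟩ := AltSix.cent_x (ψ c0) (hsign c0) (by
      rw [← hψx, ← map_mul, ← map_mul]
      exact congrArg ψ (Subtype.ext (hg0x'.mul_left hg0x').eq))
    refine F.fixed_power hone hg0k ((hker (c0 ^ 5)).1 ?_) ?_
    · rw [map_pow, hj, ← pow_mul, mul_comm, pow_mul]
      rw [show AltSix.x6 ^ 5 = 1 from AltSix.basic.2.2.2.2.2.2.2.2.2, one_pow]
    · rw [← conj_pow]; group
  set d := g0 ^ 5 with hd
  have hd2 : d * d = 1 := by rw [hd, ← hc05, ← _root_.sq g0, ← pow_mul, ← pow_add]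
  have hdinv : d⁻¹ = d := inv_eq_of_mul_eq_one_right hd2
  have hdk : d * F.k * d⁻¹ = F.k⁻¹ := by
    have e : d = g0 * (g0 * g0) ^ 2 := by rw [hd, ← _root_.sq g0, ← pow_mul, ← pow_succ']
    rw [e]
    calc g0 * (g0 * g0) ^ 2 * F.k * (g0 * (g0 * g0) ^ 2)⁻¹
        = g0 * ((g0 * g0) ^ 2 * F.k * ((g0 * g0) ^ 2)⁻¹) * g0⁻¹ := by group
      _ = F.k⁻¹ := by rw [(hg02.pow_left 2).eq, mul_inv_cancel_right, hg0k]
  have hdx : Commute d (x : G) := hg0x'.pow_left 5
  refine ⟨d, hd2, hdk, hdx.eq, ?_⟩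
  -- `d` commutes with `w`
  set R0 : F.CK := w * ⟨d * w * d⁻¹, hnorm d hdk w⟩ with hR0
  have hR0v : (R0 : G) = (w : G) * (d * w * d) := by
    rw [hR0, Subgroup.coe_mul]
    show (w : G) * (d * w * d⁻¹) = _
    rw [hdinv]
  have hwi : (w : G) * (x : G)⁻¹ * w = x := by
    calc (w : G) * (x : G)⁻¹ * w = w * (w * x * w) * w := by rw [hwx]
      _ = (w * w) * x * (w * w) := by group
      _ = x := by rw [hw, one_mul, mul_one]
  have hR0x : Commute (R0 : G) (x : G) := by
    have hdi : (d * w * d) * x * (d * w * d) = (x : G)⁻¹ := by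
      calc (d * w * d) * x * (d * w * d) = d * w * (d * x) * d * w * d := by group
        _ = d * (w * x * w) * d := by
          rw [hdx.eq, show d * w * (x * d) * d = d * w * x * (d * d) by group, hd2]; group
        _ = (x : G)⁻¹ := by rw [hwx, hdx.inv_right.eq, mul_assoc, hd2, mul_one]
    refine mul_inv_eq_iff_eq_mul.1 ?_
    rw [hR0v]
    have e : (d * w * d)⁻¹ = d * w * d := by rw [mul_inv_rev, mul_inv_rev, hdinv, hwinv, mul_assoc]
    rw [mul_inv_rev, e, hwinv]
    calc (w : G) * (d * w * d) * x * (d * w * d * w) = w * ((d * w * d) * x * (d * w * d)) * w := by group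
      _ = x := by rw [hdi, hwi]
  obtain ⟨j, hj⟩ := AltSix.cent_x (ψ R0) (hsign R0) (by
    rw [← hψx, ← map_mul, ← map_mul]; exact congrArg ψ (Subtype.ext hR0x.eq))
  set q := (R0 : G) * ((x : G) ^ (j : ℕ))⁻¹ with hq
  have hqk : q ∈ zpowers F.k := (hker (R0 * (x ^ (j : ℕ))⁻¹)).1 (by
    rw [map_mul, map_inv, map_pow, hψx, hj, mul_inv_cancel])
  have hqc : ∀ c : F.CK, Commute q (c : G) := fun c => by
    obtain ⟨n, hn⟩ := mem_zpowers_iff.1 hqk
    rw [← hn]; exact (hcomm c).symm.zpow_left n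
  have hwR : (w : G) * R0 * w = (R0 : G)⁻¹ := by
    rw [hR0v, mul_inv_rev, mul_inv_rev, mul_inv_rev, hdinv, hwinv]
    calc (w : G) * (w * (d * w * d)) * w = (w * w) * (d * w * d) * w := by group
      _ = _ := by rw [hw]; group
  have hdR : d * R0 * d = (R0 : G)⁻¹ := by
    rw [hR0v, mul_inv_rev, mul_inv_rev, mul_inv_rev, hdinv, hwinv]
    calc d * ((w : G) * (d * w * d)) * d = d * w * d * w * (d * d) := by group
      _ = _ := by rw [hd2]; group
  have hq1 : q = 1 := by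
    refine F.zpowers_sq hqk ?_
    have e : (R0 : G) = q * (x : G) ^ (j : ℕ) := by rw [hq, inv_mul_cancel_right]
    have hxj : (w : G) * (x : G) ^ (j : ℕ) * w = ((x : G) ^ (j : ℕ))⁻¹ := by
      nth_rw 2 [← hwinv]
      rw [← conj_pow, hwinv, hwx, inv_pow]
    rw [e] at hwR
    have h1 : q * ((x : G) ^ (j : ℕ))⁻¹ = (q * (x : G) ^ (j : ℕ))⁻¹ := by
      rw [← hwR, ← hxj]
      calc q * ((w : G) * (x : G) ^ (j : ℕ) * w) = q * (w : G) * (x : G) ^ (j : ℕ) * w := by group
        _ = _ := by rw [(hqc w).eq]; group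
    rw [mul_inv_rev, ((hqc x).pow_right (j : ℕ)).inv_right.eq] at h1
    exact mul_eq_one_iff_eq_inv.2 (mul_left_cancel h1)
  have hR0d : Commute d (R0 : G) := by
    rw [show (R0 : G) = (x : G) ^ (j : ℕ) from mul_inv_eq_one.1 hq1]
    exact hdx.pow_right _
  have hR1 : (R0 : G) = 1 := by
    have h2 : (R0 : G) * R0 = 1 := by
      rw [hR0d.eq, mul_assoc, hd2, mul_one] at hdR
      exact mul_eq_one_iff_eq_inv.2 hdR
    refine orderOf_eq_one_iff.1 (Nat.eq_one_of_dvd_coprimes (a := 5) (b := 2) (by norm_num) ?_ ?_)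
    · refine orderOf_dvd_of_pow_eq_one ?_
      rw [show (R0 : G) = (x : G) ^ (j : ℕ) from mul_inv_eq_one.1 hq1, ← pow_mul, mul_comm, pow_mul, hx, one_pow]
    · exact orderOf_dvd_of_pow_eq_one (by rw [_root_.sq, h2])
  rw [hR0v] at hR1
  have h3 : d * (w : G) * d = w := by rw [eq_inv_of_mul_eq_one_right hR1, hwinv]
  calc d * (w : G) = d * w * (d * d) := by rw [hd2, mul_one]
    _ = w * d := by rw [← mul_assoc, h3]

/-- `b` and `v` commute: the elements of order three of `B` are not conjugate to `k`. -/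
theorem not_conj_k {ψ : F.CK →* Equiv.Perm (Fin 6)}
    (hker : ∀ c, ψ c = 1 ↔ (c : G) ∈ zpowers F.k) (hrange : ψ.range = alternatingGroup (Fin 6))
    {b b' : F.CK} (hbB : (b : G) ∈ F.B) (hψb : ψ b = AltSix.b6) (hψb' : ψ b' = AltSix.Y6)
    (hlift : ∀ σ ∈ alternatingGroup (Fin 6), σ 5 = 5 → ∃ c : F.CK, (c : G) ∈ F.B ∧ ψ c = σ)
    {d : G} (hd2 : d * d = 1) (hdk : d * F.k * d⁻¹ = F.k⁻¹) (hdb : (b' : G) = d * b * d⁻¹)
    (g : G) : g * b * g⁻¹ ≠ F.k ∧ g * b * g⁻¹ ≠ F.k⁻¹ := by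
  classical
  by_contra hnot
  rw [not_and_or, not_not, not_not] at hnot
  have hcomm : ∀ c : F.CK, Commute (c : G) F.k := fun c => mem_centralizer_singleton_iff.1 c.2
  have hdinv : d⁻¹ = d := inv_eq_of_mul_eq_one_right hd2
  have hzk : ∀ y : G, (y = F.k ∨ y = F.k⁻¹) → zpowers y = zpowers F.k := by
    rintro y (rfl | rfl)
    exacts [rfl, zpowers_inv]
  -- the image of `k`
  set y := g * F.k * g⁻¹ with hy
  have hyC : y ∈ F.CK := by
    refine mem_centralizer_singleton_iff.2 (?_ : Commute y F.k)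
    have hyb : Commute y (g * b * g⁻¹) := ((hcomm b).symm).map (MulAut.conj g).toMonoidHom
    rcases hnot with e | e <;> rw [e] at hyb
    exacts [hyb, inv_inv F.k ▸ hyb.inv_right]
  have hψy : ψ ⟨y, hyC⟩ ≠ 1 := by
    intro h
    have h1 := (hker _).1 h
    rw [← hzk _ hnot] at h1
    obtain ⟨n, hn⟩ := mem_zpowers_iff.1 h1
    rw [conj_zpow] at hn
    change _ = g * F.k * g⁻¹ at hn
    rw [mul_left_inj, mul_right_inj] at hn
    have := F.B_disj F.k (hn ▸ zpow_mem hbB n) (mem_zpowers _)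
    have h3 := F.k_ord
    rw [this, orderOf_one] at h3
    norm_num at h3
  have hy3 : ψ ⟨y, hyC⟩ * ψ ⟨y, hyC⟩ * ψ ⟨y, hyC⟩ = 1 := by
    rw [← map_mul, ← map_mul, ← map_one ψ]
    refine congrArg ψ (Subtype.ext ?_)
    show y * y * y = 1
    rw [hy, show g * F.k * g⁻¹ * (g * F.k * g⁻¹) * (g * F.k * g⁻¹) = g * F.k ^ 3 * g⁻¹ by
      simp only [pow_succ, pow_zero, one_mul]; group, F.k3, mul_one, mul_inv_cancel]
  obtain ⟨σ, hσ, hcases⟩ := AltSix.three_class _ (Equiv.Perm.mem_alternatingGroup.1 (hrange.le ⟨_, rfl⟩)) hy3 hψy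
  obtain ⟨h, rfl⟩ := hrange.ge (Equiv.Perm.mem_alternatingGroup.2 hσ)
  rw [← map_inv, ← map_mul, ← map_mul] at hcases
  have hh : (h : G) * (g * b * g⁻¹) * (h : G)⁻¹ = F.k ∨ (h : G) * (g * b * g⁻¹) * (h : G)⁻¹ = F.k⁻¹ := by
    rcases hnot with e | e <;> rw [e]
    · exact Or.inl (by rw [(hcomm h).eq, mul_inv_cancel_right])
    · exact Or.inr (by rw [(hcomm h).inv_right.eq, mul_inv_cancel_right])
  -- conjugation by `d`
  have hθker : ∀ (c : F.CK) (hc : d * (c : G) * d⁻¹ ∈ F.CK), ψ c = 1 → ψ ⟨d * c * d⁻¹, hc⟩ = 1 := by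
    intro c hc h1
    obtain ⟨n, hn⟩ := mem_zpowers_iff.1 ((hker c).1 h1)
    refine (hker _).2 ?_
    show d * (c : G) * d⁻¹ ∈ _
    rw [← hn, ← conj_zpow, hdk]
    exact zpow_mem (inv_mem (mem_zpowers _)) _
  have hnormd : ∀ c : F.CK, d * (c : G) * d⁻¹ ∈ F.CK := fun c => by
    refine mem_centralizer_singleton_iff.2 (?_ : Commute (d * (c : G) * d⁻¹) F.k)
    have h : Commute (d * (c : G) * d⁻¹) (d * F.k * d⁻¹) := (hcomm c).map (MulAut.conj d).toMonoidHom
    rw [hdk] at h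
    exact inv_inv F.k ▸ h.inv_right
  let θ : F.CK →* F.CK :=
    { toFun := fun c => ⟨d * c * d⁻¹, hnormd c⟩
      map_one' := Subtype.ext (show d * 1 * d⁻¹ = 1 by rw [mul_one, mul_inv_cancel])
      map_mul' := fun c c' => Subtype.ext (show d * (c * c') * d⁻¹ = d * c * d⁻¹ * (d * c' * d⁻¹) by group) }
  have hθb : θ b = b' := Subtype.ext hdb.symm
  have hθb' : θ b' = b := Subtype.ext (by
    show d * (b' : G) * d⁻¹ = b
    rw [hdb, hdinv, show d * (d * (b : G) * d) * d = (d * d) * b * (d * d) by group, hd2, one_mul, mul_one])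
  have hθψ : ∀ c c' : F.CK, ψ c = ψ c' → ψ (θ c) = ψ (θ c') := fun c c' e => by
    have := hθker (c⁻¹ * c') (hnormd _) (by rw [map_mul, map_inv, e, inv_mul_cancel])
    change ψ (θ (c⁻¹ * c')) = 1 at this
    rw [map_mul, map_mul, map_inv, map_inv] at this
    exact inv_mul_eq_one.1 this
  obtain ⟨n, yC, hnb, hny, hψn⟩ : ∃ (n : G) (yC : F.CK), (n * b * n⁻¹ = F.k ∨ n * b * n⁻¹ = F.k⁻¹) ∧
      (yC : G) = n * F.k * n⁻¹ ∧ (ψ yC = AltSix.b6 ∨ ψ yC = AltSix.b6⁻¹) := by
    have e1 : ((h * ⟨y, hyC⟩ * h⁻¹ : F.CK) : G) = (h : G) * g * F.k * ((h : G) * g)⁻¹ := by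
      show (h : G) * y * (h : G)⁻¹ = _
      rw [hy]; group
    have e2 : (h : G) * g * b * ((h : G) * g)⁻¹ = (h : G) * (g * b * g⁻¹) * (h : G)⁻¹ := by group
    have hcase2 : (ψ (h * ⟨y, hyC⟩ * h⁻¹) = AltSix.b6 ∨ ψ (h * ⟨y, hyC⟩ * h⁻¹) = AltSix.b6⁻¹) ∨
        (ψ (h * ⟨y, hyC⟩ * h⁻¹) = ψ b' ∨ ψ (h * ⟨y, hyC⟩ * h⁻¹) = ψ b'⁻¹) := by
      rw [map_inv, hψb']
      tauto
    rcases hcase2 with hc | hc
    · exact ⟨(h : G) * g, _, by rwa [e2], e1, hc⟩
    · refine ⟨d * ((h : G) * g), θ (h * ⟨y, hyC⟩ * h⁻¹), ?_, ?_, ?_⟩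
      · have e3 : d * ((h : G) * g) * b * (d * ((h : G) * g))⁻¹ =
            d * ((h : G) * (g * b * g⁻¹) * (h : G)⁻¹) * d⁻¹ := by group
        rw [e3]
        rcases hh with r | r <;> rw [r]
        · exact Or.inr hdk
        · left; rw [← conj_inv, hdk, inv_inv]
      · show d * ((h * ⟨y, hyC⟩ * h⁻¹ : F.CK) : G) * d⁻¹ = _
        rw [e1]; group
      · rcases hc with r | r
        · exact Or.inl (by rw [hθψ _ _ r, hθb', hψb])
        · exact Or.inr (by rw [hθψ _ _ r, map_inv, hθb', map_inv, hψb])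
  -- an element of `B` inverting `b`
  obtain ⟨σs, hσs, hσs5, hσsb⟩ := AltSix.inverter_b
  obtain ⟨s, hsB, hψs⟩ := hlift σs (Equiv.Perm.mem_alternatingGroup.2 hσs) hσs5
  have hsb : (s : G) * b * (s : G)⁻¹ = (b : G)⁻¹ := by
    refine eq_inv_of_mul_eq_one_left (F.B_disj _ (mul_mem (mul_mem (mul_mem hsB hbB) (inv_mem hsB)) hbB) ?_)
    refine (hker (s * b * s⁻¹ * b)).1 ?_
    rw [map_mul, map_mul, map_mul, map_inv, hψs, hψb, hσsb, inv_mul_cancel]
  set g' := n * s * n⁻¹ with hg'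
  have hg'k : g' * F.k * g'⁻¹ = F.k⁻¹ := by
    have e : g' * (n * b * n⁻¹) * g'⁻¹ = (n * b * n⁻¹)⁻¹ := by
      calc g' * (n * b * n⁻¹) * g'⁻¹ = n * ((s : G) * b * (s : G)⁻¹) * n⁻¹ := by rw [hg']; group
        _ = _ := by rw [hsb]; group
    rcases hnb with r | r <;> rw [r] at e
    · exact e
    · rw [← conj_inv, inv_inj] at e; exact e
  have hg'y : g' * (yC : G) * g'⁻¹ = yC := by
    calc g' * (yC : G) * g'⁻¹ = n * ((s : G) * F.k * (s : G)⁻¹) * n⁻¹ := by rw [hg', hny]; group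
      _ = yC := by rw [(hcomm s).eq, mul_inv_cancel_right, hny]
  set c : F.CK := ⟨g' * d, mem_centralizer_singleton_iff.2 (by
    refine mul_inv_eq_iff_eq_mul.1 ?_
    calc g' * d * F.k * (g' * d)⁻¹ = g' * (d * F.k * d⁻¹) * g'⁻¹ := by group
      _ = F.k := by rw [hdk, ← conj_inv, hg'k, inv_inv])⟩
  have hc : c * θ yC * c⁻¹ = yC := Subtype.ext (by
    show g' * d * (d * (yC : G) * d⁻¹) * (g' * d)⁻¹ = yC
    calc g' * d * (d * (yC : G) * d⁻¹) * (g' * d)⁻¹ = g' * ((d * d) * yC * (d * d)⁻¹) * g'⁻¹ := by group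
      _ = yC := by rw [hd2, inv_one, one_mul, mul_one, hg'y])
  have hψc := congrArg ψ hc
  rw [map_mul, map_mul, map_inv] at hψc
  rcases hψn with r | r
  · rw [hθψ yC b (r.trans hψb.symm), hθb, hψb', r] at hψc
    exact (AltSix.class_ne _).1 hψc
  · rw [hθψ yC b⁻¹ (r.trans (by rw [map_inv, hψb])), map_inv, hθb, map_inv, hψb', r, ← conj_inv, inv_inj] at hψc
    exact (AltSix.class_ne _).1 hψc

/-- The elements `a, b` of `B` and `d`. -/
theorem exists_six : ∃ a b d : G, a ∈ F.B ∧ b ∈ F.B ∧ a * a = 1 ∧ a ≠ 1 ∧ b * b * b = 1 ∧ (a * b) ^ 5 = 1 ∧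
    d * d = 1 ∧ d * F.k * d⁻¹ = F.k⁻¹ ∧ d * (a * b) = a * b * d ∧
    d * (b * a * b * a * b⁻¹ * a * b⁻¹) = b * a * b * a * b⁻¹ * a * b⁻¹ * d ∧
    (d * a * d * a) ^ 3 ≠ 1 ∧
    ∀ k e : G, val (lett a b k e d) [2, 6, 1, 0, 2, 0, 2, 6, 1, 6, 1, 0, 1, 0, 2, 6] = 1 ∧
      val (lett a b k e d) [0, 1, 0, 6, 1, 0, 2, 6, 1, 6, 1, 6, 2, 2] = 1 := by
  classical
  obtain ⟨hcard, ψ, hker, hrange, hlift⟩ := F.exists_psi hone
  obtain ⟨hma, hmb, ha5, hb5, ha6, hb6, hx6, haa, hbbb, hx65⟩ := AltSix.basic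
  obtain ⟨ac, haB, hψa⟩ := hlift AltSix.a6 (Equiv.Perm.mem_alternatingGroup.2 hma) ha5
  obtain ⟨bc, hbB, hψb⟩ := hlift AltSix.b6 (Equiv.Perm.mem_alternatingGroup.2 hmb) hb5
  have hcomm : ∀ c : F.CK, Commute (c : G) F.k := fun c => mem_centralizer_singleton_iff.1 c.2
  have hB1 : ∀ c : F.CK, (c : G) ∈ F.B → ψ c = 1 → c = 1 := fun c hc h =>
    Subtype.ext (F.B_disj _ hc ((hker c).1 h))
  have ha2 : ac * ac = 1 := hB1 _ (mul_mem haB haB) (by rw [map_mul, hψa, haa])
  have hb3 : bc * bc * bc = 1 := hB1 _ (mul_mem (mul_mem hbB hbB) hbB) (by rw [map_mul, map_mul, hψb, hbbb])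
  set x := ac * bc with hx
  have hψx : ψ x = AltSix.x6 := by rw [hx, map_mul, hψa, hψb]; rfl
  have hx5 : x ^ 5 = 1 := hB1 _ (pow_mem (mul_mem haB hbB) 5) (by rw [map_pow, hψx, hx65])
  let gC : ℕ → F.CK := fun l => [ac, bc, bc⁻¹].getD l 1
  have hgψ : (fun l => ψ (gC l)) = AltSix.lett AltSix.a6 AltSix.b6 := by
    funext l
    match l with
    | 0 => exact hψa
    | 1 => exact hψb
    | 2 => show ψ bc⁻¹ = AltSix.b6⁻¹; rw [map_inv, hψb]
    | l + 3 => exact map_one ψ
  have hψval : ∀ u, ψ (val gC u) = val (AltSix.lett AltSix.a6 AltSix.b6) u := fun u => by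
    rw [val_hom ψ gC u, hgψ]
  have hvalB : ∀ u : List ℕ, ((val gC u : F.CK) : G) ∈ F.B := by
    intro u
    induction u with
    | nil => exact one_mem _
    | cons l u ih =>
      rw [val_cons, Subgroup.coe_mul]
      refine mul_mem ?_ ih
      match l with
      | 0 => exact haB
      | 1 => exact hbB
      | 2 => exact inv_mem hbB
      | l + 3 => exact one_mem _
  set wc := val gC [1, 0, 1, 0, 2, 0, 2] with hwc
  set fc := val gC [0, 1, 0, 2, 0] with hfc
  obtain ⟨hww, hw1', hwx6⟩ := AltSix.w_ok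
  obtain ⟨hff, hf1', hfw', hfwc⟩ := AltSix.f_ok
  have hw2 : wc * wc = 1 := hB1 _ (mul_mem (hvalB _) (hvalB _)) (by rw [map_mul, hψval]; exact hww)
  have hw1 : wc ≠ 1 := fun h => hw1' (by rw [← hψval, ← hwc, h, map_one])
  have hwx : wc * x * wc = x⁻¹ := by
    refine inv_inj.1 (?_ : (wc * x * wc)⁻¹ = x⁻¹⁻¹)
    rw [inv_inv]
    refine inv_eq_of_mul_eq_one_right (hB1 _ ?_ ?_)
    · exact mul_mem (mul_mem (mul_mem (hvalB _) (mul_mem haB hbB)) (hvalB _)) (mul_mem haB hbB)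
    · rw [map_mul, map_mul, map_mul, hψval, hψx, hwx6, inv_mul_cancel]
  obtain ⟨d, hd2, hdk, hdx, hdw⟩ := F.exists_d hone hcard hker hrange hψx (congrArg Subtype.val hx5)
    (congrArg Subtype.val hw2) (fun h => hw1 (Subtype.ext h)) (congrArg Subtype.val hwx)
  have hdinv : d⁻¹ = d := inv_eq_of_mul_eq_one_right hd2
  have hnormd : ∀ c : F.CK, d * (c : G) * d⁻¹ ∈ F.CK := fun c => by
    refine mem_centralizer_singleton_iff.2 (?_ : Commute (d * (c : G) * d⁻¹) F.k)
    have h : Commute (d * (c : G) * d⁻¹) (d * F.k * d⁻¹) := (hcomm c).map (MulAut.conj d).toMonoidHom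
    rw [hdk] at h
    exact inv_inv F.k ▸ h.inv_right
  let θ : F.CK →* F.CK :=
    { toFun := fun c => ⟨d * c * d⁻¹, hnormd c⟩
      map_one' := Subtype.ext (show d * 1 * d⁻¹ = 1 by rw [mul_one, mul_inv_cancel])
      map_mul' := fun c c' => Subtype.ext (show d * (c * c') * d⁻¹ = d * c * d⁻¹ * (d * c' * d⁻¹) by group) }
  have hθx : θ x = x := Subtype.ext (by
    show d * (x : G) * d⁻¹ = x
    rw [hdx, mul_inv_cancel_right])
  have hθw : θ wc = wc := Subtype.ext (by
    show d * (wc : G) * d⁻¹ = wc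
    rw [hdw, mul_inv_cancel_right])
  set y := ψ (θ ac) with hy
  have hbx : bc = ac * x := by rw [hx, ← mul_assoc, ha2, one_mul]
  have hθb : θ bc = θ ac * x := by
    nth_rw 1 [hbx]
    rw [map_mul, hθx]
  have hψθb : ψ (θ bc) = y * AltSix.x6 := by rw [hθb, map_mul, hψx]
  have hψθ : (fun l => ψ (θ (gC l))) = AltSix.lett y (y * AltSix.x6) := by
    funext l
    match l with
    | 0 => rfl
    | 1 => exact hψθb
    | 2 => show ψ (θ bc⁻¹) = (y * AltSix.x6)⁻¹; rw [map_inv, map_inv, hψθb]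
    | l + 3 => exact (congrArg ψ (map_one θ)).trans (map_one ψ)
  have hψθval : ∀ u, ψ (θ (val gC u)) = val (AltSix.lett y (y * AltSix.x6)) u := fun u => by
    rw [← MonoidHom.comp_apply, val_hom (ψ.comp θ) gC u]
    exact congrArg (fun g => val g u) hψθ
  have hy6 : y = AltSix.y6 := by
    refine (AltSix.image_cases y (Equiv.Perm.mem_alternatingGroup.1 (hrange.le ⟨_, rfl⟩)) ?_ ?_ ?_).resolve_left ?_
    · rw [hy, ← map_mul, ← map_mul, ha2, map_one, map_one]
    · rw [← hψθb, ← map_pow, ← map_pow, show bc ^ 3 = 1 by rw [pow_succ, pow_two, hb3], map_one, map_one]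
    · rw [← hψθval, ← hwc, hθw, hwc, hψval]
    intro h
    -- otherwise `d` centralises `B`
    have hθa : θ ac = ac := by
      have h2 : ((ac⁻¹ * θ ac : F.CK) : G) ∈ zpowers F.k :=
        (hker _).1 (by rw [map_mul, map_inv, ← hy, h, hψa, inv_mul_cancel])
      refine (inv_mul_eq_one.1 (Subtype.ext (F.zpowers_sq h2 ?_) : ac⁻¹ * θ ac = 1)).symm
      have hq : Commute (ac : G) ((ac⁻¹ * θ ac : F.CK) : G) := by
        obtain ⟨m, hm⟩ := mem_zpowers_iff.1 h2
        rw [← hm]; exact (hcomm ac).zpow_right m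
      have e : (ac⁻¹ * θ ac) * (ac⁻¹ * θ ac) = ac⁻¹ * ac⁻¹ * (θ ac * θ ac) := by
        have hq' : Commute ac (ac⁻¹ * θ ac) := Subtype.ext hq.eq
        calc (ac⁻¹ * θ ac) * (ac⁻¹ * θ ac) = (ac⁻¹ * θ ac) * ac⁻¹ * θ ac := by group
          _ = ac⁻¹ * (ac⁻¹ * θ ac) * θ ac := by rw [hq'.inv_left.eq]
          _ = _ := by group
      rw [← Subgroup.coe_mul, e, ← map_mul, ← mul_inv_rev, ha2, inv_one, map_one, one_mul]
      rfl
    have hθbb : θ bc = bc := by rw [hθb, hθa, ← hbx]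
    have hθf : θ fc = fc := by
      rw [hfc, val_hom θ gC]
      congr 1
      funext l
      match l with
      | 0 => exact hθa
      | 1 => exact hθbb
      | 2 => show θ bc⁻¹ = bc⁻¹; rw [map_inv, hθbb]
      | l + 3 => exact map_one θ
    have hw1G : (wc : G) ≠ 1 := fun h => hw1 (Subtype.ext h)
    obtain ⟨D', hD'⟩ := D.exists_at hone
      (orderOf_eq_prime (by rw [_root_.sq, ← Subgroup.coe_mul, hw2]; rfl) hw1G : orderOf (wc : G) = 2)
    have hfw2 : fc * wc = wc * fc := by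
      refine mul_inv_eq_iff_eq_mul.1 ?_
      have := hB1 (fc * wc * fc⁻¹ * wc⁻¹) (mul_mem (mul_mem (mul_mem (hvalB _) (hvalB _)) (inv_mem (hvalB _)))
        (inv_mem (hvalB _))) (by
          rw [map_mul, map_mul, map_mul, map_inv, map_inv, hψval, hψval, hfwc, mul_inv_cancel_right, mul_inv_cancel])
      rw [mul_inv_eq_one] at this
      exact this
    refine (D'.inverter_moves F.k_ord (by rw [hD']; exact (hcomm wc).eq.symm) (by rw [hD']; exact hdw) hdk
      (v := (fc : G)) ?_ ?_ ?_ (by rw [hD']; exact congrArg Subtype.val hfw2) (hcomm fc).eq).1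
      (congrArg Subtype.val hθf)
    · exact congrArg Subtype.val (hB1 (fc * fc) (mul_mem (hvalB _) (hvalB _)) (by rw [map_mul, hψval]; exact hff))
    · exact fun e => hf1' (by rw [← hψval, ← hfc, show fc = 1 from Subtype.ext e, map_one])
    · rw [hD']
      exact fun e => hfw' (by rw [← hψval, ← hψval, ← hfc, ← hwc, show fc = wc from Subtype.ext e])
  have hψY : ψ (θ bc) = AltSix.Y6 := by rw [hψθb, hy6]; rfl
  set vc := θ (val gC [1, 0, 1, 0, 2]) with hvc
  have hψv : ψ vc = val (AltSix.lett AltSix.y6 AltSix.Y6) [1, 0, 1, 0, 2] := by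
    rw [hvc, hψθval, hy6]; rfl
  obtain ⟨hcom6, hv36, -⟩ := AltSix.pair_ok
  have hnot := F.not_conj_k hone hker hrange hbB hψb hψY hlift hd2 hdk rfl
  -- `b` and `vc` commute
  have hsplit : bc * vc = vc * bc := by
    by_contra hne
    set R : F.CK := bc⁻¹ * vc⁻¹ * bc * vc with hR
    have hRk : (R : G) ∈ zpowers F.k := (hker R).1 (by
      rw [hR, map_mul, map_mul, map_mul, map_inv, map_inv, hψb, hψv, mul_assoc, hcom6]
      group)
    have hR1 : (R : G) ≠ 1 := fun h => hne (by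
      have h' : R = 1 := Subtype.ext h
      calc bc * vc = vc * bc * R := by rw [hR]; group
        _ = vc * bc := by rw [h', mul_one])
    obtain ⟨k, W, hk, hk3, hWle, hW4, -, -, hlet⟩ := F.exists_letters hone (a := (ac : G)) (b := (bc : G)) haB hbB
      (congrArg Subtype.val ha2) (fun h => ha6 (by rw [← hψa, show ac = 1 from Subtype.ext h, map_one]))
      (congrArg Subtype.val hb3) (congrArg Subtype.val hx5)
    obtain ⟨e, he, he1⟩ : ∃ e ∈ W, e ≠ 1 := by
      by_contra h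
      push Not at h
      rw [(Subgroup.eq_bot_iff_forall _).2 h, card_bot] at hW4
      norm_num at hW4
    obtain ⟨⟨Fr⟩, -, -⟩ := hlet e he he1 d
    have heb : (bc : G)⁻¹ * e * bc = e * (k⁻¹ * e * k) := Fr.eb
    have hks : k⁻¹ * (k⁻¹ * e * k) * k = e * (k⁻¹ * e * k) := Fr.ksum e Fr.eE
    have hk33 : k * k * k = 1 := by rw [← hk3]; simp only [pow_succ, pow_zero, one_mul]
    have hbk : Commute (bc : G) k := by
      rcases hk with rfl | rfl
      exacts [hcomm bc, (hcomm bc).inv_right]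
    have hbke : Commute ((bc : G) * k) e := by
      refine mul_inv_eq_iff_eq_mul.1 ?_
      have h1 : (bc : G)⁻¹ * e * bc = k * e * k⁻¹ := by
        rw [heb, ← hks, show k⁻¹ * (k⁻¹ * e * k) * k = (k * k)⁻¹ * e * (k * k) by group,
          show k * k = k⁻¹ from (inv_eq_of_mul_eq_one_left hk33).symm, inv_inv]
      calc (bc : G) * k * e * ((bc : G) * k)⁻¹ = bc * (k * e * k⁻¹) * (bc : G)⁻¹ := by group
        _ = e := by rw [← h1]; group
    have hbk3 : orderOf ((bc : G) * k) = 3 := by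
      haveI : Fact (Nat.Prime 3) := ⟨Nat.prime_three⟩
      refine orderOf_eq_prime ?_ fun h => hb6 ?_
      · rw [hbk.mul_pow, hk3, mul_one, pow_succ, pow_two]; exact congrArg Subtype.val hb3
      · rw [← hψb, ← map_one ψ]
        refine congrArg ψ (hB1 bc hbB ((hker bc).2 ?_))
        rw [eq_inv_of_mul_eq_one_left h]
        rcases hk with rfl | rfl
        exacts [inv_mem (mem_zpowers _), by rw [inv_inv]; exact mem_zpowers _]
    obtain ⟨g, hg⟩ := F.three_conj hone hbk3 (v := e) (orderOf_eq_prime (by rw [_root_.sq, Fr.sq e Fr.eE]) he1)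
      hbke.eq
    -- `b` is conjugate to `b k`
    obtain ⟨u, hu⟩ : ∃ u : G, u * (bc : G) * u⁻¹ = (bc : G) * k := by
      have hstep : (vc : G)⁻¹ * bc * vc = (bc : G) * R := by
        rw [hR]; simp only [Subgroup.coe_mul, Subgroup.coe_inv]; group
      have hvR : Commute (vc : G) R := by
        obtain ⟨m, hm⟩ := mem_zpowers_iff.1 hRk
        rw [← hm]; exact (hcomm vc).zpow_right m
      have hkz : (R : G) ∈ zpowers k := by
        rcases hk with rfl | rfl
        exacts [hRk, by rw [zpowers_inv]; exact hRk]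
      rcases JTwoType.mem_zpowers_three hk3 hkz with r | r | r
      · exact absurd r hR1
      · exact ⟨(vc : G)⁻¹, by rw [inv_inv, hstep, r]⟩
      · refine ⟨(vc : G)⁻¹ * (vc : G)⁻¹, ?_⟩
        calc (vc : G)⁻¹ * (vc : G)⁻¹ * bc * ((vc : G)⁻¹ * (vc : G)⁻¹)⁻¹
            = (vc : G)⁻¹ * ((vc : G)⁻¹ * bc * vc) * vc := by simp only [mul_inv_rev, inv_inv, mul_assoc]
          _ = (vc : G)⁻¹ * ((bc : G) * R) * vc := by rw [hstep]
          _ = (vc : G)⁻¹ * bc * vc * ((vc : G)⁻¹ * R * vc) := by group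
          _ = (bc : G) * k := by
            rw [hstep, mul_assoc (vc : G)⁻¹, ← hvR.eq, inv_mul_cancel_left, r, mul_assoc, ← pow_add,
              show 2 + 2 = 3 + 1 from rfl, pow_add, hk3, one_mul, pow_one]
    rw [← hu, show g * (u * (bc : G) * u⁻¹) * g⁻¹ = g * u * (bc : G) * (g * u)⁻¹ by group] at hg
    exact hg.elim (hnot _).1 (hnot _).2
  -- so `k` is not a product of commutators
  haveI : Fact (Nat.Prime 3) := ⟨Nat.prime_three⟩
  set kC : F.CK := ⟨F.k, F.k_mem_cent⟩ with hkC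
  have hkc : kC ∈ center F.CK := mem_center_iff.2 fun c => Subtype.ext (hcomm c).eq
  set S := closure ({bc, vc, kC} : Set F.CK) with hS
  have hcl : ∀ p ∈ ({bc, vc, kC} : Set F.CK), ∀ q ∈ ({bc, vc, kC} : Set F.CK), p * q = q * p := by
    have hk' : ∀ c : F.CK, c * kC = kC * c := mem_center_iff.1 hkc
    simp only [Set.mem_insert_iff, Set.mem_singleton_iff]
    rintro p (rfl | rfl | rfl) q (rfl | rfl | rfl) <;>
      first | rfl | assumption | exact hsplit.symm | exact hk' _ | exact (hk' _).symm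
  have hSab : ∀ p ∈ S, ∀ q ∈ S, p * q = q * p := by
    have h1 : S ≤ centralizer ({bc, vc, kC} : Set F.CK) :=
      (closure_le _).2 fun p hp => mem_centralizer_iff.2 fun q hq => hcl q hq p hp
    intro p hp q hq
    have h2 : S ≤ centralizer ({p} : Set F.CK) := (closure_le _).2 fun s hs =>
      mem_centralizer_singleton_iff.2 (mem_centralizer_iff.1 (h1 hp) s hs)
    exact (mem_centralizer_singleton_iff.1 (h2 hq)).symm
  have hv3 : vc ^ 3 = 1 := by
    rw [hvc, ← map_pow, show val gC [1, 0, 1, 0, 2] ^ 3 = 1 from hB1 _ (pow_mem (hvalB _) 3) (by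
      rw [map_pow, hψval]; decide +kernel), map_one]
  have h3 : ∀ p ∈ S, p ^ 3 = 1 := by
    intro p hp
    induction hp using closure_induction with
    | mem p hp =>
      simp only [Set.mem_insert_iff, Set.mem_singleton_iff] at hp
      rcases hp with rfl | rfl | rfl
      exacts [by rw [pow_succ, pow_two, hb3], hv3, Subtype.ext F.k3]
    | one => exact one_pow 3
    | mul p q hp hq ihp ihq => rw [(show Commute p q from hSab p hp q hq).mul_pow, ihp, ihq, one_mul]
    | inv p _ ih => rw [inv_pow, ih, inv_one]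
  have hpg : IsPGroup 3 S := fun p => ⟨1, Subtype.ext (by rw [pow_one, Subgroup.coe_pow]; exact h3 p p.2)⟩
  have hS27 : Nat.card S = 27 := by
    obtain ⟨n, hn⟩ := IsPGroup.iff_card.1 hpg
    have hn3 : n ≤ 3 := by
      by_contra hcon
      have := (Nat.pow_dvd_pow 3 (show 4 ≤ n by omega)).trans (hn ▸ card_subgroup_dvd_card S)
      rw [hcard] at this
      norm_num at this
    refine le_antisymm (hn ▸ Nat.pow_le_pow_right (by norm_num) hn3) ?_
    have hb' : bc ∈ S := subset_closure (by simp)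
    have hv' : vc ∈ S := subset_closure (by simp)
    have hk' : kC ∈ S := subset_closure (by simp)
    let f : Fin 3 × Fin 3 × Fin 3 → S := fun p =>
      ⟨bc ^ (p.1 : ℕ) * vc ^ (p.2.1 : ℕ) * kC ^ (p.2.2 : ℕ),
        mul_mem (mul_mem (pow_mem hb' _) (pow_mem hv' _)) (pow_mem hk' _)⟩
    have hf : Function.Injective f := by
      rintro ⟨i, j, l⟩ ⟨i', j', l'⟩ e
      have e1 : bc ^ (i : ℕ) * vc ^ (j : ℕ) * kC ^ (l : ℕ) = bc ^ (i' : ℕ) * vc ^ (j' : ℕ) * kC ^ (l' : ℕ) :=
        congrArg Subtype.val e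
      have e2 := congrArg ψ e1
      rw [map_mul, map_mul, map_mul, map_mul, map_pow, map_pow, map_pow, map_pow, map_pow, map_pow, hψb, hψv,
        (hker kC).2 (mem_zpowers _), one_pow, mul_one, one_pow, mul_one] at e2
      obtain ⟨rfl, rfl⟩ := AltSix.pair_inj i j i' j' e2
      have e4 : F.k ^ (l : ℕ) = F.k ^ (l' : ℕ) := congrArg Subtype.val (mul_left_cancel e1)
      rw [pow_eq_pow_iff_modEq, F.k_ord, Nat.ModEq, Nat.mod_eq_of_lt l.2, Nat.mod_eq_of_lt l'.2] at e4
      obtain rfl : l = l' := Fin.ext e4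
      rfl
    simpa [Nat.card_prod] using Nat.card_le_card_of_injective f hf
  have hidx : S.index = 40 := by
    have := S.card_mul_index
    rw [hS27, hcard] at this
    omega
  have hkn : kC ∉ commutator F.CK := not_mem_commutator S hSab (subset_closure (by simp)) hkc (by
    rw [hidx, show 40 = 3 * 13 + 1 from rfl, pow_succ, pow_mul, show kC ^ 3 = 1 from Subtype.ext F.k3, one_pow,
      one_mul]
    intro h
    have h' := F.k_ord
    rw [show F.k = 1 from congrArg Subtype.val h, orderOf_one] at h'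
    norm_num at h')
  have hker1 : ∀ c ∈ commutator F.CK, ψ c = 1 → c = 1 := by
    intro c hc h
    rcases JTwoType.mem_zpowers_three F.k3 ((hker c).1 h) with r | r | r
    · exact Subtype.ext r
    · exact absurd (show kC = c from Subtype.ext r.symm) fun e => hkn (e ▸ hc)
    · refine absurd (show kC = c * c from Subtype.ext ?_) fun e => hkn (e ▸ mul_mem hc hc)
      rw [Subgroup.coe_mul, r, ← pow_add, show 2 + 2 = 3 + 1 from rfl, pow_add, F.k3, one_mul, pow_one]
  -- `a` and `b` are products of commutators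
  obtain ⟨eB⟩ := F.B_equiv
  haveI : IsSimpleGroup A5 := alternatingGroup.isSimpleGroup_five
  have htop : commutator A5 = ⊤ := by
    refine ((inferInstance : (commutator A5).Normal).eq_bot_or_eq_top).resolve_left fun h => ?_
    have hab : ∃ p q : A5, ⁅p, q⁆ ≠ 1 := by decide +kernel
    obtain ⟨p, q, hpq⟩ := hab
    refine hpq (mem_bot.1 ?_)
    rw [← h, _root_.commutator_def]
    exact commutator_mem_commutator (mem_top p) (mem_top q)
  have hBC' : ∀ c : F.CK, (c : G) ∈ F.B → c ∈ commutator F.CK := by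
    intro c hc
    let φ : A5 →* F.CK := (Subgroup.inclusion F.B_le_cent).comp eB.symm.toMonoidHom
    have h1 : (commutator A5).map φ ≤ commutator F.CK := by
      rw [_root_.commutator_def, _root_.commutator_def, map_commutator]
      exact commutator_mono le_top le_top
    have h2 : c = φ (eB ⟨c, hc⟩) := Subtype.ext (by
      show (c : G) = (eB.symm (eB ⟨c, hc⟩) : F.B)
      rw [MulEquiv.symm_apply_apply])
    rw [h2]
    exact h1 (mem_map_of_mem φ (htop ▸ mem_top _))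
  have hθC' : ∀ c ∈ commutator F.CK, θ c ∈ commutator F.CK := by
    intro c hc
    have h1 : (commutator F.CK).map θ ≤ commutator F.CK := by
      rw [_root_.commutator_def, map_commutator]
      exact commutator_mono le_top le_top
    exact h1 (mem_map_of_mem θ hc)
  have hvC' : ∀ u, val gC u ∈ commutator F.CK := fun u => hBC' _ (hvalB u)
  -- the two relations
  set R := bc⁻¹ * vc⁻¹ * bc * vc with hR
  have hR1 : R = 1 := by
    rw [hR, mul_assoc (bc⁻¹ * vc⁻¹), hsplit]; group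
  set T := val gC [0, 1, 0] * θ (val gC [1, 0, 2]) * bc * θ bc * bc⁻¹ * bc⁻¹ with hT
  have hT1 : T = 1 := by
    refine hker1 T ?_ ?_
    · exact mul_mem (mul_mem (mul_mem (mul_mem (mul_mem (hvC' _) (hθC' _ (hvC' _))) (hBC' _ hbB))
        (hθC' _ (hBC' _ hbB))) (inv_mem (hBC' _ hbB))) (inv_mem (hBC' _ hbB))
    · rw [hT, map_mul, map_mul, map_mul, map_mul, map_mul, map_inv, hψval, hψθval, hψb, hψY, hy6]
      exact AltSix.rel_ok
  refine ⟨ac, bc, d, haB, hbB, congrArg Subtype.val ha2, fun h => ha6 ?_, congrArg Subtype.val hb3,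
    congrArg Subtype.val hx5, hd2, hdk, hdx, ?_, ?_, fun k e => ⟨?_, ?_⟩⟩
  · rw [← hψa, show ac = 1 from Subtype.ext h, map_one]
  · have e : (wc : G) = bc * ac * bc * ac * (bc : G)⁻¹ * ac * (bc : G)⁻¹ := by
      simp [hwc, gC, val, mul_assoc]
    rw [← e]; exact hdw
  · intro h
    have h' : (θ ac * ac) ^ 3 = 1 := Subtype.ext (by
      show (d * (ac : G) * d⁻¹ * ac) ^ 3 = 1
      rw [hdinv]; exact h)
    have : (AltSix.y6 * AltSix.a6) ^ 3 = 1 := by
      rw [← hy6, hy, ← hψa, ← map_mul, ← map_pow, h', map_one]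
    revert this; decide +kernel
  · refine Eq.trans ?_ (congrArg Subtype.val hR1)
    have ha' : (ac : G)⁻¹ = ac := inv_eq_of_mul_eq_one_right (congrArg Subtype.val ha2)
    simp [hR, hvc, θ, gC, val, lett, mul_assoc, hdinv, ha']
  · refine Eq.trans ?_ (congrArg Subtype.val hT1)
    simp [hT, θ, gC, val, lett, mul_assoc, hdinv]

end Frame16

end Cfsg.Agent.JThreeType
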