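import Cfsg.Agent.Lib.JThreeType.Sys
import Cfsg.Agent.Lib.JThreeType.ThreeSplit
import Cfsg.Agent.Lib.JThreeType.BraidCentral
import Cfsg.Agent.Lib.JThreeType.Braid

/-!
# Groups of type `J₃` contain seven elements satisfying the relations

* `Data.exists_sys`
-/

set_option autoImplicit false
set_option linter.unusedSectionVars false
set_option linter.unusedSimpArgs false
set_option linter.style.haveILetI false
set_option maxHeartbeats 1600000

namespace Cfsg.Agent.JThreeType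

open Cfsg Subgroup OrderJTwo
open Table.Cert (val val_cons val_append val_nil)

namespace AltFive

set_option synthInstance.maxSize 4096 in
set_option synthInstance.maxHeartbeats 400000 in
theorem gen_facts : ∀ a : A5, a * a = 1 → a ≠ 1 → ∀ b : A5, b * b * b = 1 → (a * b) ^ 5 = 1 →
    (a * b * a * b⁻¹ * a * (b * a * b * a * b⁻¹ * a * b⁻¹) = b * a * b * a * b⁻¹ * a * b⁻¹ * (a * b * a * b⁻¹ * a)) ∧
    a * b * a * b⁻¹ * a ≠ b * a * b * a * b⁻¹ * a * b⁻¹ ∧
      b * a * b * a * b⁻¹ * a * b⁻¹ * (a * b) * (b * a * b * a * b⁻¹ * a * b⁻¹) * (a * b) = 1 := by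
  decide +kernel

theorem five_cent : ∀ σ τ : Equiv.Perm (Fin 5), σ ^ 5 = 1 → σ ≠ 1 → τ * σ = σ * τ → τ * τ = 1 → τ = 1 := by
  decide +kernel

end AltFive

variable {G : Type*} [Group G] [Finite G]

namespace Frame16

variable {D : Data G} (F : Frame16 D)

theorem mem_line_cases {i : Fin 5} {v y : G} (hv : v ∈ F.line i) (hv1 : v ≠ 1) (hy : y ∈ F.line i) :
    y = 1 ∨ y = v ∨ y = F.k * v * F.k⁻¹ ∨ y = F.k * (F.k * v * F.k⁻¹) * F.k⁻¹ := by
  set v1 := F.k * v * F.k⁻¹
  set v2 := F.k * v1 * F.k⁻¹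
  have h1 : v1 ∈ F.line i := F.k_lines i v hv
  have h2 : v2 ∈ F.line i := F.k_lines i v1 h1
  have hv11 : v1 ≠ 1 := fun h => hv1 (conj_eq_one_iff.1 h)
  have hv21 : v2 ≠ 1 := fun h => hv11 (conj_eq_one_iff.1 h)
  have d1 : v1 ≠ v := fun e => hv1 (F.k_fpf v (F.line_le i hv) e)
  have d2 : v2 ≠ v1 := fun e => hv11 (F.k_fpf v1 (F.line_le i h1) e)
  have d3 : v2 ≠ v := fun e => by
    have hk : F.k⁻¹ * v * F.k = v := (F.k_sq_conj v).symm.trans e
    refine d1 ?_
    show F.k * v * F.k⁻¹ = v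
    nth_rw 1 [← hk]
    group
  have hset : ({1, v, v1, v2} : Set G) = (F.line i : Set G) := by
    refine Set.eq_of_subset_of_ncard_le ?_ ?_ (Set.toFinite _)
    · rintro x (rfl | rfl | rfl | rfl)
      exacts [one_mem _, hv, h1, h2]
    · rw [← Nat.card_coe_set_eq, SetLike.coe_sort_coe, F.line_card i,
        Set.ncard_insert_of_notMem (by simp [hv1.symm, hv11.symm, hv21.symm]),
        Set.ncard_insert_of_notMem (by simp [d1.symm, d3.symm]), Set.ncard_pair d2.symm]
  simpa using hset.ge hy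

variable (hone : ∀ x y : G, orderOf x = 2 → orderOf y = 2 → IsConj x y)
include hone

/-- The cube of an element of `N(E) ∩ C(k)` fixing all lines is trivial. -/
theorem cube_eq_one {u : G} (hu : u ∈ normalizer (D.E F.t : Set G)) (hπ : F.π ⟨u, hu⟩ = 1)
    (huk : u * F.k = F.k * u) : u ^ 3 = 1 := by
  have hfix : ∀ y ∈ D.E F.t, u ^ 3 * y = y * u ^ 3 := by
    intro v hv
    by_cases hv1 : v = 1
    · simp [hv1]
    obtain ⟨i, hi⟩ := F.line_cover v hv hv1
    have hui : u * v * u⁻¹ ∈ F.line i := by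
      have := (F.line_map ⟨u, hu⟩ i v).1 hi
      rwa [hπ] at this
    have hc : ∀ x : G, u * (F.k * x * F.k⁻¹) * u⁻¹ = F.k * (u * x * u⁻¹) * F.k⁻¹ := fun x => by
      calc u * (F.k * x * F.k⁻¹) * u⁻¹ = (u * F.k) * x * (u * F.k)⁻¹ := by group
        _ = _ := by rw [huk]; group
    have hk3 : ∀ x : G, F.k * (F.k * (F.k * x * F.k⁻¹) * F.k⁻¹) * F.k⁻¹ = x := fun x => by
      calc F.k * (F.k * (F.k * x * F.k⁻¹) * F.k⁻¹) * F.k⁻¹ = F.k ^ 3 * x * (F.k ^ 3)⁻¹ := by
            simp only [pow_succ, pow_zero, one_mul]; group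
        _ = x := by rw [F.k3, one_mul, inv_one, mul_one]
    refine mul_inv_eq_iff_eq_mul.1 ?_
    have e : u ^ 3 * v * (u ^ 3)⁻¹ = u * (u * (u * v * u⁻¹) * u⁻¹) * u⁻¹ := by
      simp only [pow_succ, pow_zero, one_mul]; group
    rw [e]
    rcases F.mem_line_cases hi hv1 hui with h | h | h | h
    · exact absurd (conj_eq_one_iff.1 h) hv1
    · rw [h, h, h]
    · simp only [h, hc, hk3]
    · simp only [h, hc, hk3]
  refine F.k_fpf _ (F.outer.E_self hone hfix) ?_
  rw [← ((show Commute u F.k from huk).pow_left 3).eq, mul_inv_cancel_right]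

/-- `d` does not normalise `E`. -/
theorem not_mem_norm {a b d : G} (ha : a ∈ F.B) (hb : b ∈ F.B) (ha2 : a * a = 1) (ha1 : a ≠ 1)
    (hb3 : b * b * b = 1) (hab : (a * b) ^ 5 = 1) (hd2 : d * d = 1) (hdk : d * F.k * d⁻¹ = F.k⁻¹)
    (hdx : d * (a * b) = a * b * d) (hcube : (d * a * d * a) ^ 3 ≠ 1) : d ∉ normalizer (D.E F.t : Set G) := by
  intro hdN
  have haN := F.B_le ha
  set aN : normalizer (D.E F.t : Set G) := ⟨a, haN⟩
  set dN : normalizer (D.E F.t : Set G) := ⟨d, hdN⟩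
  set xN : normalizer (D.E F.t : Set G) := aN * ⟨b, F.B_le hb⟩
  have hx1 : F.π xN ≠ 1 := fun h => by
    have h1 : a * b = 1 := congrArg Subtype.val (F.B_faith xN (mul_mem ha hb) h)
    rw [eq_inv_of_mul_eq_one_right h1, inv_eq_of_mul_eq_one_right ha2, ha2, one_mul] at hb3
    exact ha1 hb3
  have hd1 : F.π dN = 1 := by
    refine AltFive.five_cent (F.π xN) _ ?_ hx1 ?_ ?_
    · rw [← map_pow, show xN ^ 5 = 1 from Subtype.ext (by rw [Subgroup.coe_pow]; exact hab), map_one]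
    · rw [← map_mul, ← map_mul]; exact congrArg F.π (Subtype.ext hdx)
    · rw [← map_mul, show dN * dN = 1 from Subtype.ext hd2, map_one]
  have huN : d * a * d * a ∈ normalizer (D.E F.t : Set G) := mul_mem (mul_mem (mul_mem hdN haN) hdN) haN
  refine hcube (F.cube_eq_one hone huN ?_ ?_)
  · show F.π (dN * aN * dN * aN) = 1
    rw [map_mul, map_mul, map_mul, hd1, one_mul, mul_one, ← map_mul, show aN * aN = 1 from Subtype.ext ha2, map_one]
  · have hak : Commute a F.k := F.B_comm a ha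
    have hdinv : d⁻¹ = d := inv_eq_of_mul_eq_one_right hd2
    have hdad : Commute (d * a * d⁻¹) F.k := by
      have h : Commute (d * a * d⁻¹) (d * F.k * d⁻¹) := hak.map (MulAut.conj d).toMonoidHom
      rw [hdk] at h
      exact inv_inv F.k ▸ h.inv_right
    rw [hdinv] at hdad
    exact (hdad.mul_left hak).eq

end Frame16

variable (hone : ∀ x y : G, orderOf x = 2 → orderOf y = 2 → IsConj x y)
include hone

/-- Seven elements satisfying the relations. -/
theorem Data.exists_sys (D : Data G) : ∃ g : ℕ → G, Sys g ∧ g 0 ≠ 1 := by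
  classical
  obtain ⟨t, ht⟩ := D.exists_outer hone
  obtain ⟨F, -⟩ := ht.exists_frame hone
  obtain ⟨a, b, d, ha, hb, ha2, ha1, hb3, hab, hd2, hdk0, hdx, hdw, hcube, hrel⟩ := F.exists_six hone
  obtain ⟨k, W, hk, hk3, hWle, hW4, hWk, hkfpf, hlet⟩ := F.exists_letters hone ha hb ha2 ha1 hb3 hab
  have hdk : d * k * d⁻¹ = k⁻¹ := by
    rcases hk with rfl | rfl
    · exact hdk0
    · rw [inv_inv, ← conj_inv, hdk0, inv_inv]
  have hkord : orderOf k = 3 := by
    rcases hk with rfl | rfl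
    exacts [F.k_ord, by rw [orderOf_inv, F.k_ord]]
  have hak : a * k = k * a := by
    rcases hk with rfl | rfl
    exacts [F.B_comm a ha, ((show Commute a F.k from F.B_comm a ha).inv_right).eq]
  have hbk : b * k = k * b := by
    rcases hk with rfl | rfl
    exacts [F.B_comm b hb, ((show Commute b F.k from F.B_comm b hb).inv_right).eq]
  obtain ⟨eB⟩ := F.B_equiv
  have hEB : ∀ y : F.B, eB y = 1 → (y : G) = 1 := fun y h =>
    congrArg Subtype.val (eB.injective (h.trans (map_one eB).symm))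
  set a' := eB ⟨a, ha⟩ with ha'
  set b' := eB ⟨b, hb⟩ with hb'
  have hai : a⁻¹ = a := inv_eq_of_mul_eq_one_right ha2
  obtain ⟨hfw'', hfw', hwxwx'⟩ := AltFive.gen_facts a'
    (by rw [ha', ← map_mul, show (⟨a, ha⟩ : F.B) * ⟨a, ha⟩ = 1 from Subtype.ext ha2, map_one])
    (fun h => ha1 (hEB _ h)) b'
    (by rw [hb', ← map_mul, ← map_mul, show (⟨b, hb⟩ : F.B) * ⟨b, hb⟩ * ⟨b, hb⟩ = 1 from Subtype.ext hb3, map_one])
    (by rw [ha', hb', ← map_mul, ← map_pow, show ((⟨a, ha⟩ : F.B) * ⟨b, hb⟩) ^ 5 = 1 from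
      Subtype.ext (by rw [Subgroup.coe_pow]; exact hab), map_one])
  set w := b * a * b * a * b⁻¹ * a * b⁻¹ with hw
  set f := a * b * a * b⁻¹ * a with hf
  have hwB : w ∈ F.B := mul_mem (mul_mem (mul_mem (mul_mem (mul_mem (mul_mem hb ha) hb) ha) (inv_mem hb)) ha)
    (inv_mem hb)
  have hfB : f ∈ F.B := mul_mem (mul_mem (mul_mem (mul_mem ha hb) ha) (inv_mem hb)) ha
  have hwc : w = (b * a * b) * a * (b * a * b)⁻¹ := by
    rw [hw, mul_inv_rev, mul_inv_rev, hai]; simp only [mul_assoc]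
  have hfc : f = (a * b) * a * (a * b)⁻¹ := by
    rw [hf, mul_inv_rev, hai]; simp only [mul_assoc]
  have hw2 : w * w = 1 := by rw [hwc, conj_mul, ha2, mul_one, mul_inv_cancel]
  have hw1 : w ≠ 1 := fun h => ha1 (conj_eq_one_iff.1 (hwc ▸ h))
  have hf2 : f * f = 1 := by rw [hfc, conj_mul, ha2, mul_one, mul_inv_cancel]
  have hf1 : f ≠ 1 := fun h => ha1 (conj_eq_one_iff.1 (hfc ▸ h))
  have hfw : f ≠ w := fun h => hfw' (by
    rw [ha', hb']
    simp only [← map_inv, ← map_mul]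
    exact congrArg eB (Subtype.ext h))
  have hwxwx : w * (a * b) * w * (a * b) = 1 := by
    refine hEB ⟨_, mul_mem (mul_mem (mul_mem hwB (mul_mem ha hb)) hwB) (mul_mem ha hb)⟩ ?_
    refine Eq.trans ?_ hwxwx'
    rw [ha', hb']
    simp only [← map_inv, ← map_mul]
    exact congrArg eB (Subtype.ext rfl)
  have hwk : w * k = k * w := by
    rcases hk with rfl | rfl
    exacts [F.B_comm w hwB, ((show Commute w F.k from F.B_comm w hwB).inv_right).eq]
  have hfk : f * k = k * f := by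
    rcases hk with rfl | rfl
    exacts [F.B_comm f hfB, ((show Commute f F.k from F.B_comm f hfB).inv_right).eq]
  have hwW : w ∉ W := fun h => hw1 (hkfpf w (hWle h) (by rw [mul_assoc, hwk, inv_mul_cancel_left]))
  obtain ⟨e0, he0, he01⟩ : ∃ e ∈ W, e ≠ 1 := by
    by_contra h
    push Not at h
    rw [(Subgroup.eq_bot_iff_forall _).2 h, card_bot] at hW4
    norm_num at hW4
  have hWwf : ∀ e ∈ W, w * e = e * w ∧ f * e = e * f := by
    intro e he
    by_cases he1 : e = 1
    · simp [he1]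
    obtain ⟨-, h1, h2⟩ := hlet e he he1 d
    exact ⟨by simpa [val, lett, wordW, hw, mul_assoc] using h1, by simpa [val, lett, wordF, hf, mul_assoc] using h2⟩
  have hfwc : f * w = w * f := by
    have h : f * w * f⁻¹ * w⁻¹ = 1 := by
      refine hEB ⟨_, mul_mem (mul_mem (mul_mem hfB hwB) (inv_mem hfB)) (inv_mem hwB)⟩ ?_
      refine Eq.trans ?_ (mul_inv_eq_one.2 (mul_inv_eq_iff_eq_mul.2 hfw''))
      rw [ha', hb']
      simp only [← map_inv, ← map_mul]
      exact congrArg eB (Subtype.ext rfl)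
    rw [mul_inv_eq_one, mul_inv_eq_iff_eq_mul] at h
    exact h
  obtain ⟨D', hD'⟩ := D.exists_at hone (orderOf_eq_prime (by rw [_root_.sq, hw2]) hw1 : orderOf w = 2)
  obtain ⟨e, he, he1, hed⟩ := D'.exists_braid W hkord (by rw [hD']; exact hwk.symm) hd2 (by rw [hD']; exact hdw)
    hdk hf2 hf1 (by rw [hD']; exact hfw) (by rw [hD']; exact hfwc) hfk
    (fun e he => by rw [hD']; exact (hWwf e he).1.symm) (fun e he => (hWwf e he).2.symm)
    (fun e he => F.outer.E_sq hone (hWle he)) hWk (fun e he h => hkfpf e (hWle he) h)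
    (fun e he => by
      obtain ⟨⟨Fr⟩, -, -⟩ := hlet e0 he0 he01 d
      by_cases h1 : e = 1
      · simp [h1]
      obtain ⟨⟨Fr'⟩, -, -⟩ := hlet e he h1 d
      exact Fr'.ksum e Fr'.eE)
    ⟨e0, he0, he01⟩ (by rw [hD']; exact hwW)
  rw [hD'] at hed
  obtain ⟨⟨Fr⟩, hwe, hfe⟩ := hlet e he he1 d
  set g := lett a b k e d with hg
  have hee : e * e = 1 := F.outer.E_sq hone (hWle he)
  have hdi : d⁻¹ = d := inv_eq_of_mul_eq_one_right hd2
  have hki : k⁻¹ = k * k := inv_eq_of_mul_eq_one_right (by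
    rw [← mul_assoc, ← hk3]; simp only [pow_succ, pow_zero, one_mul])
  have hk33 : k * (k * k) = 1 := by rw [← hki, mul_inv_cancel]
  -- words in the six letters
  have hone6 : ∀ r : List ℕ, (∀ l ∈ r, l < 6) → Action.fold 0 r = 0 →
      val g (r.filter (· != 5)) = 1 → val g r = 1 := fun r hr hf he => Fr.val_one hr hf he
  have b_l : b * (b * b) = 1 := by rw [← mul_assoc]; exact hb3
  have hx5 : a * b * (a * b) * (a * b) * (a * b) * (a * b) = 1 := by
    rw [← hab]; simp only [pow_succ, pow_zero, one_mul]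
  have hbi : b⁻¹ = b * b := inv_eq_of_mul_eq_one_right b_l
  have cka : ∀ X, k * (a * X) = a * (k * X) := fun X => by rw [← mul_assoc, ← hak, mul_assoc]
  have ckb : ∀ X, k * (b * X) = b * (k * X) := fun X => by rw [← mul_assoc, ← hbk, mul_assoc]
  have caa : ∀ X, a * (a * X) = X := fun X => by rw [← mul_assoc, ha2, one_mul]
  have cbb : ∀ X, b * (b * (b * X)) = X := fun X => by rw [← mul_assoc, ← mul_assoc, hb3, one_mul]
  have ckk : ∀ X, k * (k * (k * X)) = X := fun X => by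
    rw [← mul_assoc, ← mul_assoc, mul_assoc k k k, hk33, one_mul]
  -- the braid relation
  have hbraid : (e * d) ^ 3 = w := by
    refine hed.resolve_left fun h => ?_
    refine F.not_mem_norm hone ha hb ha2 ha1 hb3 hab hd2 hdk0 hdx hcube ?_
    have r3 := hone6 [5, 3, 5, 3, 5, 3] (by decide) (by decide +kernel) (by
      simp [val, hg, lett, hk33])
    have r4 := hone6 [5, 2, 0, 5, 0, 1, 5, 2, 0, 5, 0, 1] (by decide) (by decide +kernel) (by
      simp [val, hg, lett, hai, hbi, mul_assoc, caa, cbb, ha2, b_l])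
    have r5 := hone6 [2, 0, 2, 0, 5, 0, 1, 0, 1, 5, 2, 0, 4, 5, 3, 0, 1] (by decide) (by decide +kernel) (by
      simp [val, hg, lett, hki, hbi, mul_assoc, cka, ckb, caa, cbb, ckk, ha2, b_l, hk33, ← hak, ← hbk])
    refine mem_of_braid _ (Subgroup.le_normalizer (hWle he))
      (show k ∈ normalizer (D.E F.t : Set G) by
        rcases hk with rfl | rfl
        exacts [F.k_mem, inv_mem F.k_mem])
      (F.B_le (mul_mem ha hb)) hee hd2 ?_ ?_ ?_ ?_ ?_ ?_
    · calc k * d * k * d = k * (d * k * d⁻¹) := by rw [hdi]; group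
        _ = 1 := by rw [hdk, mul_inv_cancel]
    · rw [mul_assoc (d * (a * b)⁻¹) d (a * b), hdx, ← mul_assoc, mul_assoc d, inv_mul_cancel, mul_one, hd2]
    · rw [← h]; simp only [pow_succ, pow_zero, one_mul, mul_assoc]
    · simpa [val, hg, lett, mul_assoc] using r3
    · simpa [val, hg, lett, mul_assoc, hai] using r4
    · simpa [val, hg, lett, mul_assoc, hai] using r5
  have vw : ∀ u : List ℕ, val g ([1, 0, 1, 0, 2, 0, 2] ++ u) = w * val g u := fun u => by
    rw [val_append]; congr 1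
    simp [val, hg, lett, hw, mul_assoc]
  have vx : ∀ u : List ℕ, val g ([0, 1] ++ u) = a * b * val g u := fun u => by
    rw [val_append]; congr 1
    simp [val, hg, lett]
  have vX : ∀ u : List ℕ, val g ([2, 0] ++ u) = (a * b)⁻¹ * val g u := fun u => by
    rw [val_append]; congr 1
    simp [val, hg, lett, hai]
  have vd : ∀ u : List ℕ, val g (6 :: u) = d * val g u := fun u => val_cons g 6 u
  have e66 : val g [6, 6] = 1 := by rw [vd, vd, val_nil, mul_one, hd2]
  have ekd : val g [3, 6, 3, 6] = 1 := by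
    show k * (d * (k * (d * 1))) = 1
    calc k * (d * (k * (d * 1))) = k * (d * k * d⁻¹) := by rw [hdi]; group
      _ = 1 := by rw [hdk, mul_inv_cancel]
  have exd : val g [2, 0, 6, 0, 1, 6] = 1 := by
    rw [show [2, 0, 6, 0, 1, 6] = [2, 0] ++ (6 :: ([0, 1] ++ [6])) from rfl, vX, vd, vx, vd, val_nil, mul_one,
      ← mul_assoc d, hdx, mul_assoc _ d d, hd2, mul_one, inv_mul_cancel]
  have exd' : val g [6, 2, 0, 6, 0, 1] = 1 := by
    rw [show [6, 2, 0, 6, 0, 1] = 6 :: ([2, 0] ++ (6 :: ([0, 1] ++ []))) from rfl, vd, vX, vd, vx, val_nil, mul_one,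
      hdx, inv_mul_cancel_left, hd2]
  have ewd : val g [1, 0, 1, 0, 2, 0, 2, 6, 1, 0, 1, 0, 2, 0, 2, 6] = 1 := by
    rw [show [1, 0, 1, 0, 2, 0, 2, 6, 1, 0, 1, 0, 2, 0, 2, 6] =
      [1, 0, 1, 0, 2, 0, 2] ++ (6 :: ([1, 0, 1, 0, 2, 0, 2] ++ [6])) from rfl, vw, vd, vw, vd, val_nil, mul_one,
      ← mul_assoc d, hdw, mul_assoc _ d d, hd2, mul_one, hw2]
  have edw : val g [6, 1, 0, 1, 0, 2, 0, 2, 6, 1, 0, 1, 0, 2, 0, 2] = 1 := by
    rw [show [6, 1, 0, 1, 0, 2, 0, 2, 6, 1, 0, 1, 0, 2, 0, 2] =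
      6 :: ([1, 0, 1, 0, 2, 0, 2] ++ (6 :: ([1, 0, 1, 0, 2, 0, 2] ++ []))) from rfl, vd, vw, vd, vw, val_nil, mul_one,
      hdw, ← mul_assoc w w, hw2, one_mul, hd2]
  have ecz : val g [5, 6, 5, 6, 5, 6, 1, 0, 1, 0, 2, 0, 2] = 1 := by
    rw [show [5, 6, 5, 6, 5, 6, 1, 0, 1, 0, 2, 0, 2] = [5, 6, 5, 6, 5, 6] ++ ([1, 0, 1, 0, 2, 0, 2] ++ []) from rfl,
      val_append, vw, val_nil, mul_one]
    refine Eq.trans ?_ hw2
    congr 1
    rw [← hbraid]
    show e * (d * (e * (d * (e * (d * 1))))) = _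
    simp only [pow_succ, pow_zero, one_mul, mul_one, mul_assoc]
  have ewx : val g [1, 0, 1, 0, 2, 0, 2, 0, 1, 1, 0, 1, 0, 2, 0, 2, 0, 1] = 1 := by
    rw [show [1, 0, 1, 0, 2, 0, 2, 0, 1, 1, 0, 1, 0, 2, 0, 2, 0, 1] =
      [1, 0, 1, 0, 2, 0, 2] ++ ([0, 1] ++ ([1, 0, 1, 0, 2, 0, 2] ++ ([0, 1] ++ []))) from rfl, vw, vx, vw, vx,
      val_nil, mul_one]
    rw [← hwxwx]; simp only [mul_assoc]
  refine ⟨g, ⟨?_, ?_, ?_, ?_⟩, ha1⟩
  · intro l hl
    interval_cases l
    · exact ha2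
    · exact inv_mul_cancel b
    · exact mul_inv_cancel b
    · exact inv_mul_cancel k
    · exact mul_inv_cancel k
    · exact hee
    · exact hd2
  · intro r hr
    obtain ⟨hR, hT⟩ := hrel k e
    simp only [Table.bigRels, List.mem_cons, List.not_mem_nil, or_false] at hr
    rcases hr with rfl | rfl | rfl | rfl | rfl | rfl | rfl | rfl | rfl | rfl | rfl | rfl | rfl | rfl | rfl | rfl |
      rfl | rfl | rfl | rfl | rfl | rfl | rfl | rfl | rfl | rfl | rfl
    all_goals first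
      | exact hR
      | exact hT
      | (refine hone6 _ (by decide) (by decide +kernel) ?_
         simp [val, hg, lett, hki, hbi, hai, mul_assoc, cka, ckb, caa, cbb, ckk, ha2, b_l, hk33, ← hak, ← hbk]
         all_goals simpa [mul_assoc] using hx5)
      | skip
    all_goals first | exact e66 | exact ekd | exact exd | exact exd' | exact ewd | exact edw | exact ecz | exact ewx
  · intro r hr
    simp only [smallRels, List.mem_cons, List.not_mem_nil, or_false] at hr
    rcases hr with rfl | rfl | rfl | rfl | rfl | rfl | rfl | rfl | rfl | rfl | rfl | rfl | rfl | rfl | rfl | rfl | rfl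
    all_goals first
      | (refine hone6 _ (by decide) (by decide +kernel) ?_
         simp [val, hg, lett, hki, hbi, hai, mul_assoc, cka, ckb, caa, cbb, ckk, ha2, b_l, hk33, ← hak, ← hbk]
         all_goals simpa [mul_assoc] using hx5)
      | skip
    all_goals first | exact e66 | exact ekd | exact exd | exact exd' | exact ewd | exact edw | exact ecz | exact ewx
  · exact ⟨Fr.phi, Fr.phi_xor, Fr.phi_one, fun l hl m => Fr.conj_letter hl m⟩

end Cfsg.Agent.JThreeType
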