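import Mathlib
import Cfsg.Agent.EqLemmas

/-!
# Large coset tables with ranked justifications

As `Cfsg.Agent.JTwoType.Table`, with the entries kept in binary trees of packed blocks, subgroup generators that
are words, and the check split by ranges of cosets.

* `Cert.cover`, `Cert.card_le`
-/

set_option autoImplicit false

namespace Cfsg.Agent.JThreeType.Table

open Subgroup

/-- A binary tree of packed blocks. -/
inductive Tr where
  | leaf (v : ℕ)
  | node (m : ℕ) (l r : Tr)

/-- The lane `i`: blocks hold 32 lanes of 42 bits. -/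
noncomputable def Tr.get (t : Tr) : ℕ → ℕ :=
  Tr.rec (motive := fun _ => ℕ → ℕ) (fun v i => Nat.mod (Nat.shiftRight v (Nat.mul 42 i)) 4398046511104)
    (fun m _ _ gl gr i => bif Nat.blt i m then gl i else gr (Nat.sub i m)) t

/-- A tree of lists. -/
inductive WTr where
  | leaf (sub : Bool) (pre post : List ℕ)
  | node (m : ℕ) (l r : WTr)

/-- The entry `i`. -/
def WTr.get : WTr → ℕ → Bool × List ℕ × List ℕ
  | .leaf s u v, _ => (s, u, v)
  | .node m l r, i => bif Nat.blt i m then l.get i else r.get (i - m)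

/-- A coset table with justifications. A lane of `tab` holds rank, image and justification,
a lane of `up` holds parent and letter. -/
structure Cert where
  n : ℕ
  inv : List ℕ
  subs : List (List ℕ)
  rels : List (List ℕ)
  ws : WTr
  tab : List Tr
  up : Tr

namespace Cert

variable (C : Cert)

def k : ℕ := C.inv.length
def iv (a : ℕ) : ℕ := C.inv.getD a 0
noncomputable def lane (a i : ℕ) : ℕ := (C.tab.getD a (.leaf 0)).get i
def rkOf (v : ℕ) : ℕ := Nat.mod v 131072
def tOf (v : ℕ) : ℕ := Nat.mod (Nat.shiftRight v 17) 32768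
def jsOf (v : ℕ) : ℕ := Nat.shiftRight v 32
noncomputable def T (a i : ℕ) : ℕ := tOf (C.lane a i)
noncomputable def rk (a i : ℕ) : ℕ := rkOf (C.lane a i)
noncomputable def par (i : ℕ) : ℕ := (C.up.get i) % 32768
noncomputable def pl (i : ℕ) : ℕ := (C.up.get i) >>> 15

/-- A path all whose edges have rank below `e`. -/
noncomputable def follow (e fin : ℕ) (p : ℕ) (w : List ℕ) : Bool :=
  List.rec (motive := fun _ => ℕ → Bool) (fun p => Nat.beq p fin)
    (fun l _ f p => Nat.blt l C.k &&
      (Nat.blt (rkOf (C.lane l p)) e && f (tOf (C.lane l p)))) w p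

/-- Equality of words. -/
def eqW : List ℕ → List ℕ → Bool
  | [], [] => true
  | a :: u, b :: v => Nat.beq a b && eqW u v
  | _, _ => false

/-- A word is a rotation of a relator or of an inverted relator. -/
def isRot (w : List ℕ) : Bool :=
  C.rels.any fun r => (List.range r.length).any fun p =>
    eqW (r.rotate p) w || eqW ((r.reverse.map C.iv).rotate p) w

noncomputable def loopOK (a i j e : ℕ) (x : Bool × List ℕ × List ℕ) : Bool :=
  bif x.1 then C.subs.any (fun s => eqW s (x.2.1 ++ a :: x.2.2)) &&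
    (C.follow e i 0 x.2.1 && C.follow e 0 j x.2.2)
  else C.isRot (a :: x.2.2) && C.follow e i j x.2.2

noncomputable def edgeOK (a i : ℕ) : Bool :=
  let v := C.lane a i
  Nat.blt (tOf v) C.n &&
  match jsOf v with
  | 0 => Nat.blt i (tOf v) && Nat.beq (C.par (tOf v)) i && Nat.beq (C.pl (tOf v)) a
  | 1 => Nat.blt (tOf v) i && Nat.beq (C.par i) (tOf v) && Nat.beq (C.pl i) (C.iv a)
  | m + 2 => C.loopOK a i (tOf v) (rkOf v) (C.ws.get m)

def headOK : Bool :=
  Nat.blt 0 C.n && ((List.range C.k).all fun a => Nat.blt (C.iv a) C.k && Nat.beq (C.iv (C.iv a)) a) &&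
  (C.rels.all fun r => r.all fun a => Nat.blt a C.k)

/-- The check of the cosets `128 * q + j` for `j < 128`. -/
noncomputable def blockOK (q : ℕ) : Bool :=
  (List.range 128).all fun j => Nat.ble C.n (128 * q + j) ||
    ((Nat.beq (128 * q + j) 0 || Nat.blt (C.par (128 * q + j)) (128 * q + j)) &&
      (List.range C.k).all fun a => C.edgeOK a (128 * q + j))

/-- The check of the blocks `lo, …, lo + len - 1`. -/
noncomputable def rangeOK (lo len : ℕ) : Bool := (List.range len).all fun q => C.blockOK (lo + q)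

variable {Γ : Type*} [Group Γ]

/-- The value of a word. -/
def val (g : ℕ → Γ) (w : List ℕ) : Γ := (w.map g).prod

theorem val_nil (g : ℕ → Γ) : val g [] = 1 := rfl

theorem val_cons (g : ℕ → Γ) (a : ℕ) (w : List ℕ) : val g (a :: w) = g a * val g w := by simp [val]

theorem val_append (g : ℕ → Γ) (v w : List ℕ) : val g (v ++ w) = val g v * val g w := by simp [val]

theorem val_rotate (g : ℕ → Γ) : ∀ (p : ℕ) (w : List ℕ), val g w = 1 → val g (w.rotate p) = 1
  | 0, w, h => by rwa [List.rotate_zero]
  | p + 1, [], h => by simpa using h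
  | p + 1, a :: w, h => by
    rw [List.rotate_cons_succ]
    refine val_rotate g p _ ?_
    rw [val_cons] at h
    rw [val_append, val_cons, val_nil, mul_one]
    exact mul_eq_one_comm.1 h

/-- Representatives along the tree. -/
noncomputable def rep (g : ℕ → Γ) : ℕ → ℕ → Γ
  | 0, _ => 1
  | f + 1, i => if i = 0 then 1 else rep g f (C.par i) * g (C.pl i)

structure Facts : Prop where
  npos : 0 < C.n
  iv_lt : ∀ a < C.k, C.iv a < C.k
  iv_iv : ∀ a < C.k, C.iv (C.iv a) = a
  rels_lt : ∀ r ∈ C.rels, ∀ a ∈ r, a < C.k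
  par_lt : ∀ i, 0 < i → i < C.n → C.par i < i
  edge : ∀ a < C.k, ∀ i < C.n, C.edgeOK a i = true

variable {C}

theorem eqW_eq : ∀ {u v : List ℕ}, eqW u v = true → u = v
  | [], [], _ => rfl
  | a :: u, b :: v, h => by
    simp only [eqW, Bool.and_eq_true] at h
    rw [Nat.eq_of_beq_eq_true h.1, eqW_eq h.2]
  | [], _ :: _, h => absurd h Bool.false_ne_true
  | _ :: _, [], h => absurd h Bool.false_ne_true

/-- Blocks checked in ranges give all blocks. -/
theorem blocks_of_ranges {lo len hi : ℕ} (h : C.rangeOK lo len = true) (hp : ∀ q < lo, C.blockOK q = true)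
    (hh : hi = lo + len) : ∀ q < hi, C.blockOK q = true := by
  subst hh
  intro q hq
  rcases Nat.lt_or_ge q lo with h1 | h1
  · exact hp q h1
  · simp only [rangeOK, List.all_eq_true, List.mem_range] at h
    obtain ⟨r, rfl⟩ : ∃ r, q = lo + r := ⟨q - lo, by omega⟩
    exact h r (by omega)

theorem facts (hh : C.headOK = true) {hi : ℕ} (hb : ∀ q < hi, C.blockOK q = true) (hn : C.n ≤ 128 * hi) :
    C.Facts := by
  simp only [headOK, Bool.and_eq_true, List.all_eq_true, List.mem_range, Nat.blt_eq] at hh
  obtain ⟨⟨h0, hiv⟩, hr⟩ := hh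
  have key : ∀ i < C.n, (i = 0 ∨ C.par i < i) ∧ ∀ a < C.k, C.edgeOK a i = true := by
    intro i hi'
    have h := hb (i / 128) (by omega)
    simp only [blockOK, List.all_eq_true, List.mem_range, Bool.or_eq_true, Bool.and_eq_true] at h
    have h2 := h (i % 128) (Nat.mod_lt _ (by norm_num))
    rw [Nat.div_add_mod] at h2
    rcases h2 with h2 | ⟨h3, h4⟩
    · exact absurd (Nat.le_of_ble_eq_true h2) (by omega)
    · refine ⟨h3.imp Nat.eq_of_beq_eq_true (fun h5 => by simpa using h5), h4⟩
  exact ⟨h0, fun a ha => (hiv a ha).1, fun a ha => Nat.eq_of_beq_eq_true (hiv a ha).2, hr,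
    fun i hi0 hin => (key i hin).1.resolve_left (by omega), fun a ha i hin => (key i hin).2 a ha⟩

theorem rep_indep (hf : C.Facts) (g : ℕ → Γ) :
    ∀ i, i < C.n → ∀ f f', i ≤ f → i ≤ f' → C.rep g f i = C.rep g f' i := by
  intro i
  induction i using Nat.strong_induction_on with
  | _ i ih =>
    intro hi f f' h1 h2
    rcases Nat.eq_zero_or_pos i with rfl | h0
    · cases f <;> cases f' <;> simp [rep]
    obtain ⟨f, rfl⟩ : ∃ e, f = e + 1 := ⟨f - 1, by omega⟩
    obtain ⟨f', rfl⟩ : ∃ e, f' = e + 1 := ⟨f' - 1, by omega⟩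
    have hp := hf.par_lt i h0 hi
    simp only [rep, if_neg (Nat.pos_iff_ne_zero.1 h0)]
    rw [ih _ hp (by omega) f f' (by omega) (by omega)]

variable (C) in
/-- The representative of a coset. -/
noncomputable def r (g : ℕ → Γ) (i : ℕ) : Γ := C.rep g C.n i

theorem r_zero (g : ℕ → Γ) : C.r g 0 = 1 := by
  rw [r]; cases C.n <;> simp [rep]

theorem r_step (hf : C.Facts) (g : ℕ → Γ) {j : ℕ} (h0 : 0 < j) (hj : j < C.n) :
    C.r g j = C.r g (C.par j) * g (C.pl j) := by
  have hp := hf.par_lt j h0 hj
  rw [r, r, rep_indep hf g j hj C.n (C.n + 1) (by omega) (by omega)]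
  simp only [rep, if_neg (Nat.pos_iff_ne_zero.1 h0)]

theorem inv_word (hf : C.Facts) {g : ℕ → Γ} (hinv : ∀ a < C.k, g (C.iv a) * g a = 1) :
    ∀ w : List ℕ, (∀ a ∈ w, a < C.k) → val g (w.reverse.map C.iv) = (val g w)⁻¹ := by
  intro w
  induction w with
  | nil => simp [val]
  | cons a w ih =>
    intro hw
    rw [List.reverse_cons, List.map_append, val_append, ih (fun b hb => hw b (List.mem_cons_of_mem _ hb)),
      val_cons, mul_inv_rev]
    congr 1
    simpa [val] using eq_inv_of_mul_eq_one_left (hinv a (hw a List.mem_cons_self))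

theorem rot_val (hf : C.Facts) {g : ℕ → Γ} (hinv : ∀ a < C.k, g (C.iv a) * g a = 1)
    (hrel : ∀ r ∈ C.rels, val g r = 1) {w : List ℕ} (h : C.isRot w = true) : val g w = 1 := by
  simp only [isRot, List.any_eq_true, Bool.or_eq_true] at h
  obtain ⟨r, hr, p, -, h | h⟩ := h
  · rw [← eqW_eq h]; exact val_rotate g p _ (hrel r hr)
  · rw [← eqW_eq h]
    refine val_rotate g p _ ?_
    rw [inv_word hf hinv r (hf.rels_lt r hr), hrel r hr, inv_one]

variable (H : Subgroup Γ)

theorem edge_mem (hf : C.Facts) {g : ℕ → Γ} (hinv : ∀ a < C.k, g (C.iv a) * g a = 1)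
    (hrel : ∀ r ∈ C.rels, val g r = 1) (hsub : ∀ s ∈ C.subs, val g s ∈ H) :
    ∀ e a i, C.rk a i = e → a < C.k → i < C.n → C.r g i * g a * (C.r g (C.T a i))⁻¹ ∈ H := by
  intro e
  induction e using Nat.strong_induction_on with
  | _ e ih =>
    intro a i he ha hi
    have hok := hf.edge a ha i hi
    simp only [edgeOK, Bool.and_eq_true, Nat.blt_eq] at hok
    obtain ⟨hj, hjs⟩ := hok
    change C.T a i < C.n at hj
    split at hjs
    · simp only [Bool.and_eq_true, Nat.blt_eq] at hjs
      obtain ⟨⟨hlt, hp⟩, hl⟩ := hjs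
      change i < C.T a i at hlt
      change Nat.beq (C.par (C.T a i)) i = true at hp
      change Nat.beq (C.pl (C.T a i)) a = true at hl
      rw [r_step hf g (by omega) hj, Nat.eq_of_beq_eq_true hp, Nat.eq_of_beq_eq_true hl, mul_inv_cancel]
      exact one_mem H
    · simp only [Bool.and_eq_true, Nat.blt_eq] at hjs
      obtain ⟨⟨hlt, hp⟩, hl⟩ := hjs
      change C.T a i < i at hlt
      change Nat.beq (C.par i) (C.T a i) = true at hp
      rw [r_step hf g (show 0 < i by omega) hi, Nat.eq_of_beq_eq_true hp, Nat.eq_of_beq_eq_true hl,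
        mul_assoc (C.r g (C.T a i)) (g (C.iv a)) (g a), hinv a ha, mul_one, mul_inv_cancel]
      exact one_mem H
    · rename_i m _
      change C.loopOK a i (C.T a i) (C.rk a i) (C.ws.get m) = true at hjs
      rw [he] at hjs
      have key : ∀ (w : List ℕ) (fin p : ℕ), p < C.n → C.follow e fin p w = true →
          C.r g p * val g w * (C.r g fin)⁻¹ ∈ H := by
        intro w
        induction w with
        | nil =>
          intro fin p _ h
          simp only [follow] at h
          rw [Nat.eq_of_beq_eq_true h]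
          simp [val]
        | cons b w ihw =>
          intro fin p hp h
          simp only [follow, Bool.and_eq_true, Nat.blt_eq] at h
          obtain ⟨hb, hr, h⟩ := h
          change C.rk b p < e at hr
          change C.follow e fin (C.T b p) w = true at h
          have hq : C.T b p < C.n := by
            have := hf.edge b hb p hp
            simp only [edgeOK, Bool.and_eq_true, Nat.blt_eq] at this
            exact this.1
          have h2 := mul_mem (ih _ hr b p rfl hb hp) (ihw fin _ hq h)
          rw [val_cons]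
          have e' : C.r g p * (g b * val g w) * (C.r g fin)⁻¹ =
              C.r g p * g b * (C.r g (C.T b p))⁻¹ * (C.r g (C.T b p) * val g w * (C.r g fin)⁻¹) := by group
          rwa [e']
      rcases hx : C.ws.get m with ⟨s, u, v⟩
      rw [hx] at hjs
      cases s with
      | false =>
        simp only [loopOK, cond_false, Bool.and_eq_true] at hjs
        have hw := rot_val hf hinv hrel hjs.1
        rw [val_cons] at hw
        have h3 := inv_mem (key v i _ hj hjs.2)
        rw [eq_inv_of_mul_eq_one_left hw]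
        simpa [mul_assoc] using h3
      | true =>
        simp only [loopOK, cond_true, Bool.and_eq_true, List.any_eq_true] at hjs
        obtain ⟨⟨s, hs, hsw⟩, hu, hv⟩ := hjs
        have h1 := key u i 0 hf.npos hu
        have h2 := key v 0 _ hj hv
        have h3 := hsub s hs
        rw [eqW_eq hsw, val_append, val_cons] at h3
        rw [r_zero] at h1 h2
        have h4 := mul_mem (mul_mem (inv_mem h1) h3) (inv_mem h2)
        convert h4 using 1
        group

/-- Every element generated by the letters lies in one of the `n` cosets of `H`. -/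
theorem cover (hf : C.Facts) {g : ℕ → Γ} (hinv : ∀ a < C.k, g (C.iv a) * g a = 1)
    (hrel : ∀ r ∈ C.rels, val g r = 1) (hsub : ∀ s ∈ C.subs, val g s ∈ H) {x : Γ}
    (hx : x ∈ closure (g '' {a | a < C.k})) : ∃ i, i < C.n ∧ x * (C.r g i)⁻¹ ∈ H := by
  have step : ∀ x : Γ, (∃ i, i < C.n ∧ x * (C.r g i)⁻¹ ∈ H) → ∀ a < C.k,
      ∃ i, i < C.n ∧ x * g a * (C.r g i)⁻¹ ∈ H := by
    rintro x ⟨i, hi, hm⟩ a ha
    refine ⟨C.T a i, ?_, ?_⟩
    · have := hf.edge a ha i hi
      simp only [edgeOK, Bool.and_eq_true, Nat.blt_eq] at this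
      exact this.1
    · have h2 := mul_mem hm (edge_mem H hf hinv hrel hsub _ a i rfl ha hi)
      rwa [show x * (C.r g i)⁻¹ * (C.r g i * g a * (C.r g (C.T a i))⁻¹) = x * g a * (C.r g (C.T a i))⁻¹ by group]
        at h2
  induction hx using Subgroup.closure_induction_right with
  | one => exact ⟨0, hf.npos, by rw [r_zero]; simp⟩
  | mul_right x _ y hy ih =>
    obtain ⟨a, ha, rfl⟩ := hy
    exact step x ih a ha
  | mul_inv_cancel x _ y hy ih =>
    obtain ⟨a, ha, rfl⟩ := hy
    rw [← eq_inv_of_mul_eq_one_left (hinv a ha)]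
    exact step x ih _ (hf.iv_lt a ha)

/-- The order bound. -/
theorem card_le [Finite Γ] (hf : C.Facts) {g : ℕ → Γ} (hinv : ∀ a < C.k, g (C.iv a) * g a = 1)
    (hrel : ∀ r ∈ C.rels, val g r = 1) (hsub : ∀ s ∈ C.subs, val g s ∈ H) :
    Nat.card (closure (g '' {a | a < C.k})) ≤ C.n * Nat.card H := by
  classical
  have hc := fun x : closure (g '' {a | a < C.k}) => cover H hf hinv hrel hsub x.2
  choose i hi hm using hc
  let f : closure (g '' {a | a < C.k}) → Fin C.n × H := fun x => (⟨i x, hi x⟩, ⟨_, hm x⟩)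
  have hf' : Function.Injective f := by
    intro x y e
    simp only [f, Prod.mk.injEq, Fin.mk.injEq, Subtype.mk.injEq] at e
    obtain ⟨e1, e2⟩ := e
    rw [e1] at e2
    exact Subtype.ext (mul_right_cancel e2)
  have := Nat.card_le_card_of_injective f hf'
  rwa [Nat.card_prod, Nat.card_fin] at this

end Cert

end Cfsg.Agent.JThreeType.Table
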