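import Cfsg.Agent.Lib.JThreeType.ThreeLocal
import Cfsg.Agent.Lib.JThreeType.NormE
import Cfsg.Agent.Lib.DihedralEight.Recognise
import Cfsg.Agent.Lib.PSL2.Groups

/-!
# Groups of type `J₃`: `C(k)` modulo `⟨k⟩` is the alternating group of degree six

* `Frame16.three_conj`: elements of order three centralising an involution are conjugate to `k` or `k⁻¹`
* `Frame16.exists_iso6`: `C(k)` modulo `⟨k⟩` is `A₆`
* `Frame16.exists_psi`: the action on the six cosets of `⟨k⟩ × B`
-/

set_option autoImplicit false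
set_option linter.unusedSectionVars false
set_option linter.style.haveILetI false
set_option maxHeartbeats 800000

namespace Cfsg.Agent.JThreeType

open Cfsg Subgroup OrderJTwo

namespace AltFive

theorem klein : ∀ σ : A5, σ * σ = 1 → σ ≠ 1 → ∃ g : A5, σ * (g * σ * g⁻¹) = g * σ * g⁻¹ * σ ∧ g * σ * g⁻¹ ≠ σ := by
  decide +kernel

theorem exists_involution : ∃ σ : A5, σ * σ = 1 ∧ σ ≠ 1 := by decide +kernel

theorem swap_cent : Fintype.card {σ : Equiv.Perm (Fin 5) // σ * Equiv.swap 0 1 = Equiv.swap 0 1 * σ} = 12 := by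
  decide +kernel

end AltFive

variable {G : Type*} [Group G] [Finite G]

namespace Frame16

variable {D : Data G} (F : Frame16 D)

/-- `C(k)`. -/
abbrev CK : Subgroup G := centralizer ({F.k} : Set G)

theorem k_ord : orderOf F.k = 3 := by
  haveI : Fact (Nat.Prime 3) := ⟨Nat.prime_three⟩
  refine orderOf_eq_prime F.k3 fun h => D.hQ.zne (F.k_fpf D.z F.outer.z_mem ?_)
  rw [h, one_mul, inv_one, mul_one]

theorem zpowers_sq {q : G} (hq : q ∈ zpowers F.k) (h : q * q = 1) : q = 1 := by
  refine orderOf_eq_one_iff.1 (Nat.eq_one_of_dvd_coprimes (a := 3) (b := 2) (by norm_num) ?_ ?_)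
  · rw [← F.k_ord]; exact orderOf_dvd_of_mem_zpowers hq
  · exact orderOf_dvd_of_pow_eq_one (by rw [sq, h])

theorem B_le_cent : F.B ≤ centralizer ({F.k} : Set G) := fun b hb =>
  mem_centralizer_singleton_iff.2 (F.B_comm b hb)

theorem k_mem_cent : F.k ∈ centralizer ({F.k} : Set G) := mem_centralizer_singleton_iff.2 rfl

/-- `B` is the alternating group of degree five. -/
theorem B_equiv : Nonempty (F.B ≃* A5) := by
  let f : F.B →* A5 := ((F.π.comp (Subgroup.inclusion F.B_le))).codRestrict _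
    fun b => Equiv.Perm.mem_alternatingGroup.2 (F.B_even _ b.2)
  have hf : Function.Injective f := by
    refine (injective_iff_map_eq_one _).2 fun b hb => ?_
    exact Subtype.ext (congrArg Subtype.val (F.B_faith (Subgroup.inclusion F.B_le b) b.2 (congrArg Subtype.val hb)) :)
  refine ⟨MulEquiv.ofBijective f ((Nat.bijective_iff_injective_and_card _).2 ⟨hf, ?_⟩)⟩
  rw [F.B_card, Nat.card_eq_fintype_card]
  decide +kernel

theorem exists_B_involution : ∃ w ∈ F.B, w * w = 1 ∧ w ≠ 1 := by
  obtain ⟨e⟩ := F.B_equiv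
  obtain ⟨σ, h2, h1⟩ := AltFive.exists_involution
  refine ⟨e.symm σ, (e.symm σ).2, ?_, fun h => h1 ?_⟩
  · rw [← Subgroup.coe_mul, ← map_mul, h2, map_one]; rfl
  · exact e.symm.injective ((Subtype.ext h : e.symm σ = 1).trans (map_one _).symm)

variable (hone : ∀ x y : G, orderOf x = 2 → orderOf y = 2 → IsConj x y)
include hone

/-- Elements of order three centralising an involution are conjugate to `k` or `k⁻¹`. -/
theorem three_conj {x v : G} (hx : orderOf x = 3) (hv : orderOf v = 2) (hxv : x * v = v * x) :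
    ∃ g : G, g * x * g⁻¹ = F.k ∨ g * x * g⁻¹ = F.k⁻¹ := by
  obtain ⟨w, hwB, hw2, hw1⟩ := F.exists_B_involution
  obtain ⟨h, hh⟩ := isConj_iff.1 (hone v w hv (orderOf_eq_prime (by rw [sq, hw2]) hw1))
  obtain ⟨D', hD'⟩ := D.exists_at hone (orderOf_eq_prime (by rw [sq, hw2]) hw1)
  have hx' : orderOf (h * x * h⁻¹) = 3 := (MulEquiv.orderOf_eq (MulAut.conj h) x).trans hx
  obtain ⟨g, -, hg⟩ := D'.conj_three hx' F.k_ord (by rw [hD', ← hh, conj_mul, conj_mul, hxv])
    (by rw [hD']; exact (F.B_comm w hwB).symm)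
  refine ⟨g * h, ?_⟩
  rwa [show g * h * x * (g * h)⁻¹ = g * (h * x * h⁻¹) * g⁻¹ by group]

/-- The centraliser of an involution in `C(k)`. -/
theorem cent_involution {v : G} (hv : orderOf v = 2) (hvk : v * F.k = F.k * v) :
    Nat.card (centralizer ({v} : Set G) ⊓ centralizer ({F.k} : Set G) : Subgroup G) = 24 ∧
      ∃ p c : G, p * v = v * p ∧ c * v = v * c ∧ p * F.k = F.k * p ∧ c * F.k = F.k * c ∧ p * p = 1 ∧
        c * c = v ∧ p * c * p = c⁻¹ := by
  obtain ⟨D', rfl⟩ := D.exists_at hone hv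
  exact D'.cent_three F.k_ord hvk.symm

/-- `C(k)` modulo `⟨k⟩` is `A₆`. -/
theorem exists_iso6 (N : Subgroup (F.CK)) [N.Normal]
    (hN : N = (zpowers F.k).subgroupOf (F.CK)) :
    Nonempty ((F.CK) ⧸ N ≃* alternatingGroup (Fin 6)) := by
  classical
  set mk := QuotientGroup.mk' N with hmk
  have hker : ∀ c : F.CK, mk c = 1 ↔ (c : G) ∈ zpowers F.k := fun c => by
    rw [hmk, QuotientGroup.mk'_apply, QuotientGroup.eq_one_iff, hN, mem_subgroupOf]
  have hN3 : Nat.card N = 3 := by
    rw [hN, Nat.card_congr (subgroupOfEquivOfLe (zpowers_le.2 F.k_mem_cent)).toEquiv, Nat.card_zpowers, F.k_ord]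
  set ι : F.B →* F.CK ⧸ N := mk.comp (Subgroup.inclusion F.B_le_cent) with hι
  have hιinj : Function.Injective ι := (injective_iff_map_eq_one _).2 fun b hb =>
    Subtype.ext (F.B_disj b b.2 ((hker _).1 hb))
  have hcomm : ∀ c : F.CK, Commute (c : G) F.k := fun c => mem_centralizer_singleton_iff.1 c.2
  -- involutions lift
  have hlift : ∀ u : F.CK ⧸ N, u * u = 1 → u ≠ 1 → ∃ v : F.CK, (v : G) * v = 1 ∧ (v : G) ≠ 1 ∧ mk v = u := by
    intro u hu hu1
    obtain ⟨c, rfl⟩ := QuotientGroup.mk'_surjective N u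
    have h2 : (c : G) * c ∈ zpowers F.k := (hker (c * c)).1 (by rw [map_mul]; exact hu)
    have h6 : ((c : G) * c) ^ 3 = 1 := by
      rw [← F.k_ord]
      exact orderOf_dvd_iff_pow_eq_one.1 (orderOf_dvd_of_mem_zpowers h2)
    refine ⟨c ^ 3, ?_, fun h => hu1 ?_, ?_⟩
    · rw [Subgroup.coe_pow, ← h6]
      simp only [pow_succ, pow_zero, one_mul, mul_assoc]
    · have e : mk c ^ 3 = 1 := by rw [← map_pow, show c ^ 3 = 1 from Subtype.ext h, map_one]
      change mk c * mk c = 1 at hu
      rwa [pow_succ, pow_two, hu, one_mul] at e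
    · rw [map_pow, pow_succ, pow_two, show mk c * mk c = 1 from hu, one_mul]
  -- their centralisers
  have hcent : ∀ v : F.CK, (v : G) * v = 1 → (v : G) ≠ 1 →
      Nat.card (centralizer ({mk v} : Set (F.CK ⧸ N))) = 8 ∧
        Nonempty (centralizer ({mk v} : Set (F.CK ⧸ N)) ≃* DihedralGroup 4) := by
    intro v hv hv1
    have hv2 : orderOf (v : G) = 2 := orderOf_eq_prime (by rw [sq, hv]) hv1
    obtain ⟨h24, p, c, hpv, hcv, hpk, hck, hp2, hcc, hpc⟩ := F.cent_involution hone hv2 (hcomm v).eq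
    set K : Subgroup F.CK := (centralizer ({(v : G)} : Set G)).subgroupOf F.CK with hK
    have hK24 : Nat.card K = 24 := by
      rw [← h24]
      exact Nat.card_congr
        { toFun := fun g => ⟨g.1.1, g.2, g.1.2⟩
          invFun := fun g => ⟨⟨g.1, g.2.2⟩, g.2.1⟩
          left_inv := fun g => rfl
          right_inv := fun g => rfl }
    set f : K →* F.CK ⧸ N := mk.comp K.subtype with hf
    have hrange : f.range = centralizer ({mk v} : Set (F.CK ⧸ N)) := by
      refine le_antisymm ?_ fun u hu => ?_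
      · rintro _ ⟨g, rfl⟩
        refine mem_centralizer_singleton_iff.2 ?_
        show mk (g : F.CK) * mk v = mk v * mk (g : F.CK)
        rw [← map_mul, ← map_mul]
        exact congrArg mk (Subtype.ext (mem_centralizer_singleton_iff.1 g.2))
      · obtain ⟨g, rfl⟩ := QuotientGroup.mk'_surjective N u
        set q := (g : G) * v * (g : G)⁻¹ * (v : G)⁻¹ with hq
        have hu' : mk g * mk v = mk v * mk g := mem_centralizer_singleton_iff.1 hu
        have hqk : q ∈ zpowers F.k := (hker (g * v * g⁻¹ * v⁻¹)).1 (by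
          rw [map_mul, map_mul, map_mul, map_inv, map_inv, hu', mul_inv_cancel_right, mul_inv_cancel])
        have hqv : Commute q (v : G) := by
          obtain ⟨n, hn⟩ := mem_zpowers_iff.1 hqk
          rw [← hn]; exact (hcomm v).symm.zpow_left n
        have h2 : q * q = 1 := by
          have e : q * v * (q * v) = 1 := by
            rw [hq, inv_mul_cancel_right, conj_mul, hv, mul_one, mul_inv_cancel]
          rw [hqv.symm.mul_mul_mul_comm, hv, mul_one] at e
          exact e
        refine ⟨⟨g, mem_centralizer_singleton_iff.2 ?_⟩, rfl⟩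
        have h := F.zpowers_sq hqk h2
        rw [hq, mul_inv_eq_one, mul_inv_eq_iff_eq_mul] at h
        exact h
    have hkerf : Nat.card f.ker = 3 := by
      rw [← hN3]
      refine Nat.card_congr
        { toFun := fun g => ⟨g.1.1, (QuotientGroup.eq_one_iff _).1 g.2⟩
          invFun := fun g => ⟨⟨g.1, ?_⟩, (QuotientGroup.eq_one_iff _).2 g.2⟩
          left_inv := fun g => rfl
          right_inv := fun g => rfl }
      have hg : ((g.1 : F.CK) : G) ∈ zpowers F.k := by
        have := g.2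
        simp only [hN, mem_subgroupOf] at this
        exact this
      obtain ⟨n, hn⟩ := mem_zpowers_iff.1 hg
      refine mem_subgroupOf.2 (mem_centralizer_singleton_iff.2 ?_)
      rw [← hn]; exact ((hcomm v).symm.zpow_left n).eq
    have h8 : Nat.card (centralizer ({mk v} : Set (F.CK ⧸ N))) = 8 := by
      have h := f.ker.card_mul_index
      rw [index_ker, hrange, hkerf, hK24] at h
      omega
    refine ⟨h8, ?_⟩
    set p' : F.CK := ⟨p, mem_centralizer_singleton_iff.2 hpk⟩
    set c' : F.CK := ⟨c, mem_centralizer_singleton_iff.2 hck⟩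
    have hcc' : mk c' * mk c' = mk v := by
      rw [← map_mul]; exact congrArg mk (Subtype.ext hcc)
    have hv1' : mk v ≠ 1 := fun h => hv1 (F.zpowers_sq ((hker v).1 h) hv)
    have hvv : mk v * mk v = 1 := by rw [← map_mul, ← map_one mk]; exact congrArg mk (Subtype.ext hv)
    have hp' : mk p' * mk p' = 1 := by rw [← map_mul, ← map_one mk]; exact congrArg mk (Subtype.ext hp2)
    have hpc' : mk p' * mk c' * mk p' = (mk c')⁻¹ := by
      rw [← map_mul, ← map_mul, ← map_inv]; exact congrArg mk (Subtype.ext hpc)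
    have hc4 : orderOf (mk c') = 4 := by
      refine orderOf_eq_prime_pow (p := 2) (n := 1) ?_ ?_
      · rw [pow_one, pow_two, hcc']; exact hv1'
      · rw [show 2 ^ (1 + 1) = 2 + 2 from rfl, pow_add, pow_two, hcc', hvv]
    have hnot : mk p' ∉ zpowers (mk c') := by
      intro h
      obtain ⟨n, hn⟩ := mem_zpowers_iff.1 h
      have hc : Commute (mk p') (mk c') := hn ▸ (Commute.refl (mk c')).zpow_left n
      apply hv1'
      rw [hc.eq, mul_assoc, hp', mul_one] at hpc'
      rw [← hcc']
      exact mul_eq_one_iff_eq_inv.2 hpc'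
    have hp1 : mk p' ≠ 1 := fun h => hnot (h ▸ one_mem _)
    set H := centralizer ({mk v} : Set (F.CK ⧸ N))
    have hpH : mk p' ∈ H := hrange ▸ ⟨⟨p', mem_centralizer_singleton_iff.2 hpv⟩, rfl⟩
    have hcH : mk c' ∈ H := hrange ▸ ⟨⟨c', mem_centralizer_singleton_iff.2 hcv⟩, rfl⟩
    refine PSL2.mulEquiv_dihedral (G := H) (n := 4) h8 (by norm_num) ⟨mk c', hcH⟩ ⟨mk p', hpH⟩
      (by rw [Subgroup.orderOf_mk, hc4]) (by rw [Subgroup.orderOf_mk]; exact orderOf_eq_prime (by rw [sq, hp']) hp1)
      (Subtype.ext hpc') fun h => hnot ?_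
    obtain ⟨n, hn⟩ := mem_zpowers_iff.1 h
    exact ⟨n, congrArg Subtype.val hn⟩
  -- the distinguished involution
  obtain ⟨eB⟩ := F.B_equiv
  obtain ⟨σ, hσ2, hσ1⟩ := AltFive.exists_involution
  obtain ⟨g, hgc, hgne⟩ := AltFive.klein σ hσ2 hσ1
  set φ : A5 →* F.CK ⧸ N := ι.comp eB.symm.toMonoidHom with hφ
  have hφinj : Function.Injective φ := hιinj.comp eB.symm.injective
  set z0 := φ σ with hz0
  have hz02 : z0 * z0 = 1 := by rw [hz0, ← map_mul, hσ2, map_one]
  have hz01 : z0 ≠ 1 := fun h => hσ1 (hφinj (h.trans (map_one φ).symm))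
  have hiso : ¬ IsIsolatedInvolution z0 := by
    intro h
    refine hgne (hφinj ?_)
    rw [map_mul, map_mul, map_inv]
    refine h.2 (φ g) ?_
    show z0 * (φ g * z0 * (φ g)⁻¹) = φ g * z0 * (φ g)⁻¹ * z0
    simp only [hz0, ← map_inv, ← map_mul]
    rw [hgc]
  obtain ⟨v, hv, hv1, hvz⟩ := hlift z0 hz02 hz01
  obtain ⟨e⟩ := (hcent v hv hv1).2
  rw [hvz] at e
  have hord : orderOf z0 = 2 := orderOf_eq_prime (by rw [sq, hz02]) hz01
  have h60 : 60 ∣ Nat.card (F.CK ⧸ N) := by
    have := card_dvd_of_injective φ hφinj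
    rwa [show Nat.card A5 = 60 by rw [Nat.card_eq_fintype_card]; decide +kernel] at this
  by_cases hidx : ∀ H : Subgroup (F.CK ⧸ N), H.index ≠ 2
  · rcases DihedralEight.simple_case hord e hidx with h3 | h6
    · exfalso
      obtain ⟨e3⟩ := h3
      rw [Nat.card_congr e3.toEquiv, Cfsg.Agent.GLOrder.card_SL, Nat.card_zmod] at h60
      revert h60; decide
    · exact h6
  · exfalso
    push Not at hidx
    obtain ⟨H, hH⟩ := hidx
    rcases DihedralEight.index_two_case hord e hiso hH with h4 | h5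
    · obtain ⟨e4⟩ := h4
      rw [Nat.card_congr e4.toEquiv, Nat.card_perm, Nat.card_fin] at h60
      revert h60; decide
    · obtain ⟨e5⟩ := h5
      have hs2 : e5.symm (Equiv.swap 0 1) * e5.symm (Equiv.swap 0 1) = 1 := by
        rw [← map_mul, Equiv.swap_mul_self, map_one]
      have hs1 : e5.symm (Equiv.swap 0 1) ≠ 1 := fun h => by
        have := e5.symm.injective (h.trans (map_one _).symm)
        revert this; decide
      obtain ⟨u, hu, hu1, hue⟩ := hlift _ hs2 hs1
      have h8 := (hcent u hu hu1).1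
      rw [hue] at h8
      have h12 : Nat.card (centralizer ({e5.symm (Equiv.swap 0 1)} : Set (F.CK ⧸ N))) = 12 := by
        refine Eq.trans (Nat.card_congr (Equiv.subtypeEquiv e5.toEquiv fun x => ?_))
          (Nat.card_eq_fintype_card.trans AltFive.swap_cent)
        show x ∈ centralizer ({e5.symm (Equiv.swap 0 1)} : Set (F.CK ⧸ N)) ↔
          e5 x * Equiv.swap 0 1 = Equiv.swap 0 1 * e5 x
        rw [mem_centralizer_singleton_iff]
        constructor
        · intro h; simpa using congrArg e5 h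
        · intro h; exact e5.injective (by simpa using h)
      rw [h12] at h8
      norm_num at h8

/-- The action on the six cosets. -/
theorem exists_psi : Nat.card (F.CK) = 1080 ∧
    ∃ ψ : F.CK →* Equiv.Perm (Fin 6),
      (∀ c, ψ c = 1 ↔ (c : G) ∈ zpowers F.k) ∧ ψ.range = alternatingGroup (Fin 6) ∧
        ∀ σ ∈ alternatingGroup (Fin 6), σ 5 = 5 → ∃ c : F.CK, (c : G) ∈ F.B ∧ ψ c = σ := by
  classical
  set N := (zpowers F.k).subgroupOf F.CK with hNdef
  haveI hNn : N.Normal := ⟨fun n hn g => by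
    rw [hNdef, mem_subgroupOf] at hn ⊢
    obtain ⟨m, hm⟩ := mem_zpowers_iff.1 hn
    rw [Subgroup.coe_mul, Subgroup.coe_mul, Subgroup.coe_inv, ← hm,
      ((show Commute (g : G) F.k from mem_centralizer_singleton_iff.1 g.2).zpow_right m).eq, mul_inv_cancel_right]
    exact zpow_mem (mem_zpowers _) m⟩
  obtain ⟨e6⟩ := F.exists_iso6 hone N hNdef
  set mk := QuotientGroup.mk' N
  have hker : ∀ c : F.CK, mk c = 1 ↔ (c : G) ∈ zpowers F.k := fun c => by
    rw [QuotientGroup.mk'_apply, QuotientGroup.eq_one_iff, hNdef, mem_subgroupOf]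
  have h360 : Nat.card (F.CK ⧸ N) = 360 := by
    rw [Nat.card_congr e6.toEquiv, nat_card_alternatingGroup, Nat.card_fin]; decide
  have hN3 : Nat.card N = 3 := by
    rw [hNdef, Nat.card_congr (subgroupOfEquivOfLe (zpowers_le.2 F.k_mem_cent)).toEquiv, Nat.card_zpowers, F.k_ord]
  have hcard : Nat.card F.CK = 1080 := by
    rw [← N.card_mul_index, hN3, index_eq_card, h360]
  haveI : IsSimpleGroup (alternatingGroup (Fin 6)) := alternatingGroup.isSimpleGroup (by simp)
  haveI : Nontrivial (F.CK ⧸ N) := e6.toEquiv.nontrivial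
  haveI : IsSimpleGroup (F.CK ⧸ N) := IsSimpleGroup.isSimpleGroup_of_surjective e6.symm.toMonoidHom e6.symm.surjective
  set ι : F.B →* F.CK ⧸ N := mk.comp (Subgroup.inclusion F.B_le_cent) with hι
  have hιinj : Function.Injective ι := (injective_iff_map_eq_one _).2 fun b hb =>
    Subtype.ext (F.B_disj b b.2 ((hker _).1 hb))
  set K := ι.range.comap mk with hK
  have hKidx : K.index = 6 := by
    rw [hK, index_comap_of_surjective _ (QuotientGroup.mk'_surjective N)]
    have h := ι.range.card_mul_index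
    rw [h360, Nat.card_congr (MonoidHom.ofInjective hιinj).toEquiv.symm, F.B_card] at h
    omega
  let e0 : (F.CK ⧸ K) ≃ Fin 6 := (Finite.equivFin _).trans (finCongr (by rw [← Subgroup.index_eq_card, hKidx]))
  let e : (F.CK ⧸ K) ≃ Fin 6 := e0.trans (Equiv.swap (e0 ↑(1 : F.CK)) 5)
  have he : e ↑(1 : F.CK) = 5 := Equiv.swap_apply_left _ _
  let ψ : F.CK →* Equiv.Perm (Fin 6) := e.permCongrHom.toMonoidHom.comp (MulAction.toPermHom F.CK (F.CK ⧸ K))
  have hψ5 : ∀ c : F.CK, ψ c 5 = 5 ↔ c ∈ K := by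
    intro c
    show e (c • e.symm 5) = 5 ↔ _
    rw [← he, e.symm_apply_apply, e.apply_eq_iff_eq]
    show (↑(c * 1) : F.CK ⧸ K) = ↑(1 : F.CK) ↔ _
    rw [mul_one, QuotientGroup.eq, mul_one, inv_mem_iff]
  have hcoreker : ∀ c, ψ c = 1 ↔ c ∈ K.normalCore := by
    intro c
    rw [Subgroup.normalCore_eq_ker, MonoidHom.mem_ker]
    exact ⟨fun h => e.permCongrHom.injective (h.trans (map_one _).symm), fun h => by
      show e.permCongrHom (MulAction.toPermHom F.CK (F.CK ⧸ K) c) = 1
      rw [h, map_one]⟩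
  have hNK : N ≤ K.normalCore := Subgroup.normal_le_normalCore.2 fun c hc => by
    show mk c ∈ ι.range
    rw [(hker c).2 (mem_subgroupOf.1 hc)]
    exact one_mem _
  have hcore : K.normalCore = N := by
    refine le_antisymm ?_ hNK
    haveI : (K.normalCore.map mk).Normal := (normalCore_normal K).map mk (QuotientGroup.mk'_surjective N)
    rcases (inferInstance : (K.normalCore.map mk).Normal).eq_bot_or_eq_top with h | h
    · intro c hc
      have := mem_map_of_mem mk hc
      rw [h, mem_bot, QuotientGroup.mk'_apply, QuotientGroup.eq_one_iff] at this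
      exact this
    · exfalso
      have h2 := congrArg (fun S => S.comap mk) h
      simp only [comap_map_eq, comap_top] at h2
      rw [QuotientGroup.ker_mk', sup_of_le_left hNK] at h2
      have h3 : K = ⊤ := top_le_iff.1 (h2 ▸ normalCore_le K)
      rw [h3, index_top] at hKidx
      norm_num at hKidx
  have hψker : ∀ c, ψ c = 1 ↔ (c : G) ∈ zpowers F.k := fun c => by
    rw [hcoreker, hcore, hNdef, mem_subgroupOf]
  have hrange : ψ.range = alternatingGroup (Fin 6) := by
    refine Equiv.Perm.eq_alternatingGroup_of_index_eq_two ?_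
    have h1 := ψ.ker.card_mul_index
    rw [index_ker, hcard, show ψ.ker = N from Subgroup.ext fun c => by
      rw [MonoidHom.mem_ker, hψker, hNdef, mem_subgroupOf], hN3] at h1
    have h2 := ψ.range.card_mul_index
    rw [Nat.card_perm, Nat.card_fin, show Nat.factorial 6 = 720 from rfl] at h2
    have h3 : Nat.card ψ.range = 360 := by omega
    rw [h3] at h2
    omega
  refine ⟨hcard, ψ, hψker, hrange, fun σ hσ h5 => ?_⟩
  obtain ⟨c, rfl⟩ := hrange.ge hσ
  obtain ⟨b, hb⟩ := (hψ5 c).1 h5
  refine ⟨Subgroup.inclusion F.B_le_cent b, b.2, ?_⟩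
  have h : mk (c⁻¹ * Subgroup.inclusion F.B_le_cent b) = 1 := by
    rw [map_mul, map_inv, ← hb]
    exact inv_mul_cancel _
  have h2 := (hψker _).2 ((hker _).1 h)
  rw [map_mul, map_inv, inv_mul_eq_one] at h2
  exact h2.symm

end Frame16

end Cfsg.Agent.JThreeType
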