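import Cfsg.Agent.Lib.JThreeType.Conj
import Cfsg.Agent.Lib.JThreeType.OuterExists
import Cfsg.Agent.Lib.JTwoType.ThreeK

/-!
# Groups of type `J₃`: elements of order three in the centraliser of `z`

* `Data.cent_three`: `C(z) ∩ C(k)` is the product of `⟨k⟩` and a dihedral group of order eight
* `Data.conj_three`: elements of order three of `C(z)` generate conjugate subgroups
* `Data.exists_inverter`: an involution inverting `k`
* `Data.inverter_moves`: an element inverting `k` centralises no further involution of `C(k)`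
* `Data.no_root`: `z` is not the square of an element inverting `k`
-/

set_option autoImplicit false
set_option linter.unusedSectionVars false
set_option linter.style.haveILetI false

namespace Cfsg.Agent.JThreeType

open Cfsg Subgroup OrderJTwo

namespace AltFive

theorem inverter_spec : ∀ σ : A5, σ ^ 3 = 1 → σ ≠ 1 → ∀ τ : A5, τ * σ * τ⁻¹ = σ⁻¹ →
    ∀ l, σ.1 l = l → τ.1 l ≠ l := by decide +kernel

theorem inverted_pair : ∀ σ : A5, σ ^ 3 = 1 → σ ≠ 1 →
    ∃ τ₁ τ₂ : A5, τ₁ * τ₁ = 1 ∧ τ₁ ≠ 1 ∧ τ₂ * τ₂ = 1 ∧ τ₂ ≠ 1 ∧ τ₁ * τ₂ = σ := by decide +kernel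

theorem involution_lift : ∀ τ τ' : A5, τ * τ = 1 → τ ≠ 1 → τ' * τ' = 1 → τ' ≠ 1 →
    ∃ g : A5, g * τ * g⁻¹ = τ' := by decide +kernel

end AltFive

variable {G : Type*} [Group G] [Finite G]

namespace Data

variable (D : Data G) {k : G}

theorem sigma_spec (hk : orderOf k = 3) (hkz : k * D.z = D.z * k) :
    D.psi ⟨k, D.mem_C.2 hkz⟩ ^ 3 = 1 ∧ D.psi ⟨k, D.mem_C.2 hkz⟩ ≠ 1 := by
  refine ⟨?_, fun h => ?_⟩
  · rw [← map_pow, ← map_one D.psi]
    exact congrArg D.psi (Subtype.ext (show k ^ 3 = 1 from hk ▸ pow_orderOf_eq_one k))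
  · have h32 : orderOf k ∣ 32 := D.hQ.card ▸ Subgroup.orderOf_dvd_natCard _ ((D.psi_ker _).1 h)
    rw [hk] at h32
    norm_num at h32

/-- An element of `C(z)` commuting with `k` has image a power of the image of `k`. -/
theorem image_cases (hk : orderOf k = 3) (hkz : k * D.z = D.z * k) {g : G} (hgz : g * D.z = D.z * g)
    (hgk : g * k = k * g) : ∃ i : Fin 3, D.psi ⟨g, D.mem_C.2 hgz⟩ = D.psi ⟨k, D.mem_C.2 hkz⟩ ^ (i : ℕ) := by
  obtain ⟨h3, h1⟩ := D.sigma_spec hk hkz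
  have h := JTwoType.Alt5.cent_three_list _ h3 h1 (D.psi ⟨g, D.mem_C.2 hgz⟩) (by
    rw [← map_mul, ← map_mul]
    exact congrArg D.psi (Subtype.ext hgk))
  simp only [List.mem_cons, List.not_mem_nil, or_false] at h
  rcases h with h | h | h
  exacts [⟨0, h.trans (pow_zero _).symm⟩, ⟨1, h.trans (pow_one _).symm⟩, ⟨2, h⟩]

/-- An involution of `C(z)` commuting with `k` lies in `Q`. -/
theorem involution_mem_Q (hk : orderOf k = 3) (hkz : k * D.z = D.z * k) {v : G} (hv : v * v = 1)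
    (hvz : v * D.z = D.z * v) (hvk : v * k = k * v) : v ∈ D.Q := by
  obtain ⟨h3, h1⟩ := D.sigma_spec hk hkz
  obtain ⟨i, hi⟩ := D.image_cases hk hkz hvz hvk
  refine (D.psi_ker ⟨v, D.mem_C.2 hvz⟩).1 ?_
  have hsq : D.psi ⟨v, D.mem_C.2 hvz⟩ * D.psi ⟨v, D.mem_C.2 hvz⟩ = 1 := by
    rw [← map_mul, ← map_one D.psi]
    exact congrArg D.psi (Subtype.ext hv)
  rw [hi, ← pow_add] at hsq
  rw [hi]
  fin_cases i
  · exact pow_zero _
  · exact absurd (by
      calc D.psi ⟨k, D.mem_C.2 hkz⟩ = D.psi ⟨k, D.mem_C.2 hkz⟩ ^ 3 * (D.psi ⟨k, D.mem_C.2 hkz⟩ ^ (1 + 1))⁻¹ := by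
            group
        _ = 1 := by
            simp only at hsq
            rw [hsq, h3, inv_one, mul_one]) h1
  · exact absurd (by
      calc D.psi ⟨k, D.mem_C.2 hkz⟩ = D.psi ⟨k, D.mem_C.2 hkz⟩ ^ (2 + 2) * (D.psi ⟨k, D.mem_C.2 hkz⟩ ^ 3)⁻¹ := by
            group
        _ = 1 := by
            simp only at hsq
            rw [hsq, h3, inv_one, mul_one]) h1

/-- A fixed point of the image gives two fixed involutions. -/
theorem fixed_u (hk : orderOf k = 3) (hkz : k * D.z = D.z * k) {i : Fin 5}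
    (hi : (D.psi ⟨k, D.mem_C.2 hkz⟩).1 i = i) : D.u i * k = k * D.u i := by
  have h := D.act ⟨k, D.mem_C.2 hkz⟩ i
  rw [show D.φ ⟨k, D.mem_C.2 hkz⟩ i = i from hi] at h
  rcases h with h | h
  · exact (mul_inv_eq_iff_eq_mul.1 h).symm
  · exfalso
    change k * D.u i * k⁻¹ = D.u i * D.z at h
    have h2 : k * (k * D.u i * k⁻¹) * k⁻¹ = D.u i := by
      rw [h, D.conj_mul_z hkz, h, mul_assoc, D.z2, mul_one]
    have h3 : k * (k * (k * D.u i * k⁻¹) * k⁻¹) * k⁻¹ = D.u i * D.z := by rw [h2, h]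
    refine D.hQ.zne (mul_left_cancel (a := D.u i) (?_ : D.u i * D.z = D.u i * 1))
    rw [mul_one, ← h3, show k * (k * (k * D.u i * k⁻¹) * k⁻¹) * k⁻¹ = k ^ 3 * D.u i * (k ^ 3)⁻¹ by
        simp only [pow_succ, pow_zero, one_mul]; group,
      show k ^ 3 = 1 from hk ▸ pow_orderOf_eq_one k, one_mul, inv_one, mul_one]

/-- `C(z) ∩ C(k)` is the product of `⟨k⟩` and a dihedral group of order eight. -/
theorem cent_three (hk : orderOf k = 3) (hkz : k * D.z = D.z * k) :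
    Nat.card (centralizer ({D.z} : Set G) ⊓ centralizer ({k} : Set G) : Subgroup G) = 24 ∧
      ∃ p c : G, p * D.z = D.z * p ∧ c * D.z = D.z * c ∧ p * k = k * p ∧ c * k = k * c ∧ p * p = 1 ∧
        c * c = D.z ∧ p * c * p = c⁻¹ := by
  classical
  obtain ⟨h3, h1⟩ := D.sigma_spec hk hkz
  obtain ⟨i, j, hij, hi, hj⟩ := JTwoType.Alt5.two_fixed _ h3 h1
  have huk := D.fixed_u hk hkz hi
  have hvk := D.fixed_u hk hkz hj
  have hk3 : k ^ 3 = 1 := hk ▸ pow_orderOf_eq_one k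
  set S := D.Q ⊓ centralizer ({k} : Set G) with hS
  have hS8 : Nat.card S = 8 := by
    have hdvd : Nat.card S ∣ 32 := D.hQ.card ▸ card_dvd_of_le inf_le_left
    have hmod : 32 ≡ Nat.card S [MOD 3] := D.hQ.card ▸ JTwoType.fix_modEq_three k hk3 D.Q (D.norm k hkz)
    have h32 : Nat.card S ≠ 32 := fun h => by
      have e : S = D.Q := Subgroup.eq_of_le_of_card_ge inf_le_left (by rw [h, D.hQ.card])
      exact h1 ((D.psi_ker ⟨k, D.mem_C.2 hkz⟩).2 (D.self k fun x hx =>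
        (mem_centralizer_singleton_iff.1 (e.ge hx).2).symm))
    have h3' : 3 ≤ Nat.card S := by
      have hsub : ({1, D.z, D.u i} : Set G) ⊆ S := by
        rintro x (rfl | rfl | rfl)
        exacts [one_mem _, ⟨D.hQ.zmem, mem_centralizer_singleton_iff.2 hkz.symm⟩,
          ⟨(D.u_mem i).1, mem_centralizer_singleton_iff.2 huk⟩]
      have := Set.ncard_le_ncard hsub (Set.toFinite _)
      rw [Set.ncard_insert_of_notMem (by simp [D.hQ.zne.symm, (D.u_mem i).2.2.1.symm]),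
        Set.ncard_pair (D.u_mem i).2.2.2.symm, ← Nat.card_coe_set_eq, SetLike.coe_sort_coe] at this
      exact this
    have hle := Nat.le_of_dvd (by norm_num) hdvd
    unfold Nat.ModEq at hmod
    interval_cases hc : Nat.card S <;> omega
  have hanti := D.u_anti hij
  refine ⟨?_, D.u i, D.u i * D.u j, D.u_comm, D.hQ.zcomm _ (mul_mem (D.u_mem i).1 (D.u_mem j).1), huk, ?_,
    D.u_sq i, ?_, ?_⟩
  · set K := centralizer ({D.z} : Set G) ⊓ centralizer ({k} : Set G) with hK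
    set f : K →* A5 := D.psi.comp (Subgroup.inclusion inf_le_left) with hf
    have hr : f.range = zpowers (D.psi ⟨k, D.mem_C.2 hkz⟩) := by
      refine le_antisymm ?_ (zpowers_le.2 ⟨⟨k, D.mem_C.2 hkz, mem_centralizer_singleton_iff.2 rfl⟩, rfl⟩)
      rintro _ ⟨g, rfl⟩
      obtain ⟨m, hm⟩ := D.image_cases hk hkz (D.mem_C.1 g.2.1) (mem_centralizer_singleton_iff.1 g.2.2)
      rw [show f g = _ from hm]
      exact pow_mem (mem_zpowers _) _
    have hker : Nat.card f.ker = 8 := by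
      rw [← hS8]
      refine Nat.card_congr
        { toFun := fun g => ⟨g.1.1, (D.psi_ker _).1 g.2, g.1.2.2⟩
          invFun := fun g => ⟨⟨g.1, D.le g.2.1, g.2.2⟩, (D.psi_ker _).2 g.2.1⟩
          left_inv := fun g => rfl
          right_inv := fun g => rfl }
    have h := f.ker.card_mul_index
    rw [index_ker, hr, hker, Nat.card_zpowers,
      show orderOf (D.psi ⟨k, D.mem_C.2 hkz⟩) = 3 from
        haveI : Fact (Nat.Prime 3) := ⟨Nat.prime_three⟩
        orderOf_eq_prime h3 h1] at h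
    omega
  · exact ((show Commute (D.u i) k from huk).mul_left (show Commute (D.u j) k from hvk)).eq
  · calc D.u i * D.u j * (D.u i * D.u j) = D.u i * (D.u j * D.u i) * D.u j := by group
      _ = D.u i * (D.u i * D.u j * D.z) * D.u j := by rw [← D.u_anti hij.symm]
      _ = (D.u i * D.u i) * D.u j * (D.z * D.u j) := by group
      _ = D.z := by rw [← D.u_comm, D.u_sq, one_mul, ← mul_assoc, D.u_sq, one_mul]
  · calc D.u i * (D.u i * D.u j) * D.u i = (D.u i * D.u i) * D.u j * D.u i := by group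
      _ = (D.u i * D.u j)⁻¹ := by rw [D.u_sq, one_mul, mul_inv_rev, D.u_inv, D.u_inv]

/-- Elements of order three of `C(z)` are conjugate up to inversion. -/
theorem conj_three {x y : G} (hx : orderOf x = 3) (hy : orderOf y = 3) (hxz : x * D.z = D.z * x)
    (hyz : y * D.z = D.z * y) : ∃ h : G, h * D.z = D.z * h ∧ (h * x * h⁻¹ = y ∨ h * x * h⁻¹ = y⁻¹) := by
  classical
  haveI : Fact (Nat.Prime 3) := ⟨Nat.prime_three⟩
  set C := centralizer ({D.z} : Set G)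
  set x' : C := ⟨x, D.mem_C.2 hxz⟩
  set y' : C := ⟨y, D.mem_C.2 hyz⟩
  obtain ⟨R, hR⟩ := (IsPGroup.of_card (p := 3) (n := 1) (G := zpowers y') (by
    rw [Nat.card_zpowers, Subgroup.orderOf_mk, hy, pow_one])).exists_le_sylow
  have hRy : (R : Subgroup C) = zpowers y' := by
    refine (Subgroup.eq_of_le_of_card_ge hR ?_).symm
    rw [Nat.card_zpowers, Subgroup.orderOf_mk, hy]
    obtain ⟨n, hn⟩ := IsPGroup.iff_card.1 R.isPGroup'
    have hd := card_subgroup_dvd_card (R : Subgroup C)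
    rw [hn, D.card_C] at hd
    rw [hn]
    rcases Nat.lt_or_ge n 2 with h | h
    · exact (Nat.pow_le_pow_right (by norm_num) (show n ≤ 1 by omega)).trans (by norm_num)
    · exact absurd ((Nat.pow_dvd_pow 3 h).trans hd) (by norm_num)
  obtain ⟨h, hh⟩ := JTwoType.conj_into_sylow R x' ⟨1, by rw [Subgroup.orderOf_mk, hx, pow_one]⟩
  rw [hRy] at hh
  refine ⟨h, D.mem_C.1 h.2, ?_⟩
  obtain ⟨m, hm⟩ := mem_zpowers_iff.1 hh
  have he : y ^ m = (h : G) * x * (h : G)⁻¹ := congrArg Subtype.val hm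
  have hmem : (h : G) * x * (h : G)⁻¹ ∈ zpowers y := ⟨m, he⟩
  rcases JTwoType.mem_zpowers_three (hy ▸ pow_orderOf_eq_one y) hmem with r | r | r
  · exfalso
    rw [conj_eq_one_iff.1 r, orderOf_one] at hx
    norm_num at hx
  · exact Or.inl r
  · refine Or.inr (r.trans ?_)
    exact (inv_eq_of_mul_eq_one_right (by
      rw [← pow_succ', show 2 + 1 = orderOf y by rw [hy], pow_orderOf_eq_one])).symm

/-- An element inverting `k` centralises no further involution of `C(z) ∩ C(k)`. -/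
theorem inverter_moves (hk : orderOf k = 3) (hkz : k * D.z = D.z * k) {g : G} (hgz : g * D.z = D.z * g)
    (hgk : g * k * g⁻¹ = k⁻¹) {v : G} (hv : v * v = 1) (hv1 : v ≠ 1) (hvne : v ≠ D.z)
    (hvz : v * D.z = D.z * v) (hvk : v * k = k * v) : g * v * g⁻¹ ≠ v ∧ g * v * g⁻¹ ≠ v * D.z := by
  obtain ⟨h3, h1⟩ := D.sigma_spec hk hkz
  have hvQ := D.involution_mem_Q hk hkz hv hvz hvk
  obtain ⟨l, hl⟩ := D.u_cover v ⟨hvQ, hv, hv1, hvne⟩
  have hfix : ∀ (x : G) (hx : x * D.z = D.z * x), (x * v * x⁻¹ = v ∨ x * v * x⁻¹ = v * D.z) →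
      (D.psi ⟨x, D.mem_C.2 hx⟩).1 l = l := by
    intro x hx h
    refine D.phi_of_pair _ ?_
    show x * D.u l * x⁻¹ = D.u l ∨ x * D.u l * x⁻¹ = D.u l * D.z
    rcases hl with e | e <;> rw [e] at h
    · exact h
    · rw [D.conj_mul_z hx] at h
      rcases h with h | h
      · exact Or.inl (mul_right_cancel h)
      · exact Or.inr (mul_right_cancel h)
  have hσl := hfix k hkz (Or.inl (by rw [← hvk, mul_inv_cancel_right]))
  have hτ : D.psi ⟨g, D.mem_C.2 hgz⟩ * D.psi ⟨k, D.mem_C.2 hkz⟩ * (D.psi ⟨g, D.mem_C.2 hgz⟩)⁻¹ =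
      (D.psi ⟨k, D.mem_C.2 hkz⟩)⁻¹ := by
    rw [← map_inv, ← map_inv, ← map_mul, ← map_mul]
    exact congrArg D.psi (Subtype.ext hgk)
  have hne := AltFive.inverter_spec _ h3 h1 _ hτ l hσl
  exact ⟨fun h => hne (hfix g hgz (Or.inl h)), fun h => hne (hfix g hgz (Or.inr h))⟩

variable (hone : ∀ x y : G, orderOf x = 2 → orderOf y = 2 → IsConj x y)
include hone

/-- An involution inverting `k`. -/
theorem exists_inverter (hk : orderOf k = 3) (hkz : k * D.z = D.z * k) :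
    ∃ v, D.Outer v ∧ v * k * v⁻¹ = k⁻¹ := by
  classical
  obtain ⟨h3, h1⟩ := D.sigma_spec hk hkz
  obtain ⟨τ₁, τ₂, a2, a1, b2, b1, hprod⟩ := AltFive.inverted_pair _ h3 h1
  obtain ⟨t, ht⟩ := D.exists_outer hone
  have hlift : ∀ τ : A5, τ * τ = 1 → τ ≠ 1 → ∃ v, ∃ hv : D.Outer v, D.psi ⟨v, D.mem_C.2 hv.comm⟩ = τ := by
    intro τ hτ hτ1
    obtain ⟨g, hg⟩ := AltFive.involution_lift _ τ ht.psi_sq.1 ht.psi_sq.2 hτ hτ1
    obtain ⟨g', rfl⟩ := D.psi_surj g
    refine ⟨_, ht.conj (D.mem_C.1 g'.2), ?_⟩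
    rw [← hg, ← map_inv, ← map_mul, ← map_mul]
    rfl
  obtain ⟨v₁, hv₁, e₁⟩ := hlift τ₁ a2 a1
  obtain ⟨v₂, hv₂, e₂⟩ := hlift τ₂ b2 b1
  set y := v₁ * v₂ with hy
  have hyz : y * D.z = D.z * y := ((show Commute v₁ D.z from hv₁.comm).mul_left hv₂.comm).eq
  set y' : centralizer ({D.z} : Set G) := ⟨y, D.mem_C.2 hyz⟩
  have hψy : D.psi y' = D.psi ⟨k, D.mem_C.2 hkz⟩ := by rw [← hprod, ← e₁, ← e₂, ← map_mul]; rfl
  have hy12 : y ^ 12 = 1 := by
    have hq : y ^ 3 ∈ D.Q := (D.psi_ker (y' ^ 3)).1 (by rw [map_pow, hψy, h3])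
    rw [show 12 = 3 * 4 from rfl, pow_mul]
    rcases D.hQ.sq _ hq with e | e
    · rw [show 4 = 2 * 2 from rfl, pow_mul, _root_.sq (y ^ 3), e, one_pow]
    · rw [show 4 = 2 * 2 from rfl, pow_mul, _root_.sq (y ^ 3), e, _root_.sq, D.z2]
  have hk' : orderOf (y ^ 4) = 3 := by
    haveI : Fact (Nat.Prime 3) := ⟨Nat.prime_three⟩
    refine orderOf_eq_prime (by rw [← pow_mul]; exact hy12) fun h => h1 ?_
    rw [← hψy]
    have e : D.psi y' ^ 4 = 1 := by rw [← map_pow, show y' ^ 4 = 1 from Subtype.ext h, map_one]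
    rw [hψy] at e ⊢
    calc D.psi ⟨k, D.mem_C.2 hkz⟩ = (D.psi ⟨k, D.mem_C.2 hkz⟩ ^ 3)⁻¹ * D.psi ⟨k, D.mem_C.2 hkz⟩ ^ 4 := by group
      _ = 1 := by rw [e, h3, inv_one, mul_one]
  have hinv : v₁ * y ^ 4 * v₁⁻¹ = (y ^ 4)⁻¹ := by
    rw [← conj_pow, ← inv_pow]
    congr 1
    rw [hy, mul_inv_rev, hv₁.inv_eq, hv₂.inv_eq, ← mul_assoc v₁ v₁, hv₁.sq, one_mul]
  obtain ⟨h, hhz, hh⟩ := D.conj_three hk' hk (show y ^ 4 * D.z = D.z * y ^ 4 from
    ((show Commute y D.z from hyz).pow_left 4).eq) hkz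
  refine ⟨h * v₁ * h⁻¹, hv₁.conj hhz, ?_⟩
  have e : h * v₁ * h⁻¹ * (h * y ^ 4 * h⁻¹) * (h * v₁ * h⁻¹)⁻¹ = (h * y ^ 4 * h⁻¹)⁻¹ := by
    calc h * v₁ * h⁻¹ * (h * y ^ 4 * h⁻¹) * (h * v₁ * h⁻¹)⁻¹ = h * (v₁ * y ^ 4 * v₁⁻¹) * h⁻¹ := by group
      _ = _ := by rw [hinv]; group
  rcases hh with r | r <;> rw [r] at e
  · exact e
  · rw [← conj_inv, inv_inj] at e
    exact e

/-- `z` is not the square of an element inverting `k`. -/
theorem no_root (hk : orderOf k = 3) (hkz : k * D.z = D.z * k) {g : G} (hgk : g * k * g⁻¹ = k⁻¹) :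
    g * g ≠ D.z := by
  intro hgg
  have hgz : g * D.z = D.z * g := by rw [← hgg, mul_assoc]
  obtain ⟨v, hv, hvk⟩ := D.exists_inverter hone hk hkz
  -- `g` is `v` times an element of the centraliser
  set q := v * g with hq
  have hqz : q * D.z = D.z * q := ((show Commute v D.z from hv.comm).mul_left hgz).eq
  have hqk : q * k = k * q := by
    refine mul_inv_eq_iff_eq_mul.1 ?_
    calc q * k * q⁻¹ = v * (g * k * g⁻¹) * v⁻¹ := by rw [hq]; group
      _ = (v * k * v⁻¹)⁻¹ := by rw [hgk]; group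
      _ = k := by rw [hvk, inv_inv]
  obtain ⟨m, hm⟩ := D.image_cases hk hkz hqz hqk
  set p := q * (k ^ (m : ℕ))⁻¹ with hp
  have hkmz : k ^ (m : ℕ) * D.z = D.z * k ^ (m : ℕ) := ((show Commute k D.z from hkz).pow_left _).eq
  have hpQ : p ∈ D.Q := by
    refine (D.psi_ker (⟨q, D.mem_C.2 hqz⟩ * (⟨k, D.mem_C.2 hkz⟩ ^ (m : ℕ))⁻¹)).1 ?_
    rw [map_mul, map_inv, map_pow, hm, mul_inv_cancel]
  have hqkm : Commute q (k ^ (m : ℕ)) := (show Commute q k from hqk).pow_right _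
  have hpk : Commute p k := (show Commute q k from hqk).mul_left ((Commute.refl k).pow_left _).inv_left
  have hpz : p * D.z = D.z * p := D.hQ.zcomm p hpQ
  have hqp : q = p * k ^ (m : ℕ) := by rw [hp, inv_mul_cancel_right]
  have hgp : g = v * p * k ^ (m : ℕ) := by
    rw [mul_assoc, ← hqp, hq, ← mul_assoc, hv.sq, one_mul]
  have hsq : v * p * v⁻¹ * p = D.z := by
    rw [← hgg, hgp]
    have h1 : k ^ (m : ℕ) * v = v * (k ^ (m : ℕ))⁻¹ := by
      rw [← inv_pow, ← hvk, conj_pow, hv.inv_eq]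
      calc k ^ (m : ℕ) * v = 1 * (k ^ (m : ℕ) * v) := (one_mul _).symm
        _ = v * (v * k ^ (m : ℕ) * v) := by rw [← hv.sq]; group
    have h2 : (k ^ (m : ℕ))⁻¹ * p = p * (k ^ (m : ℕ))⁻¹ := ((hpk.pow_right _).inv_right).eq.symm
    symm
    calc v * p * k ^ (m : ℕ) * (v * p * k ^ (m : ℕ)) = v * p * (k ^ (m : ℕ) * v) * p * k ^ (m : ℕ) := by group
      _ = v * p * v * ((k ^ (m : ℕ))⁻¹ * p) * k ^ (m : ℕ) := by rw [h1]; group
      _ = v * p * v * p := by rw [h2]; group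
      _ = v * p * v⁻¹ * p := by rw [hv.inv_eq]
  by_cases hp2 : p * p = 1
  · have hpi : p⁻¹ = p := inv_eq_of_mul_eq_one_right hp2
    have hvp : v * p * v⁻¹ = p * D.z := by
      rw [eq_mul_inv_of_mul_eq hsq, hpi, hpz]
    by_cases hp1 : p = 1
    · simp only [hp1, mul_one, mul_inv_cancel] at hsq
      exact D.hQ.zne hsq.symm
    by_cases hpz1 : p = D.z
    · rw [hpz1, D.z2, hv.comm, mul_inv_cancel_right] at hvp
      exact D.hQ.zne hvp
    exact (D.inverter_moves hk hkz hv.comm hvk hp2 hp1 hpz1 hpz hpk.eq).2 hvp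
  · have hsq' := (D.hQ.sq p hpQ).resolve_left hp2
    refine hp2 (hv.hel hpQ (mul_right_cancel (b := p) ?_))
    rw [hsq, hsq']

end Data

end Cfsg.Agent.JThreeType
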